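import Cfsg.Agent.MinDeg.ConstTrace
import Mathlib.LinearAlgebra.Dimension.FreeAndStrongRankCondition

/-!
Further facts on weight spaces: their dimensions add up, they split along a product, conjugate ones
have equal dimensions, and operators preserving a line act by scalars.
-/

set_option autoImplicit false
set_option linter.unusedSectionVars false

namespace CfsgLib.MinDeg

open Module

section Monoid

variable {G : Type*} [Monoid G] {V : Type*} [AddCommGroup V] [Module ℂ V] [FiniteDimensional ℂ V]
  (ρ : Representation ℂ G V) {X : Type*} [AddCommGroup X] [Fintype X] (e : Multiplicative X →* G)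

theorem sum_finrank_weight : ∑ χ : AddChar X ℂ, finrank ℂ (weight ρ e χ) = finrank ℂ V := by
  have h : (∑ χ : AddChar X ℂ, proj ρ e χ : V →ₗ[ℂ] V) = LinearMap.id :=
    LinearMap.ext fun v => by rw [LinearMap.sum_apply, LinearMap.id_apply]; exact sum_proj ρ e v
  have h' := congrArg (LinearMap.trace ℂ V) h
  rw [map_sum, LinearMap.trace_id] at h'
  simp only [trace_proj ρ e] at h'
  exact_mod_cast h'

/-- The character of a product with given components. -/
def prodChar {A B : Type*} [AddCommGroup A] [AddCommGroup B] (α : AddChar A ℂ) (β : AddChar B ℂ) :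
    AddChar (A × B) ℂ :=
  α.compAddMonoidHom (AddMonoidHom.fst A B) * β.compAddMonoidHom (AddMonoidHom.snd A B)

omit [FiniteDimensional ℂ V] in
theorem prodChar_apply {A B : Type*} [AddCommGroup A] [AddCommGroup B] (α : AddChar A ℂ)
    (β : AddChar B ℂ) (x : A × B) : prodChar α β x = α x.1 * β x.2 := rfl

/-- The weight spaces of a product add up to the ones of the second factor. -/
theorem sum_finrank_fibre {A B : Type*} [AddCommGroup A] [Fintype A] [AddCommGroup B] [Fintype B]
    (eAB : Multiplicative (A × B) →* G) (eB : Multiplicative B →* G)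
    (hB : ∀ b, eB (Multiplicative.ofAdd b) = eAB (Multiplicative.ofAdd (0, b))) (β : AddChar B ℂ) :
    ∑ α : AddChar A ℂ, finrank ℂ (weight ρ eAB (prodChar α β)) = finrank ℂ (weight ρ eB β) := by
  classical
  have h : (∑ α : AddChar A ℂ, proj ρ eAB (prodChar α β) : V →ₗ[ℂ] V) = proj ρ eB β := by
    refine LinearMap.ext fun v => ?_
    have hA : (Fintype.card A : ℂ) ≠ 0 := by simp
    rw [LinearMap.sum_apply]
    simp only [proj_apply, ← Finset.smul_sum]
    rw [Finset.sum_comm]
    simp only [← Finset.sum_smul, prodChar_apply, ← Finset.sum_mul]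
    rw [Fintype.sum_prod_type]
    simp only [Prod.fst_neg, Prod.snd_neg, AddChar.sum_apply_eq_ite, neg_eq_zero, ite_mul, zero_mul,
      ite_smul, zero_smul]
    rw [Finset.sum_eq_single (0 : A) (fun a _ ha => by simp [ha]) (by simp), Finset.smul_sum,
      Finset.smul_sum]
    refine Finset.sum_congr rfl fun b _ => ?_
    rw [if_pos rfl, ← hB, smul_smul, smul_smul, Fintype.card_prod, Nat.cast_mul, mul_inv]
    congr 1
    field_simp
  have h' := congrArg (LinearMap.trace ℂ V) h
  rw [map_sum] at h'
  simp only [trace_proj] at h'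
  exact_mod_cast h'

omit [Fintype X] in
/-- An element preserving a line acts on it by a scalar. -/
theorem exists_smul_of_line {χ : AddChar X ℂ} (h1 : finrank ℂ (weight ρ e χ) = 1) {w : V}
    (hw : w ∈ weight ρ e χ) (hw0 : w ≠ 0) {u : V} (hu : u ∈ weight ρ e χ) :
    ∃ c : ℂ, u = c • w := by
  obtain ⟨c, hc⟩ := exists_smul_eq_of_finrank_eq_one h1
    (x := (⟨w, hw⟩ : weight ρ e χ)) (fun h => hw0 (congrArg Subtype.val h)) ⟨u, hu⟩
  exact ⟨c, (congrArg Subtype.val hc).symm⟩

/-- The operators of a group preserving a subspace. -/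
noncomputable def restrictHom {M : Type*} [Monoid M] (r : M →* Module.End ℂ V) (W : Submodule ℂ V)
    (hW : ∀ m, ∀ w ∈ W, r m w ∈ W) : M →* Module.End ℂ W where
  toFun m := (r m).restrict (hW m)
  map_one' := LinearMap.ext fun w => Subtype.ext (by
    show r 1 w = (w : V)
    rw [map_one]; rfl)
  map_mul' a b := LinearMap.ext fun w => Subtype.ext (by
    show r (a * b) w = r a (r b (w : V))
    rw [map_mul]; rfl)

/-- Distinct eigencharacters of a group preserving a subspace bound its dimension. -/
theorem card_le_finrank_of_eigen {ι : Type*} [Fintype ι] (W : Submodule ℂ V)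
    (hW : ∀ x : X, ∀ w ∈ W, ρ (e (Multiplicative.ofAdd x)) w ∈ W) (χ : ι → AddChar X ℂ)
    (hχ : Function.Injective χ) (hex : ∀ i, ∃ w ∈ W, w ≠ 0 ∧ w ∈ weight ρ e (χ i)) :
    Fintype.card ι ≤ finrank ℂ W := by
  let r : Multiplicative X →* Module.End ℂ W := restrictHom (ρ.comp e) W fun m => hW m.toAdd
  have h := card_mul_le_finrank (G := Multiplicative X) r (MonoidHom.id _) χ hχ (d := 1) fun i => by
    obtain ⟨w, hw, hw0, hwe⟩ := hex i
    rw [Nat.one_le_iff_ne_zero, Ne, Submodule.finrank_eq_zero]
    intro hbot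
    have hm : (⟨w, hw⟩ : W) ∈ weight r (MonoidHom.id _) (χ i) := fun x => Subtype.ext (hwe x)
    rw [hbot, Submodule.mem_bot] at hm
    exact hw0 (congrArg Subtype.val hm)
  rwa [mul_one] at h

end Monoid

section Group

variable {G : Type*} [Group G] {V : Type*} [AddCommGroup V] [Module ℂ V] [FiniteDimensional ℂ V]
  (ρ : Representation ℂ G V) {X : Type*} [AddCommGroup X] (e : Multiplicative X →* G)

theorem finrank_weight_equiv (g : G) (φ : X ≃ X)
    (hφ : ∀ x, e (Multiplicative.ofAdd x) * g = g * e (Multiplicative.ofAdd (φ x)))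
    {χ χ' : AddChar X ℂ} (hχ : ∀ x, χ' x = χ (φ x)) :
    finrank ℂ (weight ρ e χ') = finrank ℂ (weight ρ e χ) := by
  refine le_antisymm (finrank_weight_conj ρ e (g := g⁻¹) (g' := g) (mul_inv_cancel g) φ.symm
    (fun x => ?_) fun x => ?_) (finrank_weight_conj ρ e (inv_mul_cancel g) φ hφ hχ)
  · have h := hφ (φ.symm x)
    rw [Equiv.apply_symm_apply] at h
    rw [eq_inv_mul_iff_mul_eq, ← mul_assoc, ← h, mul_inv_cancel_right]
  · rw [hχ, Equiv.apply_symm_apply]

/-- A translate of an eigenvector. -/
theorem eigen_translate {v : V} {g x y : G} {c : ℂ} (h : x * g = g * y) (hv : ρ y v = c • v) :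
    ρ x (ρ g v) = c • ρ g v := by
  rw [← Module.End.mul_apply, ← map_mul, h, map_mul, Module.End.mul_apply, hv, map_smul]

theorem rho_inj {g : G} {v : V} (hv : v ≠ 0) : ρ g v ≠ 0 := fun h => hv (by
  have := congrArg (ρ g⁻¹) h
  rwa [← Module.End.mul_apply, ← map_mul, inv_mul_cancel, map_one, map_zero] at this)

end Group

end CfsgLib.MinDeg
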