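import Cfsg.Agent.MinDeg.Weight

/-!
Weight spaces of an abelian subgroup on which the character is constant off the identity, and equivariant
projections.
-/

set_option autoImplicit false
set_option linter.style.haveILetI false

namespace CfsgLib.MinDeg

open Module

variable {G : Type*} [Monoid G] {V : Type*} [AddCommGroup V] [Module ℂ V] [FiniteDimensional ℂ V]
  (ρ : Representation ℂ G V) {X : Type*} [AddCommGroup X] [Fintype X] (e : Multiplicative X →* G)

theorem trace_proj (χ : AddChar X ℂ) : LinearMap.trace ℂ V (proj ρ e χ) = (finrank ℂ (weight ρ e χ) : ℂ) := by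
  classical
  exact LinearMap.IsProj.trace ⟨fun v => proj_mem ρ e χ v, fun v hv => by rw [proj_of_mem ρ e hv, if_pos rfl]⟩

theorem card_mul_finrank_weight {τ : ℂ}
    (hτ : ∀ x : X, x ≠ 0 → LinearMap.trace ℂ V (ρ (e (Multiplicative.ofAdd x))) = τ) (χ : AddChar X ℂ) :
    (Fintype.card X : ℂ) * (finrank ℂ (weight ρ e χ) : ℂ) = ((finrank ℂ V : ℂ) - τ) + τ * ∑ x, χ (-x) := by
  classical
  rw [← trace_proj ρ e χ, proj, map_smul, map_sum, smul_eq_mul, ← mul_assoc, mul_inv_cancel₀ (by simp), one_mul]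
  simp only [map_smul, smul_eq_mul]
  rw [← Finset.add_sum_erase _ _ (Finset.mem_univ (0 : X)), neg_zero, AddChar.map_zero_eq_one, one_mul,
    ofAdd_zero, map_one, map_one, LinearMap.trace_one,
    Finset.sum_congr rfl fun x hx => by rw [hτ x (Finset.mem_erase.1 hx).1],
    ← Finset.add_sum_erase _ (fun x => χ (-x)) (Finset.mem_univ (0 : X)), neg_zero, AddChar.map_zero_eq_one,
    ← Finset.sum_mul]
  ring

theorem sum_neg_eq {χ : AddChar X ℂ} (hχ : χ ≠ 0) : ∑ x, χ (-x) = 0 := by
  refine (Equiv.sum_comp (Equiv.neg X) fun x => χ x).trans ?_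
  exact AddChar.sum_eq_zero_iff_ne_zero.2 hχ

theorem card_mul_weight_ne_zero {τ : ℂ}
    (hτ : ∀ x : X, x ≠ 0 → LinearMap.trace ℂ V (ρ (e (Multiplicative.ofAdd x))) = τ) {χ : AddChar X ℂ}
    (hχ : χ ≠ 0) : (Fintype.card X : ℂ) * (finrank ℂ (weight ρ e χ) : ℂ) = (finrank ℂ V : ℂ) - τ := by
  rw [card_mul_finrank_weight ρ e hτ, sum_neg_eq hχ, mul_zero, add_zero]

theorem card_mul_weight_zero {τ : ℂ}
    (hτ : ∀ x : X, x ≠ 0 → LinearMap.trace ℂ V (ρ (e (Multiplicative.ofAdd x))) = τ) :
    (Fintype.card X : ℂ) * (finrank ℂ (weight ρ e 0) : ℂ) =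
      (finrank ℂ V : ℂ) - τ + τ * (Fintype.card X : ℂ) := by
  rw [card_mul_finrank_weight ρ e hτ]
  simp

omit [FiniteDimensional ℂ V] in
/-- If only the trivial character occurs the subgroup acts trivially. -/
theorem rho_eq_one_of_weights (h : ∀ χ : AddChar X ℂ, χ ≠ 0 → weight ρ e χ = ⊥) (x : X) :
    ρ (e (Multiplicative.ofAdd x)) = 1 := by
  by_contra hne
  obtain ⟨χ, hχ, hw⟩ := exists_weight ρ e hne
  exact hw (h χ fun h0 => hχ (by rw [h0]; rfl))

omit [FiniteDimensional ℂ V] in
/-- The trivial weight space absorbs translations. -/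
theorem proj_zero_comp (x : X) : (proj ρ e 0).comp (ρ (e (Multiplicative.ofAdd x))) = proj ρ e 0 := by
  refine LinearMap.ext fun v => ?_
  rw [LinearMap.comp_apply, proj_apply, proj_apply]
  congr 1
  refine Fintype.sum_equiv (Equiv.addRight x) _ _ fun y => ?_
  rw [← Module.End.mul_apply, ← map_mul, ← map_mul, ← ofAdd_add]
  simp

omit [FiniteDimensional ℂ V] in
/-- An equivariant projection on an invariant subspace. -/
theorem exists_equivariant {H : Type*} [Group H] [Finite H] (r : Representation ℂ H V) (W : Submodule ℂ V)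
    (hW : ∀ (h : H), ∀ w ∈ W, r h w ∈ W) :
    ∃ ε : Module.End ℂ V, (∀ v, ε v ∈ W) ∧ (∀ w ∈ W, ε w = w) ∧ ∀ h, ε.comp (r h) = (r h).comp ε := by
  classical
  haveI := Fintype.ofFinite H
  obtain ⟨π, hπ⟩ := Submodule.exists_isCompl W
  let P : Module.End ℂ V := W.subtype.comp (W.projectionOnto π hπ)
  have hP : ∀ v, P v ∈ W := fun v => (W.projectionOnto π hπ v).2
  have hPw : ∀ w ∈ W, P w = w := fun w hw => by
    show ((W.projectionOnto π hπ w : W) : V) = w
    rw [Submodule.projectionOnto_apply_left hπ ⟨w, hw⟩]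
  refine ⟨(Fintype.card H : ℂ)⁻¹ • ∑ h, (r h).comp (P.comp (r h⁻¹)), fun v => ?_, fun w hw => ?_, fun k => ?_⟩
  · rw [LinearMap.smul_apply, LinearMap.sum_apply]
    exact W.smul_mem _ (W.sum_mem fun h _ => hW h _ (hP _))
  · rw [LinearMap.smul_apply, LinearMap.sum_apply,
      Finset.sum_congr rfl fun h _ => show (r h).comp (P.comp (r h⁻¹)) w = w by
        rw [LinearMap.comp_apply, LinearMap.comp_apply, hPw _ (hW _ w hw), ← Module.End.mul_apply, ← map_mul,
          mul_inv_cancel, map_one, Module.End.one_apply],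
      Finset.sum_const, Finset.card_univ, ← Nat.cast_smul_eq_nsmul ℂ, smul_smul,
      inv_mul_cancel₀ (by simp), one_smul]
  · rw [LinearMap.smul_comp, LinearMap.comp_smul]
    congr 1
    refine LinearMap.ext fun v => ?_
    simp only [LinearMap.comp_apply, LinearMap.sum_apply, map_sum]
    refine Fintype.sum_equiv (Equiv.mulLeft k⁻¹) _ _ fun h => ?_
    rw [Equiv.coe_mulLeft, ← Module.End.mul_apply (r k), ← map_mul, mul_inv_cancel_left, mul_inv_rev, inv_inv,
      map_mul, Module.End.mul_apply]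

end CfsgLib.MinDeg
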