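import Cfsg.Agent.PermChar.Vectors

/-!
The stabiliser of a line in `SL_{d+1}`: transvections, the Levi factor and its action on the radical.
-/

set_option autoImplicit false
set_option linter.style.haveILetI false

namespace CfsgLib.MinDeg.Lin

open Matrix

variable {F : Type*} [Field F] {n d : ℕ}

/-- The matrix of a transvection. -/
def trMat (v f : Fin n → F) : Matrix (Fin n) (Fin n) F := 1 + vecMulVec v f

theorem trMat_mulVec (v f w : Fin n → F) : trMat v f *ᵥ w = w + (f ⬝ᵥ w) • v := by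
  rw [trMat, add_mulVec, one_mulVec, vecMulVec_mulVec, op_smul_eq_smul]

theorem det_trMat {v f : Fin n → F} (h : f ⬝ᵥ v = 0) : (trMat v f).det = 1 := by
  rw [trMat, vecMulVec_eq (Fin 1), det_one_add_replicateCol_mul_replicateRow, h, add_zero]

theorem ext_mulVec {A B : Matrix (Fin n) (Fin n) F} (h : ∀ v, A *ᵥ v = B *ᵥ v) : A = B :=
  Matrix.toLin'.injective (LinearMap.ext fun v => by rw [Matrix.toLin'_apply, Matrix.toLin'_apply]; exact h v)

theorem sl_ext {A B : Matrix.SpecialLinearGroup (Fin n) F}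
    (h : ∀ v, (A : Matrix (Fin n) (Fin n) F) *ᵥ v = (B : Matrix (Fin n) (Fin n) F) *ᵥ v) : A = B :=
  Subtype.ext (ext_mulVec h)

/-- A transvection. -/
def trv (v f : Fin n → F) (h : f ⬝ᵥ v = 0) : Matrix.SpecialLinearGroup (Fin n) F := ⟨trMat v f, det_trMat h⟩

theorem trv_mulVec (v f : Fin n → F) (h : f ⬝ᵥ v = 0) (w : Fin n → F) :
    (trv v f h : Matrix (Fin n) (Fin n) F) *ᵥ w = w + (f ⬝ᵥ w) • v := trMat_mulVec v f w

theorem trv_congr {v v' f f' : Fin n → F} {h : f ⬝ᵥ v = 0} {h' : f' ⬝ᵥ v' = 0} (hv : v = v') (hf : f = f') :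
    trv v f h = trv v' f' h' := Subtype.ext (by subst hv hf; rfl)

theorem trv_conj (g : Matrix.SpecialLinearGroup (Fin n) F) (v f : Fin n → F) (h : f ⬝ᵥ v = 0)
    (h' : (f ᵥ* ((g⁻¹ : Matrix.SpecialLinearGroup (Fin n) F) : Matrix (Fin n) (Fin n) F)) ⬝ᵥ ((g : Matrix (Fin n) (Fin n) F) *ᵥ v) = 0) :
    g * trv v f h * g⁻¹ =
      trv ((g : Matrix (Fin n) (Fin n) F) *ᵥ v) (f ᵥ* ((g⁻¹ : Matrix.SpecialLinearGroup (Fin n) F) : Matrix (Fin n) (Fin n) F)) h' := by
  refine sl_ext fun w => ?_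
  rw [Matrix.SpecialLinearGroup.coe_mul, Matrix.SpecialLinearGroup.coe_mul, ← mulVec_mulVec, ← mulVec_mulVec, trv_mulVec,
    trv_mulVec, mulVec_add, mulVec_smul, mulVec_mulVec, ← Matrix.SpecialLinearGroup.coe_mul, mul_inv_cancel,
    Matrix.SpecialLinearGroup.coe_one, one_mulVec, dotProduct_mulVec]

theorem conj_dot (g : Matrix.SpecialLinearGroup (Fin n) F) (v f : Fin n → F) :
    (f ᵥ* ((g⁻¹ : Matrix.SpecialLinearGroup (Fin n) F) : Matrix (Fin n) (Fin n) F)) ⬝ᵥ ((g : Matrix (Fin n) (Fin n) F) *ᵥ v) = f ⬝ᵥ v := by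
  rw [← dotProduct_mulVec, mulVec_mulVec, ← Matrix.SpecialLinearGroup.coe_mul, inv_mul_cancel, Matrix.SpecialLinearGroup.coe_one,
    one_mulVec]

/-- The block matrix `diag (a, h)`. -/
def blk (a : F) (h : Matrix (Fin d) (Fin d) F) : Matrix (Fin (d + 1)) (Fin (d + 1)) F :=
  Matrix.of (Fin.cons (Fin.cons a 0) fun i => Fin.cons 0 (h i))

theorem blk_mulVec (a : F) (h : Matrix (Fin d) (Fin d) F) (t : F) (w : Fin d → F) :
    blk a h *ᵥ Fin.cons t w = Fin.cons (a * t) (h *ᵥ w) := by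
  funext i
  refine Fin.cases ?_ (fun j => ?_) i
  · simp [blk, mulVec, dotProduct, Fin.sum_univ_succ]
  · simp [blk, mulVec, dotProduct, Fin.sum_univ_succ]

theorem det_blk (a : F) (h : Matrix (Fin d) (Fin d) F) : (blk a h).det = a * h.det := by
  rw [det_succ_row_zero, Finset.sum_eq_single (0 : Fin (d + 1))]
  · simp only [blk, Fin.val_zero, pow_zero, one_mul, of_apply, Fin.cons_zero]
    congr 1
  · intro j _ hj
    obtain ⟨i, rfl⟩ := Fin.exists_succ_eq.2 hj
    simp [blk]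
  · simp

theorem cons_tail (v : Fin (d + 1) → F) : Fin.cons (v 0) (Fin.tail v) = v := Fin.cons_self_tail v

theorem blk_mul (a b : F) (h k : Matrix (Fin d) (Fin d) F) : blk a h * blk b k = blk (a * b) (h * k) := by
  refine ext_mulVec fun v => ?_
  rw [← cons_tail v, ← mulVec_mulVec, blk_mulVec, blk_mulVec, blk_mulVec, mul_assoc, mulVec_mulVec]

theorem blk_one : blk (1 : F) (1 : Matrix (Fin d) (Fin d) F) = 1 := by
  refine ext_mulVec fun v => ?_
  rw [← cons_tail v, blk_mulVec, one_mul, one_mulVec, one_mulVec]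

theorem gl_det_ne (h : GL (Fin d) F) : (h : Matrix (Fin d) (Fin d) F).det ≠ 0 :=
  ((Matrix.isUnit_iff_isUnit_det _).1 h.isUnit).ne_zero

/-- The Levi factor. -/
noncomputable def levi : GL (Fin d) F →* Matrix.SpecialLinearGroup (Fin (d + 1)) F where
  toFun h := ⟨blk ((h : Matrix (Fin d) (Fin d) F).det)⁻¹ h, by
    rw [det_blk, inv_mul_cancel₀ (gl_det_ne h)]⟩
  map_one' := Subtype.ext (by simp [blk_one])
  map_mul' h k := Subtype.ext (by
    show blk _ _ = blk _ _ * blk _ _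
    simp [blk_mul, _root_.mul_inv_rev, mul_comm])

theorem levi_mulVec (h : GL (Fin d) F) (t : F) (w : Fin d → F) :
    (levi h : Matrix (Fin (d + 1)) (Fin (d + 1)) F) *ᵥ Fin.cons t w =
      Fin.cons (((h : Matrix (Fin d) (Fin d) F).det)⁻¹ * t) ((h : Matrix (Fin d) (Fin d) F) *ᵥ w) :=
  blk_mulVec _ _ t w

/-- The first basis vector. -/
def e0 : Fin (d + 1) → F := Fin.cons 1 0

theorem e0_eq : (e0 : Fin (d + 1) → F) = Pi.single 0 1 := by
  funext i
  refine Fin.cases ?_ (fun j => ?_) i <;> simp [e0]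

theorem cons_dot (s t : F) (x w : Fin d → F) :
    (Fin.cons s x : Fin (d + 1) → F) ⬝ᵥ Fin.cons t w = s * t + x ⬝ᵥ w := by
  simp [dotProduct, Fin.sum_univ_succ]

/-- The radical. -/
def rad (x : Fin d → F) : Matrix.SpecialLinearGroup (Fin (d + 1)) F :=
  trv e0 (Fin.cons 0 x) (by rw [e0, cons_dot]; simp)

theorem rad_mulVec (x : Fin d → F) (t : F) (w : Fin d → F) :
    (rad x : Matrix (Fin (d + 1)) (Fin (d + 1)) F) *ᵥ Fin.cons t w = Fin.cons (t + x ⬝ᵥ w) w := by
  rw [rad, trv_mulVec, cons_dot]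
  funext i
  refine Fin.cases ?_ (fun j => ?_) i <;> simp [e0]

/-- The radical as a homomorphism. -/
def uHom : Multiplicative (Fin d → F) →* Matrix.SpecialLinearGroup (Fin (d + 1)) F :=
  MonoidHom.mk' (fun x => rad (Multiplicative.toAdd x)) fun x y => sl_ext fun v => by
    rw [Matrix.SpecialLinearGroup.coe_mul, ← cons_tail v, ← mulVec_mulVec, rad_mulVec, rad_mulVec, rad_mulVec,
      toAdd_mul, add_dotProduct]
    congr 1
    ring

theorem uHom_apply (x : Fin d → F) : uHom (Multiplicative.ofAdd x) = rad x := rfl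

theorem uHom_levi (h : GL (Fin d) F) (x : Fin d → F) :
    rad x * levi h = levi h *
      rad ((h : Matrix (Fin d) (Fin d) F).det • (x ᵥ* (h : Matrix (Fin d) (Fin d) F))) := by
  refine sl_ext fun v => ?_
  rw [← cons_tail v, Matrix.SpecialLinearGroup.coe_mul, Matrix.SpecialLinearGroup.coe_mul, ← mulVec_mulVec, ← mulVec_mulVec,
    levi_mulVec, rad_mulVec, rad_mulVec, levi_mulVec, smul_dotProduct, ← dotProduct_mulVec, smul_eq_mul, mul_add,
    inv_mul_cancel_left₀ (gl_det_ne h)]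

theorem levi_trv (v f : Fin d → F) (h : f ⬝ᵥ v = 0) :
    levi (Matrix.SpecialLinearGroup.toGL (trv v f h)) =
      trv (Fin.cons 0 v) (Fin.cons 0 f) (by rw [cons_dot, h]; simp) := by
  refine sl_ext fun w => ?_
  rw [← cons_tail w, levi_mulVec, trv_mulVec, cons_dot, Matrix.SpecialLinearGroup.coe_GL_coe_matrix, trv_mulVec,
    (trv v f h).2]
  funext i
  refine Fin.cases ?_ (fun j => ?_) i <;> simp [Fin.tail]

/-- Elements fixing the first line. -/
theorem exists_decomp (g : Matrix.SpecialLinearGroup (Fin (d + 1)) F) {a : F}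
    (hg : (g : Matrix (Fin (d + 1)) (Fin (d + 1)) F) *ᵥ e0 = a • e0) :
    ∃ (h : GL (Fin d) F) (x : Fin d → F), g = levi h * rad x ∧ a = ((h : Matrix (Fin d) (Fin d) F).det)⁻¹ := by
  have hcol : ∀ i, (g : Matrix (Fin (d + 1)) (Fin (d + 1)) F) i 0 = a * (e0 : Fin (d + 1) → F) i := fun i => by
    have := congrFun hg i
    rwa [e0_eq, mulVec_single_one, col_apply, Pi.smul_apply, smul_eq_mul, ← e0_eq] at this
  set H : Matrix (Fin d) (Fin d) F := (g : Matrix (Fin (d + 1)) (Fin (d + 1)) F).submatrix Fin.succ Fin.succ with hH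
  have hdet : a * H.det = 1 := by
    rw [← g.2, det_succ_column_zero, Finset.sum_eq_single (0 : Fin (d + 1))]
    · rw [hcol]; simp [e0, hH, Fin.succAbove_zero]
    · intro i _ hi
      obtain ⟨j, rfl⟩ := Fin.exists_succ_eq.2 hi
      rw [hcol]; simp [e0]
    · simp
  have hH0 : H.det ≠ 0 := fun h => by rw [h, mul_zero] at hdet; exact zero_ne_one hdet
  refine ⟨GeneralLinearGroup.mkOfDetNeZero H hH0,
    H.det • fun j => (g : Matrix (Fin (d + 1)) (Fin (d + 1)) F) 0 j.succ, sl_ext fun v => ?_, ?_⟩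
  · rw [← cons_tail v, Matrix.SpecialLinearGroup.coe_mul, ← mulVec_mulVec, rad_mulVec, levi_mulVec]
    funext i
    refine Fin.cases ?_ (fun j => ?_) i
    · rw [Fin.cons_zero, mulVec, dotProduct, Fin.sum_univ_succ, hcol]
      simp only [Fin.cons_zero, Fin.cons_succ, smul_dotProduct, smul_eq_mul]
      show _ = (H.det)⁻¹ * _
      rw [eq_inv_of_mul_eq_one_left hdet, mul_add, inv_mul_cancel_left₀ hH0]
      simp [e0, dotProduct]
    · rw [Fin.cons_succ, mulVec, dotProduct, Fin.sum_univ_succ, hcol]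
      simp [e0, mulVec, dotProduct, hH]
  · show a = (H.det)⁻¹
    exact eq_inv_of_mul_eq_one_left hdet

variable [DecidableEq F]

/-- Transitivity on non-zero rows. -/
theorem exists_row_map (hd : 2 ≤ d) {x y : Fin d → F} (hx : x ≠ 0) (hy : y ≠ 0) :
    ∃ h : Matrix.SpecialLinearGroup (Fin d) F, x ᵥ* (h : Matrix (Fin d) (Fin d) F) = y := by
  obtain ⟨A, hA⟩ := CfsgLib.Char.exists_sl_map (k := 1) (n := d) (by omega) (b := ![x])
    (LinearIndependent.of_subsingleton 0 hx)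
  obtain ⟨B, hB⟩ := CfsgLib.Char.exists_sl_map (k := 1) (n := d) (by omega) (b := ![y])
    (LinearIndependent.of_subsingleton 0 hy)
  have hA0 := hA 0
  have hB0 := hB 0
  simp only [Matrix.cons_val_zero] at hA0 hB0
  refine ⟨(B * A⁻¹).transpose, ?_⟩
  rw [Matrix.SpecialLinearGroup.coe_transpose, vecMul_transpose, ← hA0, mulVec_mulVec, ← Matrix.SpecialLinearGroup.coe_mul,
    inv_mul_cancel_right]
  exact hB0

/-- A transvection with centre `g e₀` is the conjugate by `g` of a radical element. -/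
theorem exists_rad_of_map {g : Matrix.SpecialLinearGroup (Fin (d + 1)) F} {v f : Fin (d + 1) → F}
    (hg0 : (g : Matrix (Fin (d + 1)) (Fin (d + 1)) F) *ᵥ e0 = v) (hf : f ≠ 0) (h : f ⬝ᵥ v = 0) :
    ∃ x : Fin d → F, x ≠ 0 ∧ g * rad x * g⁻¹ = trv v f h := by
  set f' : Fin (d + 1) → F := f ᵥ* (g : Matrix (Fin (d + 1)) (Fin (d + 1)) F) with hf'
  have hf0 : f' 0 = 0 := by
    have h1 : f' ⬝ᵥ e0 = 0 := by rw [hf', ← dotProduct_mulVec, hg0, h]
    rw [← cons_tail f', e0, cons_dot] at h1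
    simpa using h1
  have hf1 : Fin.cons 0 (Fin.tail f') = f' := by rw [← hf0, cons_tail]
  have hback : f' ᵥ* ((g⁻¹ : Matrix.SpecialLinearGroup (Fin (d + 1)) F) : Matrix (Fin (d + 1)) (Fin (d + 1)) F) = f := by
    rw [hf', vecMul_vecMul, ← Matrix.SpecialLinearGroup.coe_mul, mul_inv_cancel, Matrix.SpecialLinearGroup.coe_one, vecMul_one]
  refine ⟨Fin.tail f', fun h0 => hf ?_, ?_⟩
  · rw [← hback, ← hf1, h0, show (Fin.cons (0 : F) (0 : Fin d → F) : Fin (d + 1) → F) = 0 from ?_, zero_vecMul]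
    funext i
    refine Fin.cases ?_ (fun j => ?_) i <;> simp
  · rw [rad, trv_conj g _ _ _ (by rw [conj_dot, e0, cons_dot]; simp)]
    exact trv_congr hg0 (by rw [hf1, hback])

/-- Every transvection is a conjugate of a radical element. -/
theorem exists_conj_rad (hd : 1 ≤ d) {v f : Fin (d + 1) → F} (hv : v ≠ 0) (hf : f ≠ 0) (h : f ⬝ᵥ v = 0) :
    ∃ (g : Matrix.SpecialLinearGroup (Fin (d + 1)) F) (x : Fin d → F), x ≠ 0 ∧ g * rad x * g⁻¹ = trv v f h ∧
      (g : Matrix (Fin (d + 1)) (Fin (d + 1)) F) *ᵥ e0 = v := by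
  obtain ⟨g, hg⟩ := CfsgLib.Char.exists_sl_map (k := 1) (n := d + 1) (by omega) (b := ![v])
    (LinearIndependent.of_subsingleton 0 hv)
  have hg0 : (g : Matrix (Fin (d + 1)) (Fin (d + 1)) F) *ᵥ e0 = v := by
    have := hg 0
    rw [e0_eq]
    exact this
  obtain ⟨x, hx, he⟩ := exists_rad_of_map hg0 hf h
  exact ⟨g, x, hx, he, hg0⟩

end CfsgLib.MinDeg.Lin
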