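import Cfsg.Agent.MinDeg.Weight

/-!
An irreducible representation of degree at least two of a perfect group, simple modulo its centre,
moves every non-central element.
-/

set_option autoImplicit false
set_option linter.style.haveILetI false

namespace CfsgLib.MinDeg

open Module

variable {G : Type*} [Group G]

/-- A representation trivial on a non-central element is trivial. -/
theorem rho_eq_one_of_not_central (hperf : commutator G = ⊤) [IsSimpleGroup (G ⧸ Subgroup.center G)] {V : Type*}
    [AddCommGroup V] [Module ℂ V] (ρ : Representation ℂ G V) {a : G} (ha : a ∉ Subgroup.center G) (ha1 : ρ a = 1)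
    (g₀ : G) : ρ g₀ = 1 := by
  let K : Subgroup G := ρ.toHomUnits.ker
  have hmem : ∀ g, g ∈ K ↔ ρ g = 1 := fun g => by
    simp [K, MonoidHom.mem_ker, Units.ext_iff]
  haveI : K.Normal := MonoidHom.normal_ker _
  have hπ := QuotientGroup.mk'_surjective (Subgroup.center G)
  have hKn : (K.map (QuotientGroup.mk' (Subgroup.center G))).Normal := Subgroup.Normal.map inferInstance _ hπ
  rcases hKn.eq_bot_or_eq_top with hb | ht
  · have h1 : (QuotientGroup.mk' (Subgroup.center G)) a ∈ K.map (QuotientGroup.mk' (Subgroup.center G)) :=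
      ⟨a, (hmem a).2 ha1, rfl⟩
    rw [hb, Subgroup.mem_bot] at h1
    exact absurd ((QuotientGroup.eq_one_iff a).1 h1) ha
  · have htop : ∀ g : G, ∃ k ∈ K, k⁻¹ * g ∈ Subgroup.center G := fun g => by
      obtain ⟨k, hk, e⟩ := (ht ▸ Subgroup.mem_top (QuotientGroup.mk' (Subgroup.center G) g) :
        QuotientGroup.mk' (Subgroup.center G) g ∈ K.map (QuotientGroup.mk' (Subgroup.center G)))
      exact ⟨k, hk, QuotientGroup.eq.1 e⟩
    have hle : commutator G ≤ K := by
      rw [_root_.commutator_def, Subgroup.commutator_le]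
      intro g _ h _
      obtain ⟨k, hk, hkz⟩ := htop g
      obtain ⟨k', hk', hkz'⟩ := htop h
      set z := k⁻¹ * g with hz
      set z' := k'⁻¹ * h with hz'
      have hg : g = k * z := by rw [hz, mul_inv_cancel_left]
      have hh : h = k' * z' := by rw [hz', mul_inv_cancel_left]
      have c1 : Commute z k' := (Subgroup.mem_center_iff.1 hkz k').symm
      have c2 : Commute z' k := (Subgroup.mem_center_iff.1 hkz' k).symm
      have c3 : Commute z z' := (Subgroup.mem_center_iff.1 hkz z').symm
      rw [hmem, commutatorElement_def, hg, hh]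
      have e1 : k * z * (k' * z') * (k * z)⁻¹ * (k' * z')⁻¹ = k * k' * k⁻¹ * k'⁻¹ := by
        calc k * z * (k' * z') * (k * z)⁻¹ * (k' * z')⁻¹
            = k * (z * k') * (z' * z⁻¹) * k⁻¹ * z'⁻¹ * k'⁻¹ := by group
          _ = k * (k' * z) * (z⁻¹ * z') * k⁻¹ * z'⁻¹ * k'⁻¹ := by rw [c1.eq, c3.symm.inv_right.eq]
          _ = k * k' * (z' * k⁻¹) * z'⁻¹ * k'⁻¹ := by group
          _ = k * k' * (k⁻¹ * z') * z'⁻¹ * k'⁻¹ := by rw [c2.inv_right.eq]
          _ = k * k' * k⁻¹ * k'⁻¹ := by group
      rw [e1]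
      exact (hmem _).1 (mul_mem (mul_mem (mul_mem hk hk') (inv_mem hk)) (inv_mem hk'))
    exact (hmem g₀).1 (hle (hperf ▸ Subgroup.mem_top g₀))

theorem rho_ne_one (hperf : commutator G = ⊤) [IsSimpleGroup (G ⧸ Subgroup.center G)] {V : Type*}
    [AddCommGroup V] [Module ℂ V] [FiniteDimensional ℂ V] {ρ : Representation ℂ G V} (hρ : ρ.IsIrreducible)
    (h2 : 2 ≤ finrank ℂ V) {a : G} (ha : a ∉ Subgroup.center G) : ρ a ≠ 1 := fun ha1 => by
  have := rho_trivial_degree ρ hρ (rho_eq_one_of_not_central hperf ρ ha ha1)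
  omega

end CfsgLib.MinDeg
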