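import Cfsg.Agent.MinDeg.QuadFibre

/-!
The number of quadratic forms congruent to one with non-zero polarisation, characteristic two.
-/

set_option autoImplicit false
set_option linter.style.haveILetI false

namespace CfsgLib.MinDeg

open Module

theorem exists_equiv_tuple {F V : Type*} [Field F] [AddCommGroup V] [Module F V] [FiniteDimensional F V]
    {k : ℕ} {a a' : Fin k → V} (ha : LinearIndependent F a) (ha' : LinearIndependent F a') :
    ∃ g : V ≃ₗ[F] V, ∀ i, g (a i) = a' i := by
  obtain ⟨C, hC⟩ := Submodule.exists_isCompl (Submodule.span F (Set.range a))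
  obtain ⟨C', hC'⟩ := Submodule.exists_isCompl (Submodule.span F (Set.range a'))
  let e : Submodule.span F (Set.range a) ≃ₗ[F] Submodule.span F (Set.range a') :=
    (Basis.span ha).equiv (Basis.span ha') (Equiv.refl _)
  have h1 := Submodule.finrank_add_eq_of_isCompl hC
  have h2 := Submodule.finrank_add_eq_of_isCompl hC'
  have h3 := finrank_span_eq_card ha
  have h4 := finrank_span_eq_card ha'
  let eC : C ≃ₗ[F] C' := LinearEquiv.ofFinrankEq C C' (by omega)
  refine ⟨((Submodule.prodEquivOfIsCompl _ _ hC).symm.trans (e.prodCongr eC)).trans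
    (Submodule.prodEquivOfIsCompl _ _ hC'), fun i => ?_⟩
  have hi : a i ∈ Submodule.span F (Set.range a) := Submodule.subset_span ⟨i, rfl⟩
  have he : e ⟨a i, hi⟩ = Basis.span ha' i := by
    rw [show (⟨a i, hi⟩ : Submodule.span F (Set.range a)) = Basis.span ha i from
      (Basis.span_apply ha i).symm]
    exact Basis.equiv_apply _ _ _ _
  simp only [LinearEquiv.trans_apply, LinearEquiv.prodCongr_apply]
  rw [show (Submodule.prodEquivOfIsCompl _ _ hC).symm (a i) = (⟨a i, hi⟩, 0) from
    Submodule.prodEquivOfIsCompl_symm_apply_left _ _ hC ⟨a i, hi⟩]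
  simp [he, Basis.span_apply]

variable {F : Type*} [Field F] [Fintype F] [CharP F 2] {V : Type*} [AddCommGroup V] [Module F V]
  {Q : V → F} {B : V →ₗ[F] V →ₗ[F] F}

/-- The orbit of a quadratic form with non-zero polarisation is large. -/
theorem card_quad_orbit_ge [Fintype V] (h : IsQuad Q B) {u v : V} (huv : B u v = 1) :
    (Fintype.card V - 1) * (Fintype.card V - Fintype.card F) ≤
      2 * (Fintype.card F + 1) * Nat.card (Set.range fun g : V ≃ₗ[F] V => fun x => Q (g x)) := by
  classical
  haveI : Finite (V →ₗ[F] F) := Module.finite_of_finite F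
  haveI := Fintype.ofFinite (V →ₗ[F] F)
  haveI : Finite (V ≃ₗ[F] V) := Finite.of_injective _ DFunLike.coe_injective
  haveI := Fintype.ofFinite (V ≃ₗ[F] V)
  set q := Fintype.card F with hq
  set O : Finset (V → F) := Finset.univ.image fun g : V ≃ₗ[F] V => fun x => Q (g x) with hO
  have hOc : Nat.card (Set.range fun g : V ≃ₗ[F] V => fun x => Q (g x)) = O.card := by
    rw [hO, Nat.card_eq_card_toFinset, Set.toFinset_range]
  rw [hOc]
  have hvu : B v u = 1 := by rw [h.symm, huv]
  have hq2 : 2 ≤ q := Fintype.one_lt_card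
  -- the polar complement of the plane
  let ev : V →ₗ[F] F × F := (B.flip u).prod (B.flip v)
  let W := LinearMap.ker ev
  have hW : ∀ {x : V}, x ∈ W ↔ B x u = 0 ∧ B x v = 0 := by
    intro x; simp [W, ev, Prod.ext_iff]
  have hWc : Nat.card W * (q * q) = Fintype.card V := by
    have hr : LinearMap.range ev = ⊤ := by
      rw [LinearMap.range_eq_top]
      intro x
      refine ⟨x.2 • u + x.1 • v, ?_⟩
      simp [ev, h.self, huv, hvu]
    have h1 := LinearMap.finrank_range_add_finrank_ker ev
    rw [hr, finrank_top, Module.finrank_prod, Module.finrank_self] at h1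
    rw [Module.natCard_eq_pow_finrank (K := F), Module.card_eq_pow_finrank (K := F) (V := V), ← h1,
      Nat.card_eq_fintype_card, ← hq]
    ring
  haveI : Fintype W := Fintype.ofFinite W
  set w := Nat.card W with hw
  -- the functionals killing the plane
  let K := LinearMap.ker ((Module.Dual.eval F V u).prod (Module.Dual.eval F V v))
  have hKmem : ∀ {f : V →ₗ[F] F}, f ∈ K ↔ f u = 0 ∧ f v = 0 := by
    intro f; simp [K, Prod.ext_iff]
  have hKc : Nat.card K = w := by
    have hr : LinearMap.range ((Module.Dual.eval F V u).prod (Module.Dual.eval F V v)) = ⊤ := by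
      rw [LinearMap.range_eq_top]
      intro x
      refine ⟨x.2 • B u + x.1 • B v, ?_⟩
      simp [h.self, huv, hvu]
    have h1 := LinearMap.finrank_range_add_finrank_ker ((Module.Dual.eval F V u).prod (Module.Dual.eval F V v))
    have h2 := LinearMap.finrank_range_add_finrank_ker ev
    have hr' : LinearMap.range ev = ⊤ := by
      rw [LinearMap.range_eq_top]
      intro x
      refine ⟨x.2 • u + x.1 • v, ?_⟩
      simp [ev, h.self, huv, hvu]
    rw [hr, finrank_top, Subspace.dual_finrank_eq] at h1
    rw [hr', finrank_top] at h2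
    rw [hw, Module.natCard_eq_pow_finrank (K := F), Module.natCard_eq_pow_finrank (K := F) (V := W)]
    congr 1
    show finrank F (LinearMap.ker ((Module.Dual.eval F V u).prod (Module.Dual.eval F V v))) =
      finrank F (LinearMap.ker ev)
    omega
  haveI : Fintype K := Fintype.ofFinite K
  -- the pairs
  let polar : (V → F) → V → V → F := fun T x y => T (x + y) + T x + T y
  have hpol : ∀ (g : V ≃ₗ[F] V) (x y : V), polar (fun z => Q (g z)) x y = B (g x) (g y) := fun g x y => by
    show Q (g (x + y)) + Q (g x) + Q (g y) = _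
    rw [map_add, h.add, show Q (g x) + Q (g y) + B (g x) (g y) + Q (g x) + Q (g y) =
      B (g x) (g y) + ((Q (g x) + Q (g x)) + (Q (g y) + Q (g y))) by ring, CharTwo.add_self_eq_zero,
      CharTwo.add_self_eq_zero, add_zero, add_zero]
  set P : Finset (Fin 2 → V) := Finset.univ.filter fun a => LinearIndependent F a with hP
  have hPc : P.card = (Fintype.card V - 1) * (Fintype.card V - q) := by
    have h2 : 2 ≤ finrank F V := by
      have := Submodule.finrank_le (LinearMap.range ev)
      have hr' : LinearMap.range ev = ⊤ := by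
        rw [LinearMap.range_eq_top]
        intro x
        refine ⟨x.2 • u + x.1 • v, ?_⟩
        simp [ev, h.self, huv, hvu]
      have h1 := LinearMap.finrank_range_add_finrank_ker ev
      rw [hr', finrank_top, Module.finrank_prod, Module.finrank_self] at h1
      omega
    have h1 := card_linearIndependent (K := F) (V := V) h2
    rw [Nat.card_eq_fintype_card, Fintype.card_subtype, Fin.prod_univ_two, Fin.val_zero, Fin.val_one,
      pow_zero, pow_one, ← Module.card_eq_pow_finrank] at h1
    exact h1
  have hM : ∀ a ∈ P, w * w * fibre Q ≤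
      (O.filter fun T => polar T (a 0) (a 1) = 1).card := by
    intro a ha
    have hind : LinearIndependent F ![u, v] := by
      rw [LinearIndependent.pair_iff]
      intro s t hst
      have h1 := congrArg (fun z => B z v) hst
      have h2 := congrArg (fun z => B z u) hst
      simp [h.self, huv] at h1
      simp [h.self, hvu] at h2
      exact ⟨h1, h2⟩
    obtain ⟨g, hg⟩ := exists_equiv_tuple (Finset.mem_filter.1 ha).2 hind
    have hg0 : g (a 0) = u := hg 0
    have hg1 : g (a 1) = v := hg 1
    have key : ∀ (f f' : K) (x : V), (f' : V →ₗ[F] F) (x + (f : V →ₗ[F] F) x • u) = (f' : V →ₗ[F] F) x := by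
      intro f f' x
      rw [map_add, map_smul, (hKmem.1 f'.2).1, smul_zero, add_zero]
    -- shifts
    let s : K × K → V → V := fun f x => x + (f.1 : V →ₗ[F] F) x • u + (f.2 : V →ₗ[F] F) x • v
    haveI : Fintype {l : V →ₗ[F] F // Addable Q l} := Fintype.ofFinite _
    rw [fibre, ← hKc, Nat.card_eq_fintype_card, Nat.card_eq_fintype_card]
    calc Fintype.card K * Fintype.card K * Fintype.card {l : V →ₗ[F] F // Addable Q l}
        = ((Finset.univ : Finset (K × K)) ×ˢ (Finset.univ : Finset {l : V →ₗ[F] F // Addable Q l})).card := by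
          simp [Finset.card_product]
      _ ≤ _ := by
        refine Finset.card_le_card_of_injOn
          (fun z x => Q (s z.1 (g x)) + (z.2 : V →ₗ[F] F) (s z.1 (g x)) ^ 2) ?_ ?_
        · rintro ⟨⟨f1, f2⟩, l, g', hg'⟩ -
          obtain ⟨hf1u, hf1v⟩ := hKmem.1 f1.2
          obtain ⟨hf2u, hf2v⟩ := hKmem.1 f2.2
          let L : V →ₗ[F] V := LinearMap.id + (f1 : V →ₗ[F] F).smulRight u + (f2 : V →ₗ[F] F).smulRight v
          have hL : Function.Involutive L := fun x => by
            simp only [L, LinearMap.add_apply, LinearMap.id_coe, id_eq, LinearMap.smulRight_apply, map_add,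
              map_smul, hf1u, hf1v, hf2u, hf2v, smul_zero, add_zero, zero_smul]
            calc x + (f1 : V →ₗ[F] F) x • u + (f2 : V →ₗ[F] F) x • v + (f1 : V →ₗ[F] F) x • u +
                  (f2 : V →ₗ[F] F) x • v
                = x + (((f1 : V →ₗ[F] F) x + (f1 : V →ₗ[F] F) x) • u +
                    ((f2 : V →ₗ[F] F) x + (f2 : V →ₗ[F] F) x) • v) := by module
              _ = x := by simp [CharTwo.add_self_eq_zero]
          rw [Finset.mem_coe, Finset.mem_filter]
          refine ⟨Finset.mem_image.2 ⟨(g.trans (LinearEquiv.ofInvolutive L hL)).trans g', Finset.mem_univ _, ?_⟩, ?_⟩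
          · funext x
            exact (hg' _).symm
          · have hlin : ∀ x y, s (f1, f2) (g (x + y)) = s (f1, f2) (g x) + s (f1, f2) (g y) := fun x y => by
              rw [map_add]; exact (L.map_add _ _)
            have e0 : s (f1, f2) (g (a 0)) = u := by simp [s, hg0, hf1u, hf2u]
            have e1 : s (f1, f2) (g (a 1)) = v := by simp [s, hg1, hf1v, hf2v]
            have e01 : s (f1, f2) (g (a 0 + a 1)) = u + v := by rw [hlin, e0, e1]
            simp only [polar, e01, e0, e1, h.add, map_add l, CharTwo.add_sq, huv]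
            have h2 : (2 : F) = 0 := CharTwo.two_eq_zero
            linear_combination (Q u + Q v + l u ^ 2 + l v ^ 2) * h2
        · rintro ⟨⟨f1, f2⟩, l⟩ - ⟨⟨f1', f2'⟩, l'⟩ - e
          have hT : ∀ x, Q (s (f1, f2) x) + (l : V →ₗ[F] F) (s (f1, f2) x) ^ 2 =
              Q (s (f1', f2') x) + (l' : V →ₗ[F] F) (s (f1', f2') x) ^ 2 := fun x => by
            have := congrFun e (g.symm x)
            simpa using this
          have hB : ∀ x y, B (s (f1, f2) x) (s (f1, f2) y) = B (s (f1', f2') x) (s (f1', f2') y) := by
            intro x y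
            have hadd : ∀ (z : K × K) (a b : V), s z (a + b) = s z a + s z b := fun z a b => by
              simp only [s, map_add, add_smul]; abel
            have h0 := hT (x + y)
            rw [hadd, hadd, h.add (s (f1, f2) x) (s (f1, f2) y), h.add (s (f1', f2') x) (s (f1', f2') y),
              map_add (l : V →ₗ[F] F), map_add (l' : V →ₗ[F] F), CharTwo.add_sq, CharTwo.add_sq] at h0
            linear_combination h0 - hT x - hT y
          obtain ⟨hf1u, hf1v⟩ := hKmem.1 f1.2
          obtain ⟨hf2u, hf2v⟩ := hKmem.1 f2.2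
          obtain ⟨hf1u', hf1v'⟩ := hKmem.1 f1'.2
          obtain ⟨hf2u', hf2v'⟩ := hKmem.1 f2'.2
          obtain rfl : f2 = f2' := Subtype.ext (LinearMap.ext fun x => by
            have h0 := hB x u
            simp only [s, hf1u, hf2u, hf1u', hf2u', zero_smul, add_zero, map_add, map_smul, LinearMap.add_apply,
              LinearMap.smul_apply, h.self, hvu, smul_eq_mul, mul_zero, mul_one] at h0
            exact add_left_cancel h0)
          obtain rfl : f1 = f1' := Subtype.ext (LinearMap.ext fun x => by
            have h0 := hB x v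
            simp only [s, hf1v, hf2v, hf1v', zero_smul, add_zero, map_add, map_smul, LinearMap.add_apply,
              LinearMap.smul_apply, h.self, huv, smul_eq_mul, mul_zero, mul_one] at h0
            exact add_left_cancel h0)
          refine Prod.ext rfl (Subtype.ext (LinearMap.ext fun x => ?_))
          have hsurj : Function.Surjective (s (f1, f2)) := fun y => ⟨s (f1, f2) y, by
            simp only [s, map_add, map_smul, hf1u, hf1v, hf2u, hf2v, smul_zero, add_zero]
            calc y + (f1 : V →ₗ[F] F) y • u + (f2 : V →ₗ[F] F) y • v + (f1 : V →ₗ[F] F) y • u +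
                  (f2 : V →ₗ[F] F) y • v
                = y + (((f1 : V →ₗ[F] F) y + (f1 : V →ₗ[F] F) y) • u +
                    ((f2 : V →ₗ[F] F) y + (f2 : V →ₗ[F] F) y) • v) := by module
              _ = y := by simp [CharTwo.add_self_eq_zero]⟩
          obtain ⟨y, rfl⟩ := hsurj x
          exact sq_inj (add_left_cancel (hT y))
  set m := (Finset.univ.filter fun z : V × V => B z.1 z.2 = 1).card with hm
  have hbelow : ∀ T ∈ O, (P.filter fun a => polar T (a 0) (a 1) = 1).card ≤ m := by
    intro T hT
    obtain ⟨g, -, rfl⟩ := Finset.mem_image.1 hT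
    refine Finset.card_le_card_of_injOn (fun a => (g (a 0), g (a 1))) (fun a ha => ?_) ?_
    · rw [Finset.mem_coe, Finset.mem_filter] at ha
      rw [Finset.mem_coe, Finset.mem_filter]
      exact ⟨Finset.mem_univ _, (hpol g _ _).symm.trans ha.2⟩
    · intro a _ b _ e
      funext i
      fin_cases i
      · exact g.injective (congrArg Prod.fst e)
      · exact g.injective (congrArg Prod.snd e)
  have key : P.card * (w * w * fibre Q) ≤ O.card * m :=
    Finset.card_mul_le_card_mul (fun (a : Fin 2 → V) (T : V → F) => polar T (a 0) (a 1) = 1) hM hbelow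
  have hline : ∀ x : V, (Finset.univ.filter fun y => B x y = 1).card * q ≤ Fintype.card V := by
    intro x
    rcases eq_or_ne (B x) 0 with hx | hx
    · simp [hx]
    · obtain ⟨z, hz⟩ : ∃ z, B x z = 1 := by
        obtain ⟨z, hz⟩ : ∃ z, B x z ≠ 0 := by
          by_contra hc
          push_neg at hc
          exact hx (LinearMap.ext hc)
        exact ⟨(B x z)⁻¹ • z, by rw [map_smul, smul_eq_mul, inv_mul_cancel₀ hz]⟩
      calc (Finset.univ.filter fun y => B x y = 1).card * q
          = ((Finset.univ.filter fun y => B x y = 1) ×ˢ (Finset.univ : Finset F)).card := by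
            rw [Finset.card_product, Finset.card_univ]
        _ ≤ (Finset.univ : Finset V).card := by
            refine Finset.card_le_card_of_injOn (fun z' => z'.1 + z'.2 • z) (fun _ _ => Finset.mem_univ _) ?_
            rintro ⟨y, t⟩ hy ⟨y', t'⟩ hy' e
            simp only [Finset.coe_product, Set.mem_prod, Finset.mem_coe, Finset.mem_filter] at hy hy'
            have h1 := congrArg (B x) e
            simp only [map_add, map_smul, hz, hy.1.2, hy'.1.2, smul_eq_mul, mul_one] at h1
            obtain rfl := add_left_cancel h1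
            exact Prod.ext (add_right_cancel e) rfl
        _ = Fintype.card V := Finset.card_univ
  have hmsum : ∀ S : Finset V, (∀ x ∉ S, ∀ y, B x y ≠ 1) → m * q ≤ S.card * Fintype.card V := by
    intro S hS
    have h1 : m = ∑ x ∈ S, (Finset.univ.filter fun y => B x y = 1).card := by
      rw [hm, Finset.card_filter, Fintype.sum_prod_type, ← Finset.sum_subset (Finset.subset_univ S)]
      · exact Finset.sum_congr rfl fun x _ => (Finset.card_filter _ _).symm
      · intro x _ hx
        exact Finset.sum_eq_zero fun y _ => if_neg (hS x hx y)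
    rw [h1, Finset.sum_mul, ← smul_eq_mul]
    exact Finset.sum_le_card_nsmul _ _ _ fun x _ => hline x
  obtain ⟨hf1, hf2⟩ := fibre_ge h huv
  have hwpos : 0 < w * w := Nat.mul_pos Nat.card_pos Nat.card_pos
  rw [← hPc]
  by_cases hex : ∃ y z : V, B y u = 0 ∧ B y v = 0 ∧ B z u = 0 ∧ B z v = 0 ∧ B y z ≠ 0
  · have h2 := hf2 hex
    have hm2 : m * q ≤ Fintype.card V * Fintype.card V :=
      le_of_le_of_eq (hmsum Finset.univ (fun x hx => absurd (Finset.mem_univ x) hx)) (by rw [Finset.card_univ])
    have hm3 : m ≤ w * w * (q * q * q) := by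
      refine Nat.le_of_mul_le_mul_right (hm2.trans (le_of_eq ?_)) (by omega : 0 < q)
      rw [← hWc]; ring
    have h5 : P.card * (q * (q - 1) + 2) ≤ 2 * O.card * (q * q * q) := by
      refine Nat.le_of_mul_le_mul_left ?_ hwpos
      calc w * w * (P.card * (q * (q - 1) + 2)) ≤ w * w * (P.card * (2 * fibre Q)) :=
            Nat.mul_le_mul_left _ (Nat.mul_le_mul_left _ h2)
        _ = 2 * (P.card * (w * w * fibre Q)) := by ring
        _ ≤ 2 * (O.card * (w * w * (q * q * q))) := Nat.mul_le_mul_left _ (key.trans (Nat.mul_le_mul_left _ hm3))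
        _ = w * w * (2 * O.card * (q * q * q)) := by ring
    have h6 : q * q * q ≤ (q * (q - 1) + 2) * (q + 1) := by
      obtain ⟨r, hr⟩ : ∃ r, q = r + 1 := ⟨q - 1, by omega⟩
      rw [hr, Nat.add_sub_cancel]; nlinarith
    refine Nat.le_of_mul_le_mul_right ?_ (by positivity : 0 < q * q * q)
    calc P.card * (q * q * q) ≤ P.card * ((q * (q - 1) + 2) * (q + 1)) := Nat.mul_le_mul_left _ h6
      _ = P.card * (q * (q - 1) + 2) * (q + 1) := by ring
      _ ≤ 2 * O.card * (q * q * q) * (q + 1) := Nat.mul_le_mul_right _ h5
      _ = 2 * (q + 1) * O.card * (q * q * q) := by ring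
  · push_neg at hex
    have hrad : ∀ x ∈ W, ∀ y, B x y ≠ 1 := by
      intro x hx y
      obtain ⟨hxu, hxv⟩ := hW.1 hx
      set z := y + B y v • u + B y u • v with hz
      have hzu : B z u = 0 := by simp [hz, h.self, hvu, CharTwo.add_self_eq_zero]
      have hzv : B z v = 0 := by simp [hz, h.self, huv, CharTwo.add_self_eq_zero]
      have h0 := hex x z hxu hxv hzu hzv
      simp only [hz, map_add, map_smul, hxu, hxv, smul_zero, add_zero] at h0
      rw [h0]; exact zero_ne_one
    have hm2 := hmsum (Finset.univ.filter fun x => x ∉ W) (fun x hx => hrad x (by simpa using hx))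
    have hWn : (Finset.univ.filter fun x => x ∉ W).card = w * (q * q - 1) := by
      rw [Finset.filter_not, Finset.card_sdiff, Finset.inter_univ, Finset.card_univ, ← Fintype.card_subtype,
        ← Nat.card_eq_fintype_card (α := {x // x ∈ W}), ← hw, ← hWc, Nat.mul_sub, mul_one]
    have hm3 : m ≤ w * w * ((q * q - 1) * q) := by
      refine Nat.le_of_mul_le_mul_right (hm2.trans (le_of_eq ?_)) (by omega : 0 < q)
      rw [hWn, ← hWc]; ring
    have h5 : P.card * (q * (q - 1)) ≤ 2 * (q + 1) * O.card * (q * (q - 1)) := by
      refine Nat.le_of_mul_le_mul_left ?_ hwpos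
      calc w * w * (P.card * (q * (q - 1))) ≤ w * w * (P.card * (2 * fibre Q)) :=
            Nat.mul_le_mul_left _ (Nat.mul_le_mul_left _ hf1)
        _ = 2 * (P.card * (w * w * fibre Q)) := by ring
        _ ≤ 2 * (O.card * (w * w * ((q * q - 1) * q))) :=
            Nat.mul_le_mul_left _ (key.trans (Nat.mul_le_mul_left _ hm3))
        _ = w * w * (2 * (q + 1) * O.card * (q * (q - 1))) := by
            rw [show q * q - 1 = (q + 1) * (q - 1) by rw [← Nat.mul_self_sub_mul_self_eq q 1, mul_one]]
            ring
    exact Nat.le_of_mul_le_mul_right h5 (Nat.mul_pos (by omega) (by omega))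

theorem exists_equiv_apply {F V : Type*} [Field F] [AddCommGroup V] [Module F V] [FiniteDimensional F V]
    {x y : V} (hx : x ≠ 0) (hy : y ≠ 0) : ∃ g : V ≃ₗ[F] V, g x = y := by
  obtain ⟨g, hg⟩ := exists_equiv_tuple (k := 1) (a := fun _ => x) (a' := fun _ => y)
    ((linearIndependent_unique_iff (R := F) (v := fun _ : Fin 1 => x)).2 hx)
    ((linearIndependent_unique_iff (R := F) (v := fun _ : Fin 1 => y)).2 hy)
  exact ⟨g, hg 0⟩

end CfsgLib.MinDeg
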