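import Mathlib

/-!
The number of forms congruent to a sesquilinear form with a non-isotropic vector.
-/

set_option autoImplicit false
set_option linter.style.haveILetI false

namespace CfsgLib.MinDeg

open Polynomial

variable {F : Type*} [Field F] [Fintype F] {V : Type*} [AddCommGroup V] [Module F V] [Fintype V]

/-- A sesquilinear map with respect to `x ↦ x ^ p`. -/
structure IsSesq (p : ℕ) (H : V → V → F) : Prop where
  add_left : ∀ u u' v, H (u + u') v = H u v + H u' v
  add_right : ∀ u v v', H u (v + v') = H u v + H u v'
  smul_left : ∀ (a : F) (u v), H (a • u) v = a * H u v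
  smul_right : ∀ (a : F) (u v), H u (a • v) = a ^ p * H u v

variable {p : ℕ} {H : V → V → F}

/-- A non-zero value is taken on few vectors. -/
theorem card_value_le (hH : IsSesq p H) (hp : 1 ≤ p) {e : V} (he : H e e ≠ 0) [DecidableEq F] :
    (Finset.univ.filter fun v => H v v = H e e).card * Fintype.card F ≤ (p + 1) * Fintype.card V := by
  classical
  set A := Finset.univ.filter fun v => H v v = H e e with hA
  have hroot : ∀ x : V, (Finset.univ.filter fun t : F => x + t • e ∈ A).card ≤ p + 1 := by
    intro x
    let P : F[X] := C (H e e) * X ^ (p + 1) +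
      (C (H x e) * X ^ p + C (H e x) * X + C (H x x - H e e))
    have hd : P.natDegree ≤ p + 1 := by
      refine Polynomial.natDegree_add_le_of_degree_le ((natDegree_C_mul_le _ _).trans (by simp)) ?_
      refine Polynomial.natDegree_add_le_of_degree_le (Polynomial.natDegree_add_le_of_degree_le ?_ ?_) ?_
      · exact (natDegree_C_mul_le _ _).trans (by simp)
      · exact (natDegree_C_mul_le _ _).trans (by simp)
      · simp
    have hP : P ≠ 0 := by
      intro h
      have h1 := congrArg (fun q : F[X] => q.coeff (p + 1)) h
      simp only [P, coeff_add, coeff_C_mul_X_pow, coeff_C_mul_X, coeff_C, coeff_zero] at h1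
      simp [show p + 1 ≠ p by omega, show p + 1 ≠ 1 by omega, show p ≠ 0 by omega] at h1
      exact he h1
    have hsub : (Finset.univ.filter fun t : F => x + t • e ∈ A) ⊆ P.roots.toFinset := by
      intro t ht
      rw [Finset.mem_filter, hA, Finset.mem_filter] at ht
      rw [Multiset.mem_toFinset, mem_roots hP, IsRoot.def]
      have h := ht.2.2
      rw [hH.add_left, hH.add_right, hH.add_right, hH.smul_left, hH.smul_left, hH.smul_right,
        hH.smul_right] at h
      simp only [P, eval_add, eval_mul, eval_C, eval_pow, eval_X]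
      linear_combination h
    exact (Finset.card_le_card hsub).trans ((Multiset.toFinset_card_le _).trans
      ((Polynomial.card_roots' P).trans hd))
  calc A.card * Fintype.card F
      = ∑ t : F, (Finset.univ.filter fun x : V => x + t • e ∈ A).card := by
        rw [Finset.sum_congr rfl fun t _ => (show (Finset.univ.filter fun x : V => x + t • e ∈ A).card = A.card from
          Finset.card_bij (fun x _ => x + t • e) (fun x hx => (Finset.mem_filter.1 hx).2)
            (fun _ _ _ _ h => add_right_cancel h)
            (fun y hy => ⟨y - t • e, Finset.mem_filter.2 ⟨Finset.mem_univ _, by rwa [sub_add_cancel]⟩,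
              sub_add_cancel _ _⟩)), Finset.sum_const, Finset.card_univ, smul_eq_mul, mul_comm]
    _ = ∑ x : V, (Finset.univ.filter fun t : F => x + t • e ∈ A).card := by
        simp only [Finset.card_filter]
        rw [Finset.sum_comm]
    _ ≤ ∑ _x : V, (p + 1) := Finset.sum_le_sum fun x _ => hroot x
    _ = (p + 1) * Fintype.card V := by rw [Finset.sum_const, Finset.card_univ, smul_eq_mul, mul_comm]

/-- The linear maps fixing a hyperplane complement: `x ↦ x + f x • e`. -/
def shift (e : V) (f : V →ₗ[F] F) : V →ₗ[F] V := LinearMap.id + f.smulRight e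

omit [Fintype F] [Fintype V] in
theorem shift_apply (e : V) (f : V →ₗ[F] F) (x : V) : shift e f x = x + f x • e := rfl

omit [Fintype F] [Fintype V] in
/-- The shift as an equivalence. -/
def shiftEquiv (e : V) (f : V →ₗ[F] F) (hf : f e = 0) : V ≃ₗ[F] V :=
  { shift e f with
    invFun := fun x => shift e (-f) x
    left_inv := fun x => by simp [shift_apply, hf]
    right_inv := fun x => by simp [shift_apply, hf] }

/-- The orbit of a form with a non-isotropic vector is large. -/
theorem card_orbit_ge (hH : IsSesq p H) (hp : 1 ≤ p) {e : V} (he : H e e ≠ 0) {Γ : Type*} [Fintype Γ]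
    (φ : Γ → V →ₗ[F] V) (hsurj : ∀ γ, Function.Surjective (φ γ))
    (htrans : ∀ v : V, v ≠ 0 → ∃ g : V →ₗ[F] V, Function.Surjective g ∧ g v = e ∧
      ∀ f : V →ₗ[F] F, f e = 0 → ∃ γ, φ γ = (shift e f).comp g) :
    Fintype.card V - 1 ≤
      (p + 1) * Nat.card (Set.range fun γ : Γ => fun u v => H (φ γ u) (φ γ v)) := by
  classical
  set O : Finset (V → V → F) := Finset.univ.image fun γ : Γ => fun u v => H (φ γ u) (φ γ v) with hO
  have hOc : Nat.card (Set.range fun γ : Γ => fun u v => H (φ γ u) (φ γ v)) = O.card := by
    rw [hO, Nat.card_eq_card_toFinset, Set.toFinset_range]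
  rw [hOc]
  have he0 : e ≠ 0 := fun h => he (by
    have := hH.smul_left 0 e e
    rw [zero_smul, zero_mul] at this
    rw [h] at this ⊢
    exact this)
  let K := LinearMap.ker (Module.Dual.eval F V e)
  have hK : Nat.card K * Fintype.card F = Fintype.card V := by
    have hr : LinearMap.range (Module.Dual.eval F V e) = ⊤ := by
      rw [LinearMap.range_eq_top]
      obtain ⟨f, hf⟩ : ∃ f : Module.Dual F V, f e ≠ 0 := by
        by_contra hc
        push_neg at hc
        exact he0 ((Module.forall_dual_apply_eq_zero_iff F e).1 hc)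
      intro a
      refine ⟨(a / f e) • f, ?_⟩
      show a / f e * f e = a
      rw [div_mul_cancel₀ _ hf]
    have h1 := LinearMap.finrank_range_add_finrank_ker (Module.Dual.eval F V e)
    rw [hr, finrank_top, Module.finrank_self, Subspace.dual_finrank_eq] at h1
    rw [Module.natCard_eq_pow_finrank (K := F), Module.card_eq_pow_finrank (K := F) (V := V), ← h1,
      Nat.card_eq_fintype_card, ← pow_succ, add_comm 1]
  have key := Finset.card_mul_le_card_mul (fun (v : V) (T : V → V → F) => T v v = H e e)
    (s := Finset.univ.erase (0 : V)) (t := O) (m := Nat.card K)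
    (n := (Finset.univ.filter fun v => H v v = H e e).card) ?_ ?_
  · rw [Finset.card_erase_of_mem (Finset.mem_univ _), Finset.card_univ] at key
    refine Nat.le_of_mul_le_mul_right ?_ (Fintype.card_pos (α := V))
    calc (Fintype.card V - 1) * Fintype.card V
        = (Fintype.card V - 1) * Nat.card K * Fintype.card F := by rw [mul_assoc, hK]
      _ ≤ O.card * (Finset.univ.filter fun v => H v v = H e e).card * Fintype.card F :=
          Nat.mul_le_mul_right _ key
      _ ≤ O.card * ((p + 1) * Fintype.card V) := by
          rw [mul_assoc]; exact Nat.mul_le_mul_left _ (card_value_le hH hp he)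
      _ = (p + 1) * O.card * Fintype.card V := by ring
  · intro v hv
    obtain ⟨g, hg, hgv, hγ⟩ := htrans v (Finset.ne_of_mem_erase hv)
    choose γ hγ using hγ
    haveI : Finite (Module.Dual F V) := Module.finite_of_finite F
    haveI : Fintype K := Fintype.ofFinite K
    obtain ⟨δ, hδ⟩ : ∃ δ : K → Γ, ∀ f : K, φ (δ f) = (shift e (f : V →ₗ[F] F)).comp g :=
      ⟨fun f => γ f.1 f.2, fun f => hγ f.1 f.2⟩
    rw [Nat.card_eq_fintype_card, ← Finset.card_univ]
    refine Finset.card_le_card_of_injOn (fun f : K => fun x y => H (φ (δ f) x) (φ (δ f) y)) ?_ ?_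
    · intro f _
      rw [Finset.mem_coe, Finset.mem_bipartiteAbove]
      refine ⟨Finset.mem_image.2 ⟨_, Finset.mem_univ _, rfl⟩, ?_⟩
      have hf : (f : V →ₗ[F] F) e = 0 := f.2
      simp only [hδ, LinearMap.comp_apply, hgv, shift_apply, hf, zero_smul, add_zero]
    · intro f _ f' _ hff
      refine Subtype.ext (LinearMap.ext fun x => ?_)
      obtain ⟨x', rfl⟩ := hg x
      have h1 := congrFun (congrFun hff x') v
      have hf : (f : V →ₗ[F] F) e = 0 := f.2
      have hf' : (f' : V →ₗ[F] F) e = 0 := f'.2
      simp only [hδ, LinearMap.comp_apply, hgv, shift_apply, hf, hf', zero_smul, add_zero, hH.add_left,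
        hH.smul_left] at h1
      exact mul_right_cancel₀ he (add_left_cancel h1)
  · intro T hT
    obtain ⟨γ, -, rfl⟩ := Finset.mem_image.1 hT
    refine Finset.card_le_card_of_injOn (φ γ) (fun v hv => ?_) ?_
    · rw [Finset.mem_coe, Finset.mem_bipartiteBelow] at hv
      exact Finset.mem_coe.2 (Finset.mem_filter.2 ⟨Finset.mem_univ _, hv.2⟩)
    · exact (Finite.injective_iff_surjective.2 (hsurj γ)).injOn

end CfsgLib.MinDeg
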