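import Cfsg.Agent.MinDeg.Weight
import Cfsg.Agent.MinDeg.Faithful
import Cfsg.Agent.MinDeg.SesqOrbit
import Cfsg.Agent.MinDeg.QuadOrbit
import Cfsg.Agent.Classical.SymplecticSimple

/-!
Lower bounds for the degrees of non-trivial representations of symplectic groups, from the characters of
the unipotent radical of the Siegel parabolic.
-/

set_option autoImplicit false
set_option linter.style.haveILetI false

namespace CfsgLib.MinDeg

open Matrix Module

variable {F : Type*} [Field F] {m : ℕ}

/-- The symmetric matrices. -/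
def symSub (F : Type*) [Field F] (m : ℕ) : AddSubgroup (Matrix (Fin m) (Fin m) F) where
  carrier := {S | Sᵀ = S}
  add_mem' := fun {a b} ha hb => by
    show (a + b)ᵀ = a + b
    rw [Matrix.transpose_add, ha, hb]
  zero_mem' := Matrix.transpose_zero
  neg_mem' := fun {a} ha => by
    show (-a)ᵀ = -a
    rw [Matrix.transpose_neg, ha]

/-- The unipotent radical of the Siegel parabolic. -/
def symHom (F : Type*) [Field F] (m : ℕ) :
    Multiplicative (symSub F m) →* Matrix.symplecticGroup (Fin m) F where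
  toFun S := Symp.uni ((Multiplicative.toAdd S : symSub F m) : Matrix (Fin m) (Fin m) F) (Multiplicative.toAdd S).2
  map_one' := Subtype.ext (by
    show Matrix.fromBlocks 1 (0 : Matrix (Fin m) (Fin m) F) 0 1 = 1
    exact Matrix.fromBlocks_one)
  map_mul' S T := Subtype.ext (by
    show Matrix.fromBlocks 1 (((Multiplicative.toAdd S : symSub F m) : Matrix (Fin m) (Fin m) F) +
        ((Multiplicative.toAdd T : symSub F m) : Matrix (Fin m) (Fin m) F)) 0 1 =
      Matrix.fromBlocks 1 ((Multiplicative.toAdd S : symSub F m) : Matrix (Fin m) (Fin m) F) 0 1 *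
        Matrix.fromBlocks 1 ((Multiplicative.toAdd T : symSub F m) : Matrix (Fin m) (Fin m) F) 0 1
    rw [Matrix.fromBlocks_multiply]
    simp [add_comm])

/-- `c (u vᵗ + v uᵗ)`. -/
def symPair (c : F) (u v : Fin m → F) : symSub F m :=
  ⟨c • (Matrix.vecMulVec u v + Matrix.vecMulVec v u), by
    show (_ : Matrix (Fin m) (Fin m) F)ᵀ = _
    rw [Matrix.transpose_smul, Matrix.transpose_add, Matrix.transpose_vecMulVec, Matrix.transpose_vecMulVec,
      add_comm]⟩

/-- `c v vᵗ`. -/
def symSquare (c : F) (v : Fin m → F) : symSub F m :=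
  ⟨c • Matrix.vecMulVec v v, by
    show (_ : Matrix (Fin m) (Fin m) F)ᵀ = _
    rw [Matrix.transpose_smul, Matrix.transpose_vecMulVec]⟩

theorem symPair_val (c : F) (u v : Fin m → F) :
    (symPair c u v : Matrix (Fin m) (Fin m) F) = c • (Matrix.vecMulVec u v + Matrix.vecMulVec v u) := rfl

theorem symSquare_val (c : F) (v : Fin m → F) :
    (symSquare c v : Matrix (Fin m) (Fin m) F) = c • Matrix.vecMulVec v v := rfl

variable [Fintype F] [DecidableEq F]

noncomputable instance fintypeSymSub : Fintype (symSub F m) := Fintype.ofFinite _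

/-- Translate a character by a linear map. -/
def symPush (χ : AddChar (symSub F m) ℂ) (M : Matrix (Fin m) (Fin m) F) : AddChar (symSub F m) ℂ :=
  χ.compAddMonoidHom
    { toFun := fun S => ⟨M * (S : Matrix (Fin m) (Fin m) F) * Mᵀ, by
        show (_ : Matrix (Fin m) (Fin m) F)ᵀ = _
        rw [Matrix.transpose_mul, Matrix.transpose_mul, Matrix.transpose_transpose,
          show (S : Matrix (Fin m) (Fin m) F)ᵀ = S from S.2, Matrix.mul_assoc]⟩
      map_zero' := Subtype.ext (by simp)
      map_add' := fun S T => Subtype.ext (by simp [Matrix.mul_add, Matrix.add_mul]) }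

/-- Conjugating a weight space. -/
theorem weight_symPush_le {V : Type*} [AddCommGroup V] [Module ℂ V] [FiniteDimensional ℂ V]
    (ρ : Representation ℂ (Matrix.symplecticGroup (Fin m) F) V) (χ : AddChar (symSub F m) ℂ)
    (g : (Fin m → F) ≃ₗ[F] (Fin m → F)) :
    finrank ℂ (weight ρ (symHom F m) χ) ≤
      finrank ℂ (weight ρ (symHom F m) (symPush χ (LinearMap.toMatrix' g.toLinearMap))) := by
  set M := LinearMap.toMatrix' g.toLinearMap with hM
  set N := LinearMap.toMatrix' g.symm.toLinearMap with hN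
  have hMN : M * N = 1 := by
    rw [hM, hN, ← LinearMap.toMatrix'_comp]
    simp
  have hNM : N * M = 1 := mul_eq_one_comm.1 hMN
  let L := Symp.levi N Mᵀ (by rw [← Matrix.transpose_mul, hMN, Matrix.transpose_one])
  refine finrank_weight_conj ρ (symHom F m) (g := L) (g' := L⁻¹) (inv_mul_cancel L) _ (fun S => ?_) (fun S => rfl)
  refine Subtype.ext ?_
  show Matrix.fromBlocks 1 (S : Matrix (Fin m) (Fin m) F) 0 1 * Matrix.fromBlocks N 0 0 Mᵀ =
    Matrix.fromBlocks N 0 0 Mᵀ *
      Matrix.fromBlocks 1 (M * (S : Matrix (Fin m) (Fin m) F) * Mᵀ) 0 1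
  rw [Matrix.fromBlocks_multiply, Matrix.fromBlocks_multiply]
  simp [← Matrix.mul_assoc, hNM]

/-- The forms attached to a character. -/
theorem exists_forms (χ : AddChar (symSub F m) ℂ) {ψ : AddChar F ℂ} (hψ : ψ.IsPrimitive) :
    ∃ (Q : (Fin m → F) → F) (B : (Fin m → F) →ₗ[F] (Fin m → F) →ₗ[F] F),
      (∀ c v, χ (symSquare c v) = ψ (c * Q v)) ∧ (∀ c u v, χ (symPair c u v) = ψ (c * B u v)) ∧
      (∀ (a : F) v, Q (a • v) = a ^ 2 * Q v) ∧ (∀ u v, Q (u + v) = Q u + Q v + B u v) ∧
      ∀ u v, B u v = B v u := by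
  have hq : ∀ v : Fin m → F, ∃ a : F, ∀ c, χ (symSquare c v) = ψ (c * a) := fun v =>
    (exists_mulShift hψ (χ.compAddMonoidHom (AddMonoidHom.mk' (fun c => symSquare c v)
      fun a b => Subtype.ext (add_smul a b _)))).exists
  have hb : ∀ u v : Fin m → F, ∃ a : F, ∀ c, χ (symPair c u v) = ψ (c * a) := fun u v =>
    (exists_mulShift hψ (χ.compAddMonoidHom (AddMonoidHom.mk' (fun c => symPair c u v)
      fun a b => Subtype.ext (add_smul a b _)))).exists
  choose Q hQ using hq
  choose B hB using hb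
  have uniq : ∀ {a b : F}, (∀ c, ψ (c * a) = ψ (c * b)) → a = b := fun {a b} h => by
    refine AddChar.to_mulShift_inj_of_isPrimitive hψ ?_
    ext c
    rw [AddChar.mulShift_apply, AddChar.mulShift_apply, mul_comm a, mul_comm b, h]
  have eqv : ∀ {S T : symSub F m}, (S : Matrix (Fin m) (Fin m) F) = T → χ S = χ T := fun h => by
    rw [Subtype.ext h]
  have hsymm : ∀ u v, B u v = B v u := fun u v => uniq fun c => by
    rw [← hB, ← hB]
    exact eqv (by rw [symPair_val, symPair_val, add_comm])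
  have hadd : ∀ u u' v, B (u + u') v = B u v + B u' v := fun u u' v => uniq fun c => by
    rw [mul_add, AddChar.map_add_eq_mul, ← hB, ← hB, ← hB, ← AddChar.map_add_eq_mul]
    exact eqv (by
      rw [AddSubgroup.coe_add, symPair_val, symPair_val, symPair_val, Matrix.add_vecMulVec, Matrix.vecMulVec_add]
      module)
  have hsmul : ∀ (a : F) u v, B (a • u) v = a * B u v := fun a u v => uniq fun c => by
    rw [← mul_assoc, ← hB, ← hB]
    exact eqv (by
      rw [symPair_val, symPair_val, Matrix.smul_vecMulVec, Matrix.vecMulVec_smul]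
      module)
  refine ⟨Q, LinearMap.mk₂ F B hadd (fun a u v => hsmul a u v)
    (fun u v v' => by rw [hsymm, hadd, hsymm v, hsymm v'])
    (fun a u v => by rw [hsymm, hsmul, hsymm v]; rfl), fun c v => hQ v c, fun c u v => hB u v c,
    fun a v => uniq fun c => ?_, fun u v => uniq fun c => ?_, hsymm⟩
  · rw [← mul_assoc, ← hQ, ← hQ]
    exact eqv (by
      rw [symSquare_val, symSquare_val, Matrix.smul_vecMulVec, Matrix.vecMulVec_smul]
      module)
  · show ψ (c * Q (u + v)) = ψ (c * (Q u + Q v + B u v))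
    rw [mul_add, mul_add, AddChar.map_add_eq_mul, AddChar.map_add_eq_mul, ← hQ, ← hQ, ← hQ, ← hB,
      ← AddChar.map_add_eq_mul, ← AddChar.map_add_eq_mul]
    exact eqv (by
      rw [AddSubgroup.coe_add, AddSubgroup.coe_add, symSquare_val, symSquare_val, symSquare_val, symPair_val,
        Matrix.add_vecMulVec, Matrix.vecMulVec_add, Matrix.vecMulVec_add]
      module)

omit [DecidableEq F] in
theorem push_square (χ : AddChar (symSub F m) ℂ) (g : (Fin m → F) ≃ₗ[F] (Fin m → F)) (c : F) (v : Fin m → F) :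
    symPush χ (LinearMap.toMatrix' g.toLinearMap) (symSquare c v) = χ (symSquare c (g v)) := by
  refine congrArg χ (Subtype.ext ?_)
  show LinearMap.toMatrix' g.toLinearMap * (c • Matrix.vecMulVec v v) * (LinearMap.toMatrix' g.toLinearMap)ᵀ =
    c • Matrix.vecMulVec (g v) (g v)
  rw [Matrix.mul_smul, Matrix.smul_mul, Matrix.mul_vecMulVec, Matrix.vecMulVec_mul, Matrix.vecMul_transpose,
    LinearMap.toMatrix'_mulVec]
  rfl

/-- A nonzero offdiagonal weight occurs. -/
theorem exists_offdiag {V : Type*} [AddCommGroup V] [Module ℂ V] [FiniteDimensional ℂ V] (hm : 2 ≤ m)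
    (hex : 3 ≤ m ∨ (m = 2 ∧ 3 ≤ Nat.card F) ∨ 4 ≤ Nat.card F)
    {ρ : Representation ℂ (Matrix.symplecticGroup (Fin m) F) V} (hρ : ρ.IsIrreducible) (h2 : 2 ≤ finrank ℂ V) :
    ∃ (χ : AddChar (symSub F m) ℂ) (u v : Fin m → F),
      1 ≤ finrank ℂ (weight ρ (symHom F m) χ) ∧ χ (symPair 1 u v) ≠ 1 := by
  haveI : Nonempty (Fin m) := ⟨⟨0, by omega⟩⟩
  have hc := Symp.cond_of_finite (F := F) m hex
  haveI := Symp.isSimpleGroup_quot (l := Fin m) (F := F) hc
  let i : Fin m := ⟨0, by omega⟩
  let j : Fin m := ⟨1, by omega⟩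
  have hij : i ≠ j := fun e => by simp [i, j, Fin.ext_iff] at e
  have hS : (symPair (1 : F) (Pi.single i 1) (Pi.single j 1) : Matrix (Fin m) (Fin m) F) i j = 1 := by
    simp [symPair_val, Matrix.vecMulVec_apply, Pi.single_apply, hij, hij.symm]
  have hnc : symHom F m (Multiplicative.ofAdd (symPair (1 : F) (Pi.single i 1) (Pi.single j 1))) ∉
      Subgroup.center _ := by
    intro h
    rw [Symp.mem_center_iff] at h
    rcases h with h | h
    all_goals
      have h1 := congrFun (congrFun h (Sum.inl i)) (Sum.inr j)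
      simp [symHom, Symp.uni, hS, hij] at h1
  obtain ⟨χ, hχ, hw⟩ := exists_weight ρ (symHom F m) (rho_ne_one (Symp.commutator_eq_top hc) hρ h2 hnc)
  exact ⟨χ, _, _, Submodule.one_le_finrank_iff.2 hw, hχ⟩

/-- Landazuri–Seitz bound, `q` odd. -/
theorem symp_odd_bound {V : Type*} [AddCommGroup V] [Module ℂ V] [FiniteDimensional ℂ V] (hm : 2 ≤ m)
    (hodd : Odd (Fintype.card F)) {ρ : Representation ℂ (Matrix.symplecticGroup (Fin m) F) V}
    (hρ : ρ.IsIrreducible) (h2 : 2 ≤ finrank ℂ V) : (Fintype.card F ^ m - 1) / 2 ≤ finrank ℂ V := by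
  classical
  have hq : 3 ≤ Nat.card F := by
    rw [Nat.card_eq_fintype_card]
    have := Fintype.one_lt_card (α := F)
    obtain ⟨r, hr⟩ := hodd
    omega
  have h2F : (2 : F) ≠ 0 := Ring.two_ne_zero fun h => by
    have := FiniteField.even_card_iff_char_two.1 h
    rw [Nat.odd_iff] at hodd
    omega
  obtain ⟨χ, u, v, hw, hχ⟩ := exists_offdiag hm (by omega) hρ h2
  obtain ⟨ψ, hψ⟩ := exists_primitive F
  obtain ⟨Q, B, hQ, hB, hQs, hQa, hBs⟩ := exists_forms χ hψ
  have hBuv : B u v ≠ 0 := fun e => hχ (by rw [hB, e, mul_zero, AddChar.map_zero_eq_one])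
  have hsesq : IsSesq 1 (fun x y => B x y) :=
    ⟨fun a b c => by simp, fun a b c => by simp, fun a b c => by simp, fun a b c => by simp⟩
  obtain ⟨e, he⟩ : ∃ e, B e e ≠ 0 := by
    by_contra hc
    push_neg at hc
    have h := hc (u + v)
    simp only [map_add, LinearMap.add_apply, hc u, hc v, hBs v u, zero_add, add_zero, ← two_mul] at h
    exact hBuv ((mul_eq_zero.1 h).resolve_left h2F)
  haveI : Finite ((Fin m → F) ≃ₗ[F] (Fin m → F)) := Finite.of_injective _ DFunLike.coe_injective
  haveI := Fintype.ofFinite ((Fin m → F) ≃ₗ[F] (Fin m → F))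
  have horb := card_orbit_ge hsesq le_rfl he (fun g : (Fin m → F) ≃ₗ[F] (Fin m → F) => g.toLinearMap)
    (fun g => g.surjective) (by
      intro x hx
      have he0 : e ≠ 0 := fun h => he (by rw [h]; simp)
      obtain ⟨g, hg⟩ : ∃ g : (Fin m → F) ≃ₗ[F] (Fin m → F), g x = e := exists_equiv_apply hx he0
      refine ⟨g.toLinearMap, g.surjective, hg, fun f hf => ?_⟩
      exact ⟨g.trans (shiftEquiv e f hf), rfl⟩)
  set R := Set.range fun g : (Fin m → F) ≃ₗ[F] (Fin m → F) => fun x y => B (g x) (g y) with hR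
  haveI : Fintype R := Fintype.ofFinite R
  choose gT hgT using fun T : R => T.2
  have hinj : Function.Injective fun T : R => symPush χ (LinearMap.toMatrix' (gT T).toLinearMap) := by
    intro T T' h
    refine Subtype.ext ?_
    rw [← hgT T, ← hgT T']
    have hdiag : ∀ z, Q (gT T z) = Q (gT T' z) := fun z => by
      refine AddChar.to_mulShift_inj_of_isPrimitive hψ ?_
      ext c
      rw [AddChar.mulShift_apply, AddChar.mulShift_apply, mul_comm, ← hQ, mul_comm (Q _), ← hQ, ← push_square,
        ← push_square]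
      exact DFunLike.congr_fun h _
    funext x y
    have h1 := hdiag (x + y)
    rw [map_add, map_add, hQa, hQa, hdiag x, hdiag y] at h1
    exact add_left_cancel h1
  have hb := card_mul_le_finrank ρ (symHom F m) (d := 1) _ hinj fun T => hw.trans (weight_symPush_le ρ χ (gT T))
  rw [mul_one] at hb
  have horb' : Fintype.card (Fin m → F) - 1 ≤ (1 + 1) * Nat.card R := horb
  rw [Fintype.card_fun, Fintype.card_fin, Nat.card_eq_fintype_card] at horb'
  omega

/-- Landazuri–Seitz bound, `q` even. -/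
theorem symp_even_bound {V : Type*} [AddCommGroup V] [Module ℂ V] [FiniteDimensional ℂ V] (hm : 2 ≤ m)
    (heven : Even (Fintype.card F)) (hex : (m, Fintype.card F) ≠ (2, 2))
    {ρ : Representation ℂ (Matrix.symplecticGroup (Fin m) F) V} (hρ : ρ.IsIrreducible) (h2 : 2 ≤ finrank ℂ V) :
    (Fintype.card F ^ m - 1) * (Fintype.card F ^ m - Fintype.card F) / (2 * (Fintype.card F + 1)) ≤
      finrank ℂ V := by
  classical
  haveI : CharP F 2 :=
    ringChar.of_eq (FiniteField.even_card_iff_char_two.2 (Nat.even_iff.1 heven))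
  have hex' : 3 ≤ m ∨ (m = 2 ∧ 3 ≤ Nat.card F) ∨ 4 ≤ Nat.card F := by
    have := Fintype.one_lt_card (α := F)
    rw [Nat.card_eq_fintype_card]
    rcases Nat.lt_or_ge m 3 with h | h
    · refine Or.inr (Or.inl ⟨by omega, ?_⟩)
      by_contra hq
      exact hex (Prod.ext (show m = 2 by omega) (show Fintype.card F = 2 by omega))
    · exact Or.inl h
  obtain ⟨χ, u, v, hw, hχ⟩ := exists_offdiag hm hex' hρ h2
  obtain ⟨ψ, hψ⟩ := exists_primitive F
  obtain ⟨Q, B, hQ, hB, hQs, hQa, -⟩ := exists_forms χ hψ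
  have hBuv : B u v ≠ 0 := fun e => hχ (by rw [hB, e, mul_zero, AddChar.map_zero_eq_one])
  have horb := card_quad_orbit_ge ⟨hQs, hQa⟩ (u := (B u v)⁻¹ • u) (v := v) (by
    rw [map_smul, LinearMap.smul_apply, smul_eq_mul, inv_mul_cancel₀ hBuv])
  set R := Set.range fun g : (Fin m → F) ≃ₗ[F] (Fin m → F) => fun x => Q (g x) with hR
  haveI : Fintype R := Fintype.ofFinite R
  choose gT hgT using fun T : R => T.2
  have hinj : Function.Injective fun T : R => symPush χ (LinearMap.toMatrix' (gT T).toLinearMap) := by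
    intro T T' h
    refine Subtype.ext ?_
    rw [← hgT T, ← hgT T']
    funext z
    refine AddChar.to_mulShift_inj_of_isPrimitive hψ ?_
    ext c
    rw [AddChar.mulShift_apply, AddChar.mulShift_apply, mul_comm, ← hQ, mul_comm (Q _), ← hQ, ← push_square,
      ← push_square]
    exact DFunLike.congr_fun h _
  have hb := card_mul_le_finrank ρ (symHom F m) (d := 1) _ hinj fun T => hw.trans (weight_symPush_le ρ χ (gT T))
  rw [mul_one] at hb
  rw [Fintype.card_fun, Fintype.card_fin, Nat.card_eq_fintype_card] at horb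
  exact Nat.div_le_of_le_mul (horb.trans (Nat.mul_le_mul_left _ hb))

end CfsgLib.MinDeg
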