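import Cfsg.Agent.MinDeg.CrossWeight
import Cfsg.Agent.MinDeg.LinearModel
import Cfsg.Agent.MinDeg.SympBound

/-!
Lower bounds for the degrees of representations in coprime characteristic of `SL_n` and `Sp_{2n}`.
-/

set_option autoImplicit false
set_option linter.style.haveILetI false

namespace CfsgLib.MinDeg.Cross

open Module Matrix

variable {F : Type*} [Field F] [Fintype F] {K : Type*} [Field K]

theorem ringChar_smul_eq_zero {X : Type*} [AddCommGroup X] [Module F X] (x : X) : ringChar F • x = 0 := by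
  rw [← Nat.cast_smul_eq_nsmul F, ringChar.Nat.cast_ringChar, zero_smul]

theorem addChar_map_sum {X ι : Type*} [AddCommMonoid X] {R : Type*} [CommMonoid R] (χ : AddChar X R) (s : Finset ι)
    (f : ι → X) : χ (∑ i ∈ s, f i) = ∏ i ∈ s, χ (f i) := by
  classical
  induction s using Finset.induction_on with
  | empty => simp
  | insert a s ha ih => rw [Finset.sum_insert ha, Finset.prod_insert ha, AddChar.map_add_eq_mul, ih]

theorem sl_cross_bound (hK : ringChar K ≠ ringChar F) {k d : ℕ} (hd : 2 ≤ d)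
    (ρ : Matrix.SpecialLinearGroup (Fin (d + 1)) F →* GL (Fin k) K)
    (hker : ρ.ker ≤ Subgroup.center (Matrix.SpecialLinearGroup (Fin (d + 1)) F)) :
    Fintype.card F ^ d - 1 ≤ k := by
  classical
  have hne : linRep ρ (Lin.uHom (Multiplicative.ofAdd (Pi.single ⟨0, by omega⟩ (1 : F) : Fin d → F))) ≠ 1 := by
    refine linRep_ne_one fun h => ?_
    obtain ⟨c, -, hc⟩ := Matrix.SpecialLinearGroup.mem_center_iff.1 (hker (MonoidHom.mem_ker.2 h))
    have h1 := congrArg (fun A : Matrix (Fin (d + 1)) (Fin (d + 1)) F =>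
      (A *ᵥ Fin.cons 0 (Pi.single ⟨0, by omega⟩ 1)) 0) hc
    rw [Lin.uHom_apply, Lin.rad_mulVec] at h1
    simp [Matrix.scalar_apply, mulVec_diagonal] at h1
  obtain ⟨χ, v, hv0, hv, hχ⟩ := exists_char (linRep ρ) Lin.uHom
    (natCast_ne_zero_of_ringChar (F := F) hK) (ringChar_smul_eq_zero (F := F) _) hne
  let θ : Fin d → AddChar F (AlgebraicClosure K) := fun j =>
    χ.compAddMonoidHom (AddMonoidHom.single (fun _ : Fin d => F) j)
  set ψ := θ ⟨0, by omega⟩ with hψdef
  have hψ : ψ ≠ 1 := fun h => hχ (DFunLike.congr_fun h 1)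
  choose a ha using fun j => (exists_shift hψ).2 (θ j)
  have hform : ∀ y, χ y = ψ (a ⬝ᵥ y) := by
    intro y
    conv_lhs => rw [← Finset.univ_sum_single y]
    rw [dotProduct, addChar_map_sum, addChar_map_sum]
    refine Finset.prod_congr rfl fun j _ => ?_
    show θ j (y j) = _
    rw [← ha j]
    rfl
  have ha0 : a ≠ 0 := fun h => hχ (by rw [hform, h, zero_dotProduct, AddChar.map_zero_eq_one])
  let χb : {b : Fin d → F // b ≠ 0} → AddChar (Fin d → F) (AlgebraicClosure K) := fun b =>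
    ψ.compAddMonoidHom (AddMonoidHom.mk' (fun y => b.1 ⬝ᵥ y) fun x y => dotProduct_add b.1 x y)
  have hinj : Function.Injective χb := by
    intro b b' h
    refine Subtype.ext (funext fun j => (exists_shift hψ).1 (DFunLike.ext _ _ fun c => ?_))
    have h1 := DFunLike.congr_fun h (Pi.single j c)
    simpa [χb, dotProduct_single] using h1
  have hvec : ∀ b : {b : Fin d → F // b ≠ 0}, ∃ w, w ≠ 0 ∧ HasChar (linRep ρ) Lin.uHom (χb b) w := by
    intro b
    obtain ⟨h, hh⟩ := Lin.exists_row_map hd ha0 b.2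
    let g : Matrix.SpecialLinearGroup (Fin (d + 1)) F :=
      Lin.levi (Matrix.SpecialLinearGroup.toGL h.transpose)
    refine ⟨linRep ρ g v, apply_ne_zero (linRep ρ) (inv_mul_cancel g) hv0,
      hv.move _ _ g (fun x => x ᵥ* (h.transpose : Matrix (Fin d) (Fin d) F)) (fun x => ?_) fun x => ?_⟩
    · rw [Lin.uHom_apply, Lin.uHom_apply, Lin.uHom_levi, Matrix.SpecialLinearGroup.coe_GL_coe_matrix, h.transpose.2,
        one_smul]
    · show ψ (b.1 ⬝ᵥ x) = χ _
      rw [hform, ← hh]
      congr 1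
      show _ = a ⬝ᵥ (x ᵥ* (h : Matrix (Fin d) (Fin d) F)ᵀ)
      rw [Matrix.vecMul_transpose, ← dotProduct_mulVec]
  choose w hw0 hw using hvec
  have hb := card_le_finrank (linRep ρ) Lin.uHom χb hinj w hw0 hw
  rwa [Fintype.card_subtype_compl, Fintype.card_subtype_eq, Fintype.card_fun, Fintype.card_fin,
    Module.finrank_fin_fun] at hb

/-- The Levi matrices used for symplectic groups. -/
def shear {m : ℕ} (r : Fin (m + 1) → F) : Matrix (Fin (m + 1)) (Fin (m + 1)) F :=
  1 + vecMulVec (Pi.single 0 1) r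

omit [Fintype F] in
theorem shear_mulVec {m : ℕ} (r x : Fin (m + 1) → F) : shear r *ᵥ x = x + (r ⬝ᵥ x) • Pi.single 0 1 := by
  rw [shear, add_mulVec, one_mulVec, vecMulVec_mulVec]
  ext i
  simp [mul_comm]

theorem sp_cross_bound (hK : ringChar K ≠ ringChar F) (hodd : Odd (Fintype.card F)) {k m : ℕ}
    (ρ : Matrix.symplecticGroup (Fin (m + 1)) F →* GL (Fin k) K)
    (hker : ρ.ker ≤ Subgroup.center (Matrix.symplecticGroup (Fin (m + 1)) F)) :
    Fintype.card F ^ m * (Fintype.card F - 1) / 2 ≤ k := by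
  classical
  have h2F : (2 : F) ≠ 0 := Ring.two_ne_zero fun h => by
    have := FiniteField.even_card_iff_char_two.1 h
    rw [Nat.odd_iff] at hodd
    omega
  set e₁ : Fin (m + 1) → F := Pi.single 0 1 with he₁
  have hne : linRep ρ (symHom F (m + 1) (Multiplicative.ofAdd (symSquare (1 : F) e₁))) ≠ 1 := by
    refine linRep_ne_one fun h => ?_
    rcases Symp.mem_center_iff.1 (hker (MonoidHom.mem_ker.2 h)) with h | h
    all_goals
      have h1 := congrFun (congrFun h (Sum.inl 0)) (Sum.inr 0)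
      simp [symHom, Symp.uni, symSquare_val, Matrix.vecMulVec_apply, e₁] at h1
  have hp : ringChar F • (symSquare (1 : F) e₁) = 0 := Subtype.ext (by
    rw [AddSubgroupClass.coe_nsmul]
    exact ringChar_smul_eq_zero (F := F) _)
  obtain ⟨χ, v, hv0, hv, hχ⟩ := exists_char (linRep ρ) (symHom F (m + 1))
    (natCast_ne_zero_of_ringChar (F := F) hK) hp hne
  let ψ : AddChar F (AlgebraicClosure K) :=
    χ.compAddMonoidHom (AddMonoidHom.mk' (fun c => symSquare c e₁) fun a b => Subtype.ext (add_smul a b _))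
  have hψ : ψ ≠ 1 := fun h => hχ (DFunLike.congr_fun h 1)
  let T : Set F := Set.range fun u : Fˣ => (u : F) * u
  choose t ht using fun s : T => s.2
  let r : T × (Fin m → F) → (Fin (m + 1) → F) := fun i => Fin.cons ((t i.1 : F) - 1) i.2
  let tr : T × (Fin m → F) → (Matrix (Fin (m + 1)) (Fin (m + 1)) F) := fun i => shear (r i)
  have hinvM : ∀ i, tr i * shear (-(t i.1 : F)⁻¹ • r i) = 1 := fun i => by
    refine Matrix.ext_iff_mulVec.2 fun x => ?_
    rw [← mulVec_mulVec, one_mulVec, shear_mulVec, shear_mulVec]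
    have h0 : r i ⬝ᵥ (Pi.single 0 1 : Fin (m + 1) → F) = (t i.1 : F) - 1 := by simp [r]
    rw [dotProduct_add, dotProduct_smul, h0, smul_dotProduct, smul_eq_mul, smul_eq_mul]
    have h1 : (t i.1 : F)⁻¹ * (t i.1 : F) = 1 := inv_mul_cancel₀ (Units.ne_zero _)
    rw [add_assoc, ← add_smul, show -(t i.1 : F)⁻¹ * (r i ⬝ᵥ x) + (r i ⬝ᵥ x + -(t i.1 : F)⁻¹ * (r i ⬝ᵥ x) *
      ((t i.1 : F) - 1)) = 0 by linear_combination -(r i ⬝ᵥ x) * h1, zero_smul, add_zero]
  let push : T × (Fin m → F) → AddChar (symSub F (m + 1)) (AlgebraicClosure K) := fun i =>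
    χ.compAddMonoidHom (AddMonoidHom.mk' (fun S : symSub F (m + 1) => (⟨tr i * S.1 * (tr i)ᵀ, by
        show (_ : Matrix _ _ F)ᵀ = _
        rw [Matrix.transpose_mul, Matrix.transpose_mul, Matrix.transpose_transpose,
          show (S.1)ᵀ = S.1 from S.2, Matrix.mul_assoc]⟩ : symSub F (m + 1)))
      fun a b => Subtype.ext (by simp [Matrix.mul_add, Matrix.add_mul]))
  have hvec : ∀ i, ∃ w, w ≠ 0 ∧ HasChar (linRep ρ) (symHom F (m + 1)) (push i) w := by
    intro i
    set M := tr i with hM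
    set N := shear (-(t i.1 : F)⁻¹ • r i) with hN
    have hMN : M * N = 1 := hinvM i
    have hNM : N * M = 1 := mul_eq_one_comm.1 hMN
    let L := Symp.levi N Mᵀ (by rw [← Matrix.transpose_mul, hMN, Matrix.transpose_one])
    refine ⟨linRep ρ L v, apply_ne_zero (linRep ρ) (inv_mul_cancel L) hv0,
      hv.move _ _ L _ (fun S => Subtype.ext ?_) fun S => rfl⟩
    show Matrix.fromBlocks 1 (S : Matrix _ _ F) 0 1 * Matrix.fromBlocks N 0 0 Mᵀ =
      Matrix.fromBlocks N 0 0 Mᵀ * Matrix.fromBlocks 1 (M * (S : Matrix _ _ F) * Mᵀ) 0 1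
    rw [Matrix.fromBlocks_multiply, Matrix.fromBlocks_multiply]
    simp [← Matrix.mul_assoc, hNM]
  have hev : ∀ i (u u' : Fin (m + 1) → F) (c : F), tr i * (c • vecMulVec u u') * (tr i)ᵀ = c • vecMulVec (tr i *ᵥ u) (tr i *ᵥ u') := by
    intro i u u' c
    rw [Matrix.mul_smul, Matrix.smul_mul, Matrix.mul_vecMulVec, Matrix.vecMulVec_mul, Matrix.vecMul_transpose]
  have he : ∀ i, tr i *ᵥ e₁ = (t i.1 : F) • e₁ := fun i => by
    rw [shear_mulVec]
    simp [r, e₁, ← Pi.single_smul]
    rw [← Pi.single_add]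
    simp
  have hsq : ∀ i c, push i (symSquare c e₁) = ψ (c * ((t i.1 : F) * t i.1)) := by
    intro i c
    refine congrArg χ (Subtype.ext ?_)
    show tr i * (c • vecMulVec e₁ e₁) * (tr i)ᵀ = (c * ((t i.1 : F) * t i.1)) • vecMulVec e₁ e₁
    rw [hev, he, Matrix.smul_vecMulVec, Matrix.vecMulVec_smul]
    module
  have hpr : ∀ i (j : Fin m) c, push i (symPair c e₁ (Pi.single j.succ 1)) =
      χ (symPair ((t i.1 : F) * c) e₁ (Pi.single j.succ 1)) * ψ (c * (2 * (t i.1 : F) * i.2 j)) := by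
    intro i j c
    show χ _ = χ _ * χ _
    rw [← AddChar.map_add_eq_mul]
    refine congrArg χ (Subtype.ext ?_)
    show tr i * (c • (vecMulVec e₁ (Pi.single j.succ 1) + vecMulVec (Pi.single j.succ 1) e₁)) * (tr i)ᵀ =
      ((t i.1 : F) * c) • (vecMulVec e₁ (Pi.single j.succ 1) + vecMulVec (Pi.single j.succ 1) e₁) +
        (c * (2 * (t i.1 : F) * i.2 j)) • vecMulVec e₁ e₁
    rw [smul_add, Matrix.mul_add, Matrix.add_mul, hev, hev, he,
      show tr i *ᵥ Pi.single j.succ 1 = Pi.single j.succ 1 + i.2 j • e₁ by show shear (r i) *ᵥ _ = _; rw [shear_mulVec]; simp [r, e₁]]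
    simp only [Matrix.smul_vecMulVec, Matrix.vecMulVec_smul, Matrix.add_vecMulVec, Matrix.vecMulVec_add]
    module
  have hinj : Function.Injective push := by
    intro i i' h
    have h1 : (t i.1 : F) * t i.1 = (t i'.1 : F) * t i'.1 := (exists_shift hψ).1 (DFunLike.ext _ _ fun c => by
      have h2 := DFunLike.congr_fun h (symSquare c e₁)
      rw [hsq, hsq] at h2
      simpa [AddChar.mulShift_apply, mul_comm] using h2)
    have hs : i.1 = i'.1 := Subtype.ext ((ht i.1).symm.trans (h1.trans (ht i'.1)))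
    refine Prod.ext hs (funext fun j => ?_)
    refine mul_left_cancel₀ (mul_ne_zero h2F (Units.ne_zero (t i.1))) ((exists_shift hψ).1 (DFunLike.ext _ _ fun c => ?_))
    have h2 := DFunLike.congr_fun h (symPair c e₁ (Pi.single j.succ 1))
    rw [hpr, hpr, ← hs] at h2
    have h3 := mul_left_cancel₀ (AddChar.val_isUnit χ _).ne_zero h2
    simpa [AddChar.mulShift_apply, mul_comm] using h3
  choose w hw0 hw using hvec
  have hb := card_le_finrank (linRep ρ) (symHom F (m + 1)) push hinj w hw0 hw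
  rw [Fintype.card_prod, Fintype.card_fun, Fintype.card_fin, Module.finrank_fin_fun] at hb
  refine Nat.div_le_of_le_mul (le_trans ?_ (Nat.mul_le_mul_left 2 hb))
  have hT : Fintype.card F - 1 ≤ 2 * Fintype.card T := by
    rw [← Fintype.card_units]
    let f : Fˣ → T := fun u => ⟨(u : F) * u, u, rfl⟩
    rw [← Finset.card_univ (α := Fˣ), ← Finset.card_univ (α := T)]
    refine Finset.card_le_mul_card_image_of_maps_to (f := f) (fun a _ => Finset.mem_univ _) 2 fun b _ => ?_
    refine (Finset.card_le_card (show _ ⊆ ({t b, -t b} : Finset Fˣ) from fun u hu => ?_)).trans Finset.card_le_two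
    have h1 : (u : F) * u = (t b : F) * t b := ((congrArg Subtype.val (Finset.mem_filter.1 hu).2)).trans (ht b).symm
    rcases mul_self_eq_mul_self_iff.1 h1 with h1 | h1
    · exact Finset.mem_insert.2 (Or.inl (Units.ext h1))
    · exact Finset.mem_insert.2 (Or.inr (Finset.mem_singleton.2 (Units.ext h1)))
  calc Fintype.card F ^ m * (Fintype.card F - 1) ≤ Fintype.card F ^ m * (2 * Fintype.card T) := Nat.mul_le_mul_left _ hT
    _ = 2 * (Fintype.card T * Fintype.card F ^ m) := by ring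

end CfsgLib.MinDeg.Cross
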