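import Cfsg.Agent.MinDeg.CrossBounds

/-!
The smallest degree of a faithful representation of `Sp_{2n}(q)` in its own characteristic.
-/

set_option autoImplicit false
set_option linter.style.haveILetI false

namespace CfsgLib.MinDeg.Cross

open Module Matrix

variable {F : Type*} [Field F]

/-- The product of the `SL_2` on the hyperbolic pairs. -/
def pairsHom (n : ℕ) :
    (Fin n → Matrix.SpecialLinearGroup (Fin 2) F) →* Matrix.symplecticGroup (Fin n) F where
  toFun g := ⟨Matrix.fromBlocks (diagonal fun i => (g i).1 0 0) (diagonal fun i => (g i).1 0 1)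
      (diagonal fun i => (g i).1 1 0) (diagonal fun i => (g i).1 1 1), by
    rw [SymplecticGroup.fromBlocks_mem_iff]
    simp only [diagonal_transpose, diagonal_mul_diagonal, diagonal_sub, ← diagonal_one, diagonal_eq_diagonal_iff]
    refine ⟨fun i => mul_comm _ _, fun i => mul_comm _ _, fun i => ?_⟩
    have h : (g i).1.det = 1 := (g i).2
    rw [det_fin_two] at h
    linear_combination h⟩
  map_one' := Subtype.ext (by simp)
  map_mul' g h := Subtype.ext (by
    simp [Matrix.fromBlocks_multiply, diagonal_add, Matrix.mul_apply, Fin.sum_univ_two])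

theorem pairsHom_injective (n : ℕ) : Function.Injective (pairsHom (F := F) n) := by
  intro g h e
  have e' := congrArg Subtype.val e
  simp only [pairsHom, MonoidHom.coe_mk, OneHom.coe_mk, Matrix.fromBlocks_inj, diagonal_eq_diagonal_iff] at e'
  funext i
  ext a b
  fin_cases a <;> fin_cases b
  · exact e'.1 i
  · exact e'.2.1 i
  · exact e'.2.2.1 i
  · exact e'.2.2.2 i

/-- A permutation of the hyperbolic pairs. -/
def permElt {n : ℕ} (π : Equiv.Perm (Fin n)) : Matrix.symplecticGroup (Fin n) F :=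
  ⟨Matrix.fromBlocks (π.permMatrix F) 0 0 (π.permMatrix F), by
    rw [SymplecticGroup.fromBlocks_mem_iff]
    refine ⟨by simp, by simp, ?_⟩
    rw [transpose_zero, zero_mul, sub_zero, Matrix.transpose_permMatrix, ← Matrix.permMatrix_mul, mul_inv_cancel,
      Matrix.permMatrix_one]⟩

theorem diagonal_mul_permMatrix {n : ℕ} (π : Equiv.Perm (Fin n)) (f : Fin n → F) :
    diagonal f * π.permMatrix F = π.permMatrix F * diagonal (fun i => f (π.symm i)) := by
  ext i j
  rw [diagonal_mul, mul_diagonal, Equiv.Perm.permMatrix, PEquiv.toMatrix_apply]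
  by_cases h : π i = j
  · subst h
    simp
  · simp [h]

theorem pairsHom_perm {n : ℕ} (π : Equiv.Perm (Fin n)) (g : Fin n → Matrix.SpecialLinearGroup (Fin 2) F) :
    pairsHom n g * permElt π = permElt π * pairsHom n (fun i => g (π.symm i)) := by
  refine Subtype.ext ?_
  show Matrix.fromBlocks _ _ _ _ * Matrix.fromBlocks _ _ _ _ = Matrix.fromBlocks _ _ _ _ * Matrix.fromBlocks _ _ _ _
  rw [Matrix.fromBlocks_multiply, Matrix.fromBlocks_multiply]
  simp [diagonal_mul_permMatrix]

/-- An element of order three or four inverted by a conjugation. -/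
theorem exists_inverted [Fintype F] :
    ∃ (m : ℕ) (a w : Matrix.SpecialLinearGroup (Fin 2) F), 0 < m ∧ (m : F) ≠ 0 ∧ a ^ m = 1 ∧ a * a ≠ 1 ∧
      a * w = w * a⁻¹ := by
  by_cases h2 : ringChar F = 2
  · haveI : CharP F 2 := ringChar.of_eq h2
    have h11 : (1 : F) + 1 = 0 := CharTwo.add_self_eq_zero 1
    have hm1 : (-1 : F) = 1 := CharTwo.neg_eq 1
    refine ⟨3, ⟨!![1, 1; 1, 0], by simp [det_fin_two, hm1]⟩, ⟨!![0, 1; 1, 0], by simp [det_fin_two, hm1]⟩, by omega,
      ?_, ?_, ?_, ?_⟩
    · rw [show ((3 : ℕ) : F) = (1 + 1) + 1 by norm_num, h11, zero_add]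
      exact one_ne_zero
    · refine Subtype.ext ?_
      show (!![1, 1; 1, 0] : Matrix (Fin 2) (Fin 2) F) ^ 3 = 1
      ext i j
      fin_cases i <;> fin_cases j <;> simp [pow_succ, Matrix.mul_apply, Fin.sum_univ_two, h11]
    · intro h
      have := congrArg (fun A : Matrix.SpecialLinearGroup (Fin 2) F => A.1 0 1) h
      change ((!![1, 1; 1, 0] : Matrix (Fin 2) (Fin 2) F) * (!![1, 1; 1, 0] : Matrix (Fin 2) (Fin 2) F) : Matrix (Fin 2) (Fin 2) F) 0 1 = (1 : Matrix (Fin 2) (Fin 2) F) 0 1 at this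
      simp [Matrix.mul_apply, Fin.sum_univ_two] at this
    · refine Subtype.ext ?_
      show (!![1, 1; 1, 0] : Matrix (Fin 2) (Fin 2) F) * !![0, 1; 1, 0] = !![0, 1; 1, 0] * adjugate !![1, 1; 1, 0]
      ext i j
      fin_cases i <;> fin_cases j <;> simp [adjugate_fin_two, Matrix.mul_apply, Fin.sum_univ_two, hm1, h11]
  · have h20 : (2 : F) ≠ 0 := Ring.two_ne_zero h2
    obtain ⟨x, y, hxy⟩ : ∃ x y : F, x ^ 2 + (y ^ 2 + 1) = 0 := by
      obtain ⟨x, y, h⟩ := FiniteField.exists_root_sum_quadratic (f := Polynomial.X ^ 2) (g := Polynomial.X ^ 2 + 1)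
        (Polynomial.degree_X_pow 2)
        (by rw [← Polynomial.C_1]; exact Polynomial.degree_X_pow_add_C (by norm_num) (1 : F))
        (FiniteField.odd_card_of_char_ne_two h2)
      exact ⟨x, y, by simpa using h⟩
    refine ⟨4, ⟨!![0, 1; -1, 0], by simp [det_fin_two]⟩,
      ⟨!![x, y; y, -x], by simp [det_fin_two]; linear_combination -hxy⟩, by omega, ?_, ?_, ?_, ?_⟩
    · rw [show ((4 : ℕ) : F) = 2 * 2 by norm_num]
      exact mul_ne_zero h20 h20
    · refine Subtype.ext ?_
      show (!![0, 1; -1, 0] : Matrix (Fin 2) (Fin 2) F) ^ 4 = 1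
      ext i j
      fin_cases i <;> fin_cases j <;> simp [pow_succ, Matrix.mul_apply, Fin.sum_univ_two]
    · intro h
      have := congrArg (fun A : Matrix.SpecialLinearGroup (Fin 2) F => A.1 0 0) h
      change ((!![0, 1; -1, 0] : Matrix (Fin 2) (Fin 2) F) * (!![0, 1; -1, 0] : Matrix (Fin 2) (Fin 2) F) : Matrix (Fin 2) (Fin 2) F) 0 0 = (1 : Matrix (Fin 2) (Fin 2) F) 0 0 at this
      simp [Matrix.mul_apply, Fin.sum_univ_two] at this
      exact h20 (by linear_combination -this)
    · refine Subtype.ext ?_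
      show (!![0, 1; -1, 0] : Matrix (Fin 2) (Fin 2) F) * !![x, y; y, -x] = !![x, y; y, -x] * adjugate !![0, 1; -1, 0]
      ext i j
      fin_cases i <;> fin_cases j <;> simp [adjugate_fin_two, Matrix.mul_apply, Fin.sum_univ_two]

theorem le_choose_of_lt : ∀ {n k : ℕ}, 1 ≤ k → k < n → n ≤ n.choose k
  | 0, _, _, h => absurd h (by omega)
  | n + 1, k, h1, h2 => by
    obtain ⟨j, rfl⟩ : ∃ j, k = j + 1 := ⟨k - 1, by omega⟩
    rw [Nat.choose_succ_succ]
    simp only [Nat.succ_eq_add_one]
    rcases eq_or_lt_of_le (show j + 1 ≤ n by omega) with h | h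
    · rw [← h, Nat.choose_self, Nat.choose_succ_self_right]
    · have h3 := le_choose_of_lt (k := j + 1) (by omega) h
      have h4 : 0 < n.choose j := Nat.choose_pos (by omega)
      omega

theorem two_mul_le_choose_mul_two_pow {n k : ℕ} (h1 : 1 ≤ k) (h2 : k ≤ n) : 2 * n ≤ n.choose k * 2 ^ k := by
  rcases eq_or_lt_of_le h2 with rfl | h
  · rw [Nat.choose_self, one_mul]
    obtain ⟨j, rfl⟩ : ∃ j, k = j + 1 := ⟨k - 1, by omega⟩
    rw [pow_succ, mul_comm _ 2]
    exact Nat.mul_le_mul_left 2 Nat.lt_two_pow_self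
  · have h3 : n ≤ n.choose k := le_choose_of_lt h1 h
    calc 2 * n ≤ n.choose k * 2 := by omega
      _ ≤ n.choose k * 2 ^ k := Nat.mul_le_mul_left _ (Nat.le_self_pow (by omega) 2)

/-- A faithful representation of `Sp_{2n}` over its own field has degree at least `2n`. -/
theorem sp_natural_bound [Fintype F] {n k : ℕ} (ρ : Matrix.symplecticGroup (Fin n) F →* GL (Fin k) F)
    (hρ : Function.Injective ρ) : 2 * n ≤ k := by
  classical
  rcases Nat.eq_zero_or_pos n with rfl | hn
  · omega
  obtain ⟨m, a, w, hm0, hm, ham, ha2, haw⟩ := exists_inverted (F := F)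
  haveI : NeZero m := ⟨hm0.ne'⟩
  let pw : Multiplicative (ZMod m) →* Matrix.SpecialLinearGroup (Fin 2) F :=
    MonoidHom.mk' (fun x => a ^ (Multiplicative.toAdd x).val) fun x y => by
      rw [toAdd_mul, ZMod.val_add, ← pow_add, ← pow_eq_pow_mod _ ham]
  let e : Multiplicative (Fin n → ZMod m) →* Matrix.symplecticGroup (Fin n) F :=
    (pairsHom n).comp (MonoidHom.mk' (fun x i => pw (Multiplicative.ofAdd ((Multiplicative.toAdd x) i)))
      fun x y => funext fun i => by simp [← map_mul])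
  have hpw : ∀ x : ZMod m, pw (Multiplicative.ofAdd x) = a ^ x.val := fun x => rfl
  set i₀ : Fin n := ⟨0, hn⟩
  have hne : linRep ρ (e (Multiplicative.ofAdd (Pi.single i₀ (1 + 1)))) ≠ 1 := by
    refine linRep_ne_one fun h => ha2 ?_
    have h1 := congrFun (pairsHom_injective n (hρ (h.trans (map_one ρ).symm) |>.trans (map_one (pairsHom n)).symm)) i₀
    refine Eq.trans ?_ h1
    show a * a = pw (Multiplicative.ofAdd ((Pi.single i₀ (1 + 1) : Fin n → ZMod m) i₀))
    have hpw1 : a ^ (1 : ZMod m).val = a := by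
      rw [ZMod.val_one_eq_one_mod]
      conv_rhs => rw [← pow_one a, pow_eq_pow_mod 1 ham]
    rw [Pi.single_eq_same, ofAdd_add, map_mul, hpw, hpw1]
  have hmK : (m : AlgebraicClosure F) ≠ 0 := by
    rw [← map_natCast (algebraMap F (AlgebraicClosure F))]
    exact (map_ne_zero _).2 hm
  obtain ⟨χ, v, hv0, hv, hχ⟩ := exists_char (linRep ρ) e hmK (funext fun i => by simp) hne
  let lam : AddChar (Fin n → ZMod m) (AlgebraicClosure F) → Fin n → AlgebraicClosure F :=
    fun θ i => θ (Pi.single i 1)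
  set S : Finset (Fin n) := Finset.univ.filter fun i => lam χ i * lam χ i ≠ 1 with hS
  have hi₀ : i₀ ∈ S := Finset.mem_filter.2 ⟨Finset.mem_univ _, fun h => hχ (by
    rw [Pi.single_add, AddChar.map_add_eq_mul]
    exact h)⟩
  let ι := Σ A : {A : Finset (Fin n) // A.card = S.card}, {B : Finset (Fin n) // B ⊆ A.1}
  have hperm : ∀ A : {A : Finset (Fin n) // A.card = S.card}, ∃ π : Equiv.Perm (Fin n), ∀ i, π i ∈ S ↔ i ∈ A.1 := by
    intro A
    let e₁ : {i // i ∈ A.1} ≃ {i // i ∈ S} := Fintype.equivOfCardEq (by simp [A.2])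
    refine ⟨e₁.extendSubtype, fun i => ⟨fun h => by_contra fun hi => ?_, fun h => e₁.extendSubtype_mem i h⟩⟩
    exact e₁.extendSubtype_not_mem i hi h
  choose π hπ using hperm
  let φ : ι → (Fin n → ZMod m) → (Fin n → ZMod m) := fun i x j =>
    if (π i.1).symm j ∈ i.2.1 then -x ((π i.1).symm j) else x ((π i.1).symm j)
  let χ' : ι → AddChar (Fin n → ZMod m) (AlgebraicClosure F) := fun i =>
    χ.compAddMonoidHom (AddMonoidHom.mk' (φ i) fun x y => funext fun j => by
      simp only [φ, Pi.add_apply]; split_ifs <;> abel)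
  have hneg : ∀ x : ZMod m, pw (Multiplicative.ofAdd x) * w = w * pw (Multiplicative.ofAdd (-x)) := by
    intro x
    rw [ofAdd_neg, map_inv, hpw, ← inv_pow]
    exact (SemiconjBy.pow_right (show SemiconjBy w a⁻¹ a from haw.symm) x.val).symm
  have hvec : ∀ i, ∃ u, u ≠ 0 ∧ HasChar (linRep ρ) e (χ' i) u := by
    intro i
    let g : Matrix.symplecticGroup (Fin n) F := pairsHom n (fun j => if j ∈ i.2.1 then w else 1) * permElt (π i.1)
    refine ⟨linRep ρ g v, apply_ne_zero (linRep ρ) (inv_mul_cancel g) hv0,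
      hv.move _ _ g (φ i) (fun x => ?_) fun x => rfl⟩
    show pairsHom n _ * (pairsHom n _ * permElt _) = pairsHom n _ * permElt _ * pairsHom n _
    rw [← mul_assoc, ← map_mul, pairsHom_perm, pairsHom_perm, mul_assoc, ← map_mul]
    congr 2
    funext j
    simp only [Pi.mul_apply, φ, toAdd_ofAdd]
    show pw (Multiplicative.ofAdd (x ((π i.1).symm j))) * _ =
      _ * pw (Multiplicative.ofAdd (if (π i.1).symm j ∈ i.2.1 then -x ((π i.1).symm j) else x ((π i.1).symm j)))
    split_ifs
    · exact hneg _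
    · rw [mul_one, one_mul]
  have hval : ∀ (i : ι) (j : Fin n), lam (χ' i) j =
      if j ∈ i.2.1 then (lam χ (π i.1 j))⁻¹ else lam χ (π i.1 j) := by
    intro i j
    show χ (φ i (Pi.single j 1)) = _
    have h : φ i (Pi.single j 1) = if j ∈ i.2.1 then -Pi.single (π i.1 j) 1 else Pi.single (π i.1 j) 1 := by
      funext l
      by_cases hl : l = π i.1 j
      · subst hl
        split_ifs with h <;> simp [φ, h]
      · have hl' : (π i.1).symm l ≠ j := fun e => hl (by rw [← e, Equiv.apply_symm_apply])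
        split_ifs <;> simp [φ, Pi.single_eq_of_ne hl, Pi.single_eq_of_ne hl']
    rw [h]
    split_ifs
    · exact AddChar.map_neg_eq_inv χ _
    · rfl
  have hinj : Function.Injective χ' := by
    rintro ⟨A, B⟩ ⟨A', B'⟩ h
    have hA : ∀ (i : ι) (j : Fin n), lam (χ' i) j * lam (χ' i) j ≠ 1 ↔ j ∈ i.1.1 := fun i j => by
      rw [hval, ← hπ i.1 j]
      refine Iff.trans ?_ (Finset.mem_filter.trans (and_iff_right (Finset.mem_univ _))).symm
      split_ifs with hj
      · rw [← mul_inv, ne_eq, inv_eq_one]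
      · rfl
    obtain rfl : A = A' := Subtype.ext (Finset.ext fun j => by rw [← hA ⟨A, B⟩, h, hA ⟨A', B'⟩])
    have hne' : ∀ x : AlgebraicClosure F, x * x ≠ 1 → x ≠ 0 → x⁻¹ ≠ x := fun x hx hx0 e => hx (by
      nth_rewrite 1 [← e]
      exact inv_mul_cancel₀ hx0)
    obtain rfl : B = B' := Subtype.ext (Finset.ext fun j => by
      have h1 : lam (χ' ⟨A, B⟩) j = lam (χ' ⟨A, B'⟩) j := by rw [h]
      rw [hval, hval] at h1
      by_cases hjA : j ∈ A.1
      · have hx := (Finset.mem_filter.1 ((hπ A j).2 hjA)).2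
        have hx0 : lam χ (π A j) ≠ 0 := (AddChar.val_isUnit χ _).ne_zero
        split_ifs at h1 with hb hb' hb'
        · exact iff_of_true hb hb'
        · exact absurd h1 (hne' _ hx hx0)
        · exact absurd h1.symm (hne' _ hx hx0)
        · exact iff_of_false hb hb'
      · exact iff_of_false (fun hb => hjA (B.2 hb)) fun hb => hjA (B'.2 hb))
    rfl
  choose u hu0 hu using hvec
  have hb := card_le_finrank (linRep ρ) e χ' hinj u hu0 hu
  rw [Module.finrank_fin_fun] at hb
  refine (le_trans ?_ hb)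
  have hBc : ∀ A : {A : Finset (Fin n) // A.card = S.card},
      Fintype.card {B : Finset (Fin n) // B ⊆ A.1} = 2 ^ S.card := fun A => by
    rw [Fintype.card_of_subtype A.1.powerset fun B => Finset.mem_powerset, Finset.card_powerset, A.2]
  rw [Fintype.card_sigma, Finset.sum_congr rfl fun A _ => hBc A, Finset.sum_const, Finset.card_univ, smul_eq_mul,
    Fintype.card_finset_len, Fintype.card_fin]
  exact two_mul_le_choose_mul_two_pow (Finset.card_pos.2 ⟨_, hi₀⟩) (card_finset_fin_le S)

end CfsgLib.MinDeg.Cross
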