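import Mathlib

/-!
Common eigenvectors of finite abelian groups over algebraically closed fields of coprime characteristic.
-/

set_option autoImplicit false
set_option linter.style.haveILetI false

namespace CfsgLib.MinDeg.Cross

open Module

variable {K : Type*} [Field K] {V : Type*} [AddCommGroup V] [Module K V] {G : Type*} [Monoid G]
  (r : G →* Module.End K V) {X : Type*} [AddCommGroup X] (e : Multiplicative X →* G)

/-- The vector `v` is an eigenvector for the character `χ`. -/
def HasChar (χ : AddChar X K) (v : V) : Prop := ∀ x, r (e (Multiplicative.ofAdd x)) v = χ x • v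

/-- A common eigenvector with non-trivial eigenvalue at a moved element. -/
theorem exists_char [IsAlgClosed K] [FiniteDimensional K V] {x₀ : X} {N : ℕ} (hN : (N : K) ≠ 0)
    (hx : N • x₀ = 0) (h : r (e (Multiplicative.ofAdd x₀)) ≠ 1) :
    ∃ (χ : AddChar X K) (v : V), v ≠ 0 ∧ HasChar r e χ v ∧ χ x₀ ≠ 1 := by
  classical
  set A : X → Module.End K V := fun x => r (e (Multiplicative.ofAdd x)) with hA
  have hmul : ∀ x y, A (x + y) = A x * A y := fun x y => by simp only [hA, ofAdd_add, map_mul]
  have hzero : A 0 = 1 := by simp only [hA, ofAdd_zero, map_one]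
  have hcomm : ∀ x y v, A x (A y v) = A y (A x v) := fun x y v => by
    rw [← Module.End.mul_apply, ← hmul, add_comm, hmul, Module.End.mul_apply]
  set U := LinearMap.range (A x₀ - 1) with hU
  have hU0 : U ≠ ⊥ := fun hb => h (sub_eq_zero.1 (LinearMap.range_eq_bot.1 hb))
  have hinv : ∀ x, ∀ v ∈ U, A x v ∈ U := by
    rintro x v ⟨w, rfl⟩
    exact ⟨A x w, by simp [hcomm x x₀]⟩
  have hfix : ∀ v ∈ U, A x₀ v = v → v = 0 := by
    rintro v ⟨w, rfl⟩ hv
    set u := (A x₀ - 1) w with hu
    have hi : ∀ i : ℕ, A (i • x₀) u = u := fun i => by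
      induction i with
      | zero => rw [zero_smul, hzero]; rfl
      | succ i ih => rw [succ_nsmul, hmul, Module.End.mul_apply, hv, ih]
    have h1 : ∑ i ∈ Finset.range N, A (i • x₀) u = 0 := by
      have h2 : ∀ i, A (i • x₀) u = A ((i + 1) • x₀) w - A (i • x₀) w := fun i => by
        rw [succ_nsmul, hmul, Module.End.mul_apply, hu]
        simp
      rw [Finset.sum_congr rfl fun i _ => h2 i, Finset.sum_range_sub (fun i => A (i • x₀) w), hx, zero_smul,
        sub_self]
    rw [Finset.sum_congr rfl fun i _ => hi i, Finset.sum_const, Finset.card_range, ← Nat.cast_smul_eq_nsmul K,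
      smul_eq_zero] at h1
    exact h1.resolve_left hN
  -- a minimal invariant subspace of `U`
  obtain ⟨W, ⟨hWU, hWinv, hW0⟩, hWmin⟩ := wellFounded_lt.has_min
    {W : Submodule K V | W ≤ U ∧ (∀ x, ∀ v ∈ W, A x v ∈ W) ∧ W ≠ ⊥} ⟨U, le_rfl, hinv, hU0⟩
  have hsc : ∀ x, ∃ c : K, ∀ v ∈ W, A x v = c • v := by
    intro x
    haveI : Nontrivial W := Submodule.nontrivial_iff_ne_bot.2 hW0
    obtain ⟨c, hc⟩ := Module.End.exists_eigenvalue ((A x).restrict (hWinv x))
    obtain ⟨v, hv, hv0⟩ := hc.exists_hasEigenvector
    rw [Module.End.mem_eigenspace_iff] at hv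
    set W' := W ⊓ Module.End.eigenspace (A x) c with hW'
    have hvW' : (v : V) ∈ W' := ⟨v.2, Module.End.mem_eigenspace_iff.2 (congrArg Subtype.val hv)⟩
    have heq : W' = W := by
      refine eq_of_le_of_not_lt inf_le_left (hWmin W' ⟨inf_le_left.trans hWU, fun y z hz => ⟨hWinv y z hz.1, ?_⟩,
        fun hb => hv0 (Subtype.ext (by rw [hb] at hvW'; exact hvW'))⟩)
      rw [SetLike.mem_coe, Module.End.mem_eigenspace_iff, hcomm, Module.End.mem_eigenspace_iff.1 hz.2, map_smul]
    refine ⟨c, fun z hz => ?_⟩
    rw [← heq] at hz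
    exact Module.End.mem_eigenspace_iff.1 hz.2
  choose c hc using hsc
  obtain ⟨v, hv, hv0⟩ := Submodule.exists_mem_ne_zero_of_ne_bot hW0
  refine ⟨{ toFun := c, map_zero_eq_one' := ?_, map_add_eq_mul' := fun x y => ?_ }, v, hv0, fun x => hc x v hv, ?_⟩
  · refine smul_left_injective K hv0 ?_
    show c 0 • v = (1 : K) • v
    rw [← hc 0 v hv, hzero, one_smul]
    rfl
  · refine smul_left_injective K hv0 ?_
    show c (x + y) • v = (c x * c y) • v
    rw [← hc _ v hv, hmul, Module.End.mul_apply, hc y v hv, map_smul, hc x v hv, smul_smul, mul_comm]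
  · intro h1
    have h1' : c x₀ = 1 := h1
    exact hv0 (hfix v (hWU hv) (by rw [hc x₀ v hv, h1', one_smul]))

/-- Distinct characters with eigenvectors bound the degree. -/
theorem card_le_finrank [FiniteDimensional K V] {ι : Type*} [Fintype ι] (χ : ι → AddChar X K)
    (hχ : Function.Injective χ) (v : ι → V) (hv0 : ∀ i, v i ≠ 0) (hv : ∀ i, HasChar r e (χ i) (v i)) :
    Fintype.card ι ≤ finrank K V := by
  classical
  refine LinearIndependent.fintype_card_le_finrank (b := v) ?_
  rw [linearIndependent_iff']
  intro s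
  induction s using Finset.induction_on with
  | empty => simp
  | insert a s ha ih =>
    intro g hg
    have hs : ∀ i ∈ s, g i = 0 := by
      intro i hi
      obtain ⟨x, hx⟩ : ∃ x, χ i x ≠ χ a x := by
        by_contra hcon
        push Not at hcon
        exact ha (hχ (DFunLike.ext _ _ hcon) ▸ hi)
      have h1 : ∑ k ∈ s, (g k * (χ k x - χ a x)) • v k = 0 := by
        have h2 := congrArg (r (e (Multiplicative.ofAdd x))) hg
        rw [map_sum, map_zero] at h2
        have h3 : ∑ k ∈ insert a s, (g k * (χ k x - χ a x)) • v k = 0 := by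
          have h4 : ∀ k, (g k * (χ k x - χ a x)) • v k =
              r (e (Multiplicative.ofAdd x)) (g k • v k) - χ a x • (g k • v k) := fun k => by
            rw [map_smul, hv, smul_smul, smul_smul, ← sub_smul]
            ring_nf
          rw [Finset.sum_congr rfl fun k _ => h4 k, Finset.sum_sub_distrib, h2, ← Finset.smul_sum, hg,
            smul_zero, sub_zero]
        rwa [Finset.sum_insert ha, sub_self, mul_zero, zero_smul, zero_add] at h3
      exact (mul_eq_zero.1 (ih _ h1 i hi)).resolve_right (sub_ne_zero.2 hx)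
    intro i hi
    rcases Finset.mem_insert.1 hi with rfl | hi
    · rw [Finset.sum_insert ha, Finset.sum_eq_zero (fun k hk => by rw [hs k hk, zero_smul]), add_zero] at hg
      exact (smul_eq_zero.1 hg).resolve_right (hv0 _)
    · exact hs i hi

/-- Translating an eigenvector. -/
theorem HasChar.move {χ χ' : AddChar X K} {v : V} (hv : HasChar r e χ v) (g : G) (φ : X → X)
    (hφ : ∀ x, e (Multiplicative.ofAdd x) * g = g * e (Multiplicative.ofAdd (φ x))) (hχ : ∀ x, χ' x = χ (φ x)) :
    HasChar r e χ' (r g v) := fun x => by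
  rw [← Module.End.mul_apply, ← map_mul, hφ, map_mul, Module.End.mul_apply, hv, map_smul, hχ]

omit X [AddCommGroup X] in
theorem apply_ne_zero {g g' : G} (h : g' * g = 1) {v : V} (hv : v ≠ 0) : r g v ≠ 0 := fun h0 => hv (by
  have h1 := congrArg (r g') h0
  rwa [map_zero, ← Module.End.mul_apply, ← map_mul, h, map_one] at h1)

/-- The characters of a finite field are the multiplicative shifts of a non-trivial one. -/
theorem exists_shift {F : Type*} [Field F] [Fintype F] {ψ : AddChar F K} (hψ : ψ ≠ 1) :
    Function.Bijective fun a : F => AddChar.mulShift ψ a := by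
  classical
  have hinj : Function.Injective (AddChar.mulShift ψ) :=
    AddChar.to_mulShift_inj_of_isPrimitive (AddChar.IsPrimitive.of_ne_one hψ)
  refine ⟨hinj, fun θ => ?_⟩
  by_contra hθ
  push Not at hθ
  let f : Option F → (Multiplicative F →* K) := fun o => o.elim θ.toMonoidHom fun a => (AddChar.mulShift ψ a).toMonoidHom
  have hf : Function.Injective f := by
    rintro (_ | a) (_ | b) h
    · rfl
    · exact absurd (AddChar.toMonoidHomEquiv.injective h).symm (hθ b)
    · exact absurd (AddChar.toMonoidHomEquiv.injective h) (hθ a)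
    · exact congrArg some (hinj (AddChar.toMonoidHomEquiv.injective h))
  have h1 := ((linearIndependent_monoidHom (Multiplicative F) K).comp f hf).fintype_card_le_finrank
  rw [Fintype.card_option, Module.finrank_pi, Fintype.card_multiplicative] at h1
  omega

/-- Into the algebraic closure, as linear maps. -/
noncomputable def linRep {H : Type*} [Group H] {d : ℕ} (ρ : H →* GL (Fin d) K) :
    H →* Module.End (AlgebraicClosure K) (Fin d → AlgebraicClosure K) :=
  ((Matrix.toLinAlgEquiv' (R := AlgebraicClosure K) (n := Fin d)).toRingHom.toMonoidHom.comp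
    ((algebraMap K (AlgebraicClosure K)).mapMatrix.toMonoidHom.comp (Units.coeHom (Matrix (Fin d) (Fin d) K)))).comp ρ

theorem linRep_ne_one {H : Type*} [Group H] {d : ℕ} {ρ : H →* GL (Fin d) K} {a : H} (ha : ρ a ≠ 1) :
    linRep ρ a ≠ 1 := by
  intro h
  refine ha (Units.ext (Matrix.map_injective (FaithfulSMul.algebraMap_injective K (AlgebraicClosure K)) ?_))
  refine (Matrix.toLinAlgEquiv' (R := AlgebraicClosure K) (n := Fin d)).injective ?_
  refine Eq.trans h ?_
  simp

/-- A positive integer prime to the characteristic. -/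
theorem natCast_ne_zero_of_ringChar {F : Type*} [Field F] [Finite F] (hK : ringChar K ≠ ringChar F) :
    ((ringChar F : ℕ) : AlgebraicClosure K) ≠ 0 := by
  intro h
  have hp : (ringChar F).Prime := CharP.char_is_prime F _
  rw [← map_natCast (algebraMap K (AlgebraicClosure K)), map_eq_zero, ringChar.spec] at h
  rcases (Nat.dvd_prime hp).1 h with h | h
  · exact CharP.ringChar_ne_one h
  · exact hK h

end CfsgLib.MinDeg.Cross
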