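import Cfsg.Agent.MinDeg.Weight

/-!
A criterion of irreducibility from a lower bound on the degrees of irreducible representations.
-/

set_option autoImplicit false
set_option linter.style.haveILetI false

namespace CfsgLib.MinDeg

open Module

variable {G : Type*} [Group G]

theorem exists_irreducible_sub {V : Type*} [AddCommGroup V] [Module ℂ V] [FiniteDimensional ℂ V]
    (π : Representation ℂ G V) {U : Submodule ℂ V} (hU : ∀ g, ∀ v ∈ U, π g v ∈ U) (hne : U ≠ ⊥) :
    ∃ S : Subrepresentation π, S.toSubmodule ≤ U ∧ S.toSubmodule ≠ ⊥ ∧ S.toRepresentation.IsIrreducible := by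
  classical
  have hex : ∃ n, ∃ S : Subrepresentation π, S.toSubmodule ≤ U ∧ S.toSubmodule ≠ ⊥ ∧
      finrank ℂ S.toSubmodule = n := ⟨_, ⟨U, fun g v hv => hU g v hv⟩, le_rfl, hne, rfl⟩
  obtain ⟨S, hSU, hS0, hSn⟩ := Nat.find_spec hex
  refine ⟨S, hSU, hS0, ?_⟩
  haveI : Nontrivial (Subrepresentation S.toRepresentation) := by
    refine ⟨⟨⊥, ⊤, fun e => hS0 ?_⟩⟩
    have h1 : (⊥ : Submodule ℂ S.toSubmodule) = ⊤ := congrArg Subrepresentation.toSubmodule e
    rw [eq_bot_iff]
    intro v hv
    have h2 : (⟨v, hv⟩ : S.toSubmodule) ∈ (⊥ : Submodule ℂ S.toSubmodule) := h1 ▸ Submodule.mem_top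
    rw [Submodule.mem_bot] at h2 ⊢
    exact congrArg Subtype.val h2
  refine ⟨fun T => ?_⟩
  by_cases hT : T.toSubmodule = ⊥
  · exact Or.inl (Subrepresentation.toSubmodule_injective hT)
  refine Or.inr (Subrepresentation.toSubmodule_injective ?_)
  let T' : Subrepresentation π := ⟨T.toSubmodule.map S.toSubmodule.subtype, by
    rintro g _ ⟨w, hw, rfl⟩
    exact ⟨_, T.apply_mem_toSubmodule g hw, rfl⟩⟩
  have hle : T'.toSubmodule ≤ S.toSubmodule := Submodule.map_subtype_le _ _
  have h0 : T'.toSubmodule ≠ ⊥ := fun e => hT ((Submodule.eq_bot_iff _).2 fun w hw =>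
    Subtype.ext ((Submodule.mem_bot ℂ).1 (e ▸ (⟨w, hw, rfl⟩ : S.toSubmodule.subtype w ∈ T'.toSubmodule))))
  have hmin := Nat.find_min' hex ⟨T', hle.trans hSU, h0, rfl⟩
  have h1 : finrank ℂ T'.toSubmodule = finrank ℂ T.toSubmodule :=
    LinearEquiv.finrank_eq (Submodule.equivMapOfInjective _ (Submodule.injective_subtype _) _).symm
  rw [h1, ← hSn] at hmin
  exact Submodule.eq_top_of_finrank_eq (le_antisymm (Submodule.finrank_le _) hmin)

/-- No fixed vector, perfect, and all irreducible constituents large. -/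
theorem irreducible_of_bound {d : ℕ} (π : Representation ℂ G (Fin d → ℂ)) (hd : 2 ≤ d)
    (hperf : commutator G = ⊤) (hfix : ∀ v, (∀ g, π g v = v) → v = 0)
    (hbound : ∀ S : Subrepresentation π, S.toRepresentation.IsIrreducible → 2 ≤ finrank ℂ S.toSubmodule →
      d ≤ finrank ℂ S.toSubmodule) : π.IsIrreducible := by
  haveI : Nontrivial (Subrepresentation π) := by
    refine ⟨⟨⊥, ⊤, fun e => ?_⟩⟩
    have h1 : (⊥ : Submodule ℂ (Fin d → ℂ)) = ⊤ := congrArg Subrepresentation.toSubmodule e
    have h2 := congrArg (fun W : Submodule ℂ (Fin d → ℂ) => finrank ℂ W) h1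
    simp only [finrank_bot, finrank_top, Module.finrank_fin_fun] at h2
    omega
  refine ⟨fun T => ?_⟩
  by_cases hT : T.toSubmodule = ⊥
  · exact Or.inl (Subrepresentation.toSubmodule_injective hT)
  refine Or.inr (Subrepresentation.toSubmodule_injective ?_)
  obtain ⟨S, hST, hS0, hSi⟩ := exists_irreducible_sub π T.apply_mem_toSubmodule hT
  rcases Nat.lt_or_ge (finrank ℂ S.toSubmodule) 2 with h1 | h2
  · exfalso
    have h1' : finrank ℂ S.toSubmodule = 1 := by
      have := Submodule.one_le_finrank_iff.2 hS0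
      omega
    obtain ⟨v, hv, hspan⟩ := finrank_eq_one_iff'.1 h1'
    let K : Subgroup G := S.toRepresentation.toHomUnits.ker
    have hsc : ∀ g, ∃ c : ℂ, ∀ w, S.toRepresentation g w = c • w := fun g => by
      obtain ⟨c, hc⟩ := hspan (S.toRepresentation g v)
      refine ⟨c, fun w => ?_⟩
      obtain ⟨a, rfl⟩ := hspan w
      rw [map_smul, ← hc, smul_comm]
    have hle : commutator G ≤ K := by
      rw [_root_.commutator_def, Subgroup.commutator_le]
      intro g _ h _
      obtain ⟨a, ha⟩ := hsc g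
      obtain ⟨b, hb⟩ := hsc h
      rw [MonoidHom.mem_ker, map_commutatorElement, commutatorElement_eq_one_iff_mul_comm, Units.ext_iff]
      refine LinearMap.ext fun w => ?_
      show S.toRepresentation g (S.toRepresentation h w) = S.toRepresentation h (S.toRepresentation g w)
      rw [ha, hb, ha, hb, smul_comm]
    refine hv (Subtype.ext (hfix v fun g => ?_))
    have h3 : g ∈ K := hle (hperf ▸ Subgroup.mem_top g)
    rw [MonoidHom.mem_ker, Units.ext_iff] at h3
    exact congrArg Subtype.val (LinearMap.congr_fun h3 v)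
  · exact Submodule.eq_top_of_finrank_eq (le_antisymm (Submodule.finrank_le _)
      (by rw [Module.finrank_fin_fun]; exact (hbound S hSi h2).trans (Submodule.finrank_mono hST)))

end CfsgLib.MinDeg
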