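import Cfsg.Agent.MinDeg.LinearOrth
import Mathlib.Algebra.Ring.GeomSum

/-!
The lower bound for representations of groups above `SL_{d+1}` in which the radical has fixed vectors.
-/

set_option autoImplicit false
set_option linter.style.haveILetI false

namespace CfsgLib.MinDeg.Lin

open Module Matrix
open scoped LinearAlgebra.Projectivization

universe u v

variable {F : Type u} [Field F] {d : ℕ}

theorem trMat_mul (v w f : Fin d → F) (h : f ⬝ᵥ w = 0) : trMat v f * trMat w f = trMat (v + w) f := by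
  refine ext_mulVec fun x => ?_
  rw [← mulVec_mulVec, trMat_mulVec, trMat_mulVec, trMat_mulVec, dotProduct_add, dotProduct_smul, h, smul_zero,
    add_zero, smul_add]
  abel

theorem snoc_dot_last (y : Fin d → F) (t : F) :
    (Pi.single (Fin.last d) 1 : Fin (d + 1) → F) ⬝ᵥ Fin.snoc y t = t := by
  rw [single_dotProduct, Fin.snoc_last, one_mul]

/-- The transvections with a fixed axis. -/
def col (y : Fin d → F) : Matrix.SpecialLinearGroup (Fin (d + 1)) F :=
  trv (Fin.snoc y 0) (Pi.single (Fin.last d) 1) (snoc_dot_last y 0)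

theorem col_mulVec (y : Fin d → F) (w : Fin (d + 1) → F) :
    (col y : Matrix (Fin (d + 1)) (Fin (d + 1)) F) *ᵥ w = w + w (Fin.last d) • Fin.snoc y 0 := by
  rw [col, trv_mulVec, single_dotProduct, one_mul]

theorem col_mul (x y : Fin d → F) : col x * col y = col (x + y) := by
  refine Subtype.ext ?_
  refine (trMat_mul _ _ _ (snoc_dot_last y 0)).trans ?_
  show trMat _ _ = trMat _ _
  congr 1
  funext i
  refine Fin.lastCases ?_ (fun j => ?_) i <;> simp

/-- The transvections with a fixed axis as a homomorphism. -/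
def colHom : Multiplicative (Fin d → F) →* Matrix.SpecialLinearGroup (Fin (d + 1)) F :=
  MonoidHom.mk' (fun y => col (Multiplicative.toAdd y)) fun _ _ => (col_mul _ _).symm

theorem levi_col (y : Fin d → F) :
    levi (Matrix.SpecialLinearGroup.toGL (col y)) = col (Fin.cons 0 y : Fin (d + 1) → F) := by
  rw [col, levi_trv]
  refine trv_congr (Fin.cons_snoc_eq_snoc_cons _ _ _) ?_
  funext i
  refine Fin.cases ?_ (fun j => ?_) i
  · simp [Pi.single_apply, Fin.ext_iff]
  · simp [Pi.single_apply, Fin.ext_iff]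

theorem col_head (t : F) :
    col (Fin.cons t 0 : Fin (d + 1) → F) = rad (Pi.single (Fin.last d) t) := by
  refine sl_ext fun w => ?_
  rw [col_mulVec, ← cons_tail w, rad_mulVec, single_dotProduct]
  funext i
  refine Fin.cases ?_ (fun j => ?_) i
  · rw [show ((0 : Fin (d + 2))) = Fin.castSucc (0 : Fin (d + 1)) from rfl, Pi.add_apply, Pi.smul_apply,
      Fin.snoc_castSucc]
    simp [← Fin.succ_last, Fin.tail, mul_comm]
  · refine Fin.lastCases ?_ (fun k => ?_) j
    · simp [Fin.tail]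
    · rw [Fin.succ_castSucc, Pi.add_apply, Pi.smul_apply, Fin.snoc_castSucc, ← Fin.succ_castSucc]
      simp

/-- The row action of block matrices on the radical. -/
theorem rad_mul_blk (h : Matrix (Fin d) (Fin d) F) (x : Fin d → F) :
    (rad x : Matrix (Fin (d + 1)) (Fin (d + 1)) F) * blk 1 h =
      blk 1 h * (rad (x ᵥ* h) : Matrix (Fin (d + 1)) (Fin (d + 1)) F) := by
  refine ext_mulVec fun v => ?_
  rw [← cons_tail v, ← mulVec_mulVec, ← mulVec_mulVec, blk_mulVec, rad_mulVec, rad_mulVec, blk_mulVec,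
    ← dotProduct_mulVec, one_mul, one_mul]

theorem isConj_rad_GL [DecidableEq F] {x y : Fin d → F} (hx : x ≠ 0) (hy : y ≠ 0) :
    IsConj (Matrix.SpecialLinearGroup.toGL (rad x)) (Matrix.SpecialLinearGroup.toGL (rad y)) := by
  have key : ∀ h : Matrix (Fin d) (Fin d) F, h.det ≠ 0 → x ᵥ* h = y →
      IsConj (Matrix.SpecialLinearGroup.toGL (rad x)) (Matrix.SpecialLinearGroup.toGL (rad y)) := by
    intro h hh hxy
    let g : GL (Fin (d + 1)) F := GeneralLinearGroup.mkOfDetNeZero (blk 1 h) (by rw [det_blk, one_mul]; exact hh)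
    have h2 : Matrix.SpecialLinearGroup.toGL (rad x) * g = g * Matrix.SpecialLinearGroup.toGL (rad y) :=
      Units.ext (by rw [← hxy]; exact rad_mul_blk h x)
    refine isConj_iff.2 ⟨g⁻¹, ?_⟩
    rw [inv_inv, mul_assoc, h2, inv_mul_cancel_left]
  match d, x, y, hx, hy, key with
  | 0, x, _, hx, _, _ => exact absurd (funext fun i => i.elim0) hx
  | 1, x, y, hx, hy, key =>
    have hx0 : x 0 ≠ 0 := fun h => hx (funext fun i => by rw [Subsingleton.elim i 0, h]; rfl)
    have hy0 : y 0 ≠ 0 := fun h => hy (funext fun i => by rw [Subsingleton.elim i 0, h]; rfl)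
    refine key (Matrix.diagonal fun _ => y 0 / x 0) ?_ (funext fun i => ?_)
    · rw [Matrix.det_diagonal]; simp [hx0, hy0]
    · rw [vecMul_diagonal, Subsingleton.elim i 0, mul_div_cancel₀ _ hx0]
  | d + 2, x, y, hx, hy, key =>
    obtain ⟨h, hh⟩ := exists_row_map (by omega) hx hy
    exact key h (by rw [h.2]; exact one_ne_zero) hh

section

variable [Fintype F] [DecidableEq F] {G : Type*} [Group G] {V : Type*} [AddCommGroup V] [Module ℂ V]
  [FiniteDimensional ℂ V] (D : LinData F d G V)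

theorem weight_col (hd : 1 ≤ d) {a : ℕ} (ha : ∀ χ, χ ≠ 0 → finrank ℂ (weight D.ρ D.e χ) = a)
    {ψ : AddChar (Fin d → F) ℂ} (hψ : ψ ≠ 0) :
    finrank ℂ (weight D.ρ (D.σ.comp colHom) ψ) = a := by
  classical
  have h1 := card_mul_weight_ne_zero D.ρ (D.σ.comp colHom) (τ := D.τ) (fun y hy =>
    trace_trv D hd (fun h => hy (funext fun i => by simpa using congrFun h i.castSucc))
      (fun h => one_ne_zero (α := F) (by simpa using congrFun h (Fin.last d))) (snoc_dot_last y 0)) hψ
  rw [Fintype.card_fun, Fintype.card_fin, Nat.cast_pow] at h1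
  have h2 := h1.trans (weight_mul D hd ψ hψ).symm
  rw [ha ψ hψ] at h2
  exact_mod_cast mul_left_cancel₀ (pow_ne_zero _ (Nat.cast_ne_zero.2 Fintype.card_ne_zero)) h2

theorem weight_col_zero (hd : 1 ≤ d) :
    finrank ℂ (weight D.ρ (D.σ.comp colHom) 0) = D.c := by
  classical
  have h1 := card_mul_weight_zero D.ρ (D.σ.comp colHom) (τ := D.τ) (fun y hy =>
    trace_trv D hd (fun h => hy (funext fun i => by simpa using congrFun h i.castSucc))
      (fun h => one_ne_zero (α := F) (by simpa using congrFun h (Fin.last d))) (snoc_dot_last y 0))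
  have h2 := h1.trans (card_mul_weight_zero D.ρ D.e (fun x hx => trace_rad D hd x hx)).symm
  exact_mod_cast mul_left_cancel₀ (Nat.cast_ne_zero.2 Fintype.card_ne_zero) h2

omit [FiniteDimensional ℂ V] in
theorem finite_G (D : LinData F d G V) : Finite G := Finite.of_injective _ D.π_inj

omit [FiniteDimensional ℂ V] in
/-- The number of transvections in the class. -/
theorem card_class (hd : 1 ≤ d) :
    Nat.card {g : G // IsConj (D.σ (rad fun _ => 1)) g} =
      Nat.card (ℙ F (Fin (d + 1) → F)) * (Fintype.card F ^ d - 1) := by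
  classical
  have h : ∀ p : ℙ F (Fin (d + 1) → F), ∃ g : Matrix.SpecialLinearGroup (Fin (d + 1)) F,
      (g : Matrix (Fin (d + 1)) (Fin (d + 1)) F) *ᵥ e0 = p.rep := fun p => by
    obtain ⟨g, hg⟩ := CfsgLib.Char.exists_sl_map (k := 1) (n := d + 1) (by omega) (b := ![p.rep])
      (LinearIndependent.of_subsingleton 0 p.rep_nonzero)
    refine ⟨g, ?_⟩
    rw [e0_eq]
    exact hg 0
  choose g hg using h
  let Φ : ℙ F (Fin (d + 1) → F) × {x : Fin d → F // x ≠ 0} → {y : G // IsConj (D.σ (rad fun _ => 1)) y} :=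
    fun px => ⟨D.σ (g px.1 * rad px.2.1 * (g px.1)⁻¹), (D.conj _ _ (one_ne hd) px.2.2).trans
      (isConj_iff.2 ⟨D.σ (g px.1), by rw [← map_inv, ← map_mul, ← map_mul]⟩)⟩
  have hΦi : Function.Injective Φ := by
    rintro ⟨p, x, hx⟩ ⟨p', x', hx'⟩ he
    have h1 := congrArg D.π (congrArg Subtype.val he)
    simp only [Φ, D.πσ] at h1
    replace h1 := Matrix.SpecialLinearGroup.toGL_injective h1
    have hdot : ∀ z : Fin d → F, (Fin.cons 0 z : Fin (d + 1) → F) ⬝ᵥ e0 = 0 := fun z => by rw [e0, cons_dot]; simp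
    have hp : p = p' := by
      by_contra hne
      have h2 := h1
      rw [rad, trv_conj _ _ _ _ (by rw [conj_dot, hdot]), rad, trv_conj _ _ _ _ (by rw [conj_dot, hdot])] at h2
      obtain ⟨i, hi⟩ := Function.ne_iff.1 hx
      set w := (g p : Matrix (Fin (d + 1)) (Fin (d + 1)) F) *ᵥ (Fin.cons 0 (Pi.single i 1)) with hw
      have h3 := congrArg (fun A : Matrix.SpecialLinearGroup (Fin (d + 1)) F =>
        (A : Matrix (Fin (d + 1)) (Fin (d + 1)) F) *ᵥ w) h2
      simp only [trv_mulVec, hg, add_right_inj] at h3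
      rw [hw, conj_dot, cons_dot, dotProduct_single, zero_mul, zero_add, mul_one] at h3
      obtain ⟨c, hc⟩ : ∃ c : F, x i • p.rep = c • p'.rep := ⟨_, h3⟩
      refine hne ?_
      rw [← p.mk_rep, ← p'.mk_rep]
      refine (Projectivization.mk_eq_mk_iff' F _ _ p.rep_nonzero p'.rep_nonzero).2
        ⟨(x i)⁻¹ * c, ?_⟩
      rw [mul_smul, ← hc, smul_smul, inv_mul_cancel₀ hi, one_smul]
    subst hp
    have h4 := mul_left_cancel (mul_right_cancel h1)
    refine Prod.ext rfl (Subtype.ext (funext fun i => ?_))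
    have h5 := congrArg (fun A : Matrix.SpecialLinearGroup (Fin (d + 1)) F =>
      ((A : Matrix (Fin (d + 1)) (Fin (d + 1)) F) *ᵥ Fin.cons 0 (Pi.single i 1)) 0) h4
    simpa [rad_mulVec] using h5
  have hΦs : Function.Surjective Φ := by
    rintro ⟨y, hy⟩
    obtain ⟨k, rfl⟩ := isConj_iff.1 hy
    set A : GL (Fin (d + 1)) F := D.π k with hA
    set v : Fin (d + 1) → F := (A : Matrix (Fin (d + 1)) (Fin (d + 1)) F) *ᵥ e0 with hv
    set f : Fin (d + 1) → F := (Fin.cons 0 (fun _ => 1)) ᵥ* ((A⁻¹ : GL (Fin (d + 1)) F) : Matrix (Fin (d + 1)) (Fin (d + 1)) F) with hf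
    have hback : ((A⁻¹ : GL (Fin (d + 1)) F) : Matrix (Fin (d + 1)) (Fin (d + 1)) F) *ᵥ v = e0 := by
      rw [hv, mulVec_mulVec, Units.inv_mul, one_mulVec]
    have hv0 : v ≠ 0 := fun h0 => by
      rw [h0, mulVec_zero] at hback
      exact one_ne_zero (α := F) (by simpa [e0] using (congrFun hback 0).symm)
    have hfv : f ⬝ᵥ v = 0 := by rw [hf, ← dotProduct_mulVec, hback, e0, cons_dot]; simp
    have hf0 : f ≠ 0 := fun h0 => by
      have h2 := congrArg (fun z => z ᵥ* (A : Matrix (Fin (d + 1)) (Fin (d + 1)) F)) h0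
      simp only [hf, vecMul_vecMul, Units.inv_mul, vecMul_one, zero_vecMul] at h2
      have h3 := congrFun h2 (Fin.succ ⟨0, hd⟩)
      rw [Fin.cons_succ] at h3
      exact one_ne_zero (α := F) h3
    obtain ⟨a, ha⟩ := Projectivization.exists_smul_eq_mk_rep F v hv0
    set p := Projectivization.mk F v hv0 with hp
    have hd0 : ((a : F)⁻¹ • f) ⬝ᵥ p.rep = 0 := by rw [← ha, Units.smul_def, smul_dotProduct, dotProduct_smul, hfv]; simp
    obtain ⟨x, hx, hxe⟩ := exists_rad_of_map (hg p) (smul_ne_zero (inv_ne_zero a.ne_zero : (a : F)⁻¹ ≠ 0) hf0) hd0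
    refine ⟨(p, ⟨x, hx⟩), Subtype.ext (D.π_inj (Units.ext ?_))⟩
    simp only [Φ]
    rw [hxe, D.πσ, map_mul, map_mul, map_inv, D.πσ, ← hA]
    refine ext_mulVec fun w => ?_
    show trMat _ _ *ᵥ w = ((A : Matrix (Fin (d + 1)) (Fin (d + 1)) F) *
      (rad (fun _ : Fin d => (1 : F)) : Matrix (Fin (d + 1)) (Fin (d + 1)) F) * ((A⁻¹ : GL (Fin (d + 1)) F) : Matrix _ _ F)) *ᵥ w
    rw [← mulVec_mulVec, ← mulVec_mulVec, rad, trv_mulVec, mulVec_add, mulVec_smul, mulVec_mulVec, Units.mul_inv,
      one_mulVec, dotProduct_mulVec, trMat_mulVec, ← ha, Units.smul_def, smul_dotProduct, ← hv, ← hf, smul_smul,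
      smul_eq_mul, mul_right_comm, inv_mul_cancel₀ a.ne_zero, one_mul]
  rw [← Nat.card_congr (Equiv.ofBijective Φ ⟨hΦi, hΦs⟩), Nat.card_prod, Nat.card_eq_fintype_card (α := {x // x ≠ 0}),
    Fintype.card_subtype_compl, Fintype.card_subtype_eq, Fintype.card_fun, Fintype.card_fin]

omit [DecidableEq F] in
theorem pow_eq (d : ℕ) :
    (∑ i ∈ Finset.range d, Fintype.card F ^ i) * (Fintype.card F - 1) + 1 = Fintype.card F ^ d := by
  obtain ⟨m, hm⟩ : ∃ m, Fintype.card F = m + 1 := ⟨_, (Nat.succ_pred_eq_of_pos Fintype.card_pos).symm⟩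
  rw [hm, Nat.add_sub_cancel]
  exact geom_sum_mul_add m d

omit [DecidableEq F] in
theorem card_points :
    Nat.card (ℙ F (Fin (d + 1) → F)) = 1 + Fintype.card F * ∑ i ∈ Finset.range d, Fintype.card F ^ i := by
  rw [Projectivization.card_of_finrank F _ (Module.finrank_fin_fun F), Nat.card_eq_fintype_card, geom_sum_succ,
    add_comm]

/-- The degree just below the bound is impossible. -/
theorem c_ne (hd : 2 ≤ d) (hone : ∀ χ, χ ≠ 0 → finrank ℂ (weight D.ρ D.e χ) = 1)
    (hc : D.c + 1 = ∑ i ∈ Finset.range d, Fintype.card F ^ i) : False := by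
  classical
  haveI := finite_G D
  haveI := D.irr
  set q := Fintype.card F with hq
  set M := ∑ i ∈ Finset.range d, q ^ i with hM
  obtain ⟨a, ha, hdim, hτ⟩ := exists_a D (by omega)
  obtain ⟨χ₀, hχ₀⟩ := (AddChar.exists_apply_ne_zero (a := (fun _ => 1 : Fin d → F))).2 (one_ne (by omega))
  have hχ₀' : χ₀ ≠ 0 := fun h => hχ₀ (by rw [h]; rfl)
  obtain rfl : a = 1 := (ha χ₀ hχ₀').symm.trans (hone χ₀ hχ₀')
  have hq2 : 2 ≤ q := Fintype.one_lt_card
  have hpw : M * (q - 1) + 1 = q ^ d := pow_eq d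
  have hint := CfsgLib.Char.isIntegral_class_mul_char_div D.ρ (D.σ (rad fun _ => 1))
  have hch : D.ρ.character (D.σ (rad fun _ => 1)) = D.τ := rfl
  rw [card_class D (by omega), hch, hτ] at hint
  obtain ⟨z, hz, -⟩ := CfsgLib.Char.exists_int_of_isIntegral_rat
    (((((1 + q * M) * (q ^ d - 1) : ℕ) : ℤ) * ((D.c : ℤ) - 1) : ℤ) / (finrank ℂ V : ℚ)) hint (by
      rw [card_points, hM, hq]; push_cast; rfl)
  rw [card_points, div_eq_iff (Nat.cast_ne_zero.2 (CfsgLib.Char.finrank_pos_of_isIrreducible D.ρ).ne')] at hz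
  have hz' : ((1 + q * M : ℕ) : ℤ) * ((q ^ d - 1 : ℕ) : ℤ) * ((D.c : ℤ) - 1) = z * (finrank ℂ V : ℤ) := by
    apply Int.cast_injective (α := ℂ)
    push_cast
    rw [← hz, hM, hq]
    push_cast
    ring
  rw [hdim, one_mul, ← hpw, Nat.add_sub_cancel] at hz'
  push_cast [Nat.one_le_iff_ne_zero.2 (show q ≠ 0 by omega)] at hz'
  have hqM : 1 + q ≤ M := by
    calc 1 + q = ∑ i ∈ Finset.range 2, q ^ i := by simp [Finset.sum_range_succ]
    _ ≤ M := Finset.sum_le_sum_of_subset (Finset.range_mono hd)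
  have hcZ : (D.c : ℤ) = (M : ℤ) - 1 := by omega
  rw [hcZ] at hz'
  have hqZ : (2 : ℤ) ≤ q := by exact_mod_cast hq2
  have hMZ : 1 + (q : ℤ) ≤ M := by exact_mod_cast hqM
  obtain ⟨k, hk⟩ : ((q : ℤ) * M - 1) ∣ 2 * ((q : ℤ) - 1) * (2 * q - 1) := by
    refine ⟨((q : ℤ) - 1) * (((q : ℤ) * M) ^ 2 + (2 - 2 * q) * ((q : ℤ) * M) + (2 - 4 * q)) - (q : ℤ) ^ 2 * z, ?_⟩
    linear_combination (-(q : ℤ) ^ 2) * hz'
  have hD : (q : ℤ) ^ 2 + q - 1 ≤ (q : ℤ) * M - 1 := by nlinarith
  have hk1 : 1 ≤ k := by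
    by_contra h
    push Not at h
    nlinarith
  rcases Nat.lt_or_ge d 3 with h3 | h3
  · obtain rfl : d = 2 := by omega
    have hM2 : (M : ℤ) = 1 + q := by simp [hM, Finset.sum_range_succ]
    rw [hM2] at hk
    have hk3 : k ≤ 3 := by
      by_contra h
      push Not at h
      nlinarith
    have hq9 : (q : ℤ) ≤ 9 := by interval_cases k <;> nlinarith
    interval_cases k <;> interval_cases (q : ℤ) <;> omega
  · have hM3 : 1 + (q : ℤ) + (q : ℤ) ^ 2 ≤ M := by
      have : 1 + q + q ^ 2 ≤ M := by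
        calc 1 + q + q ^ 2 = ∑ i ∈ Finset.range 3, q ^ i := by simp [Finset.sum_range_succ]
        _ ≤ M := Finset.sum_le_sum_of_subset (Finset.range_mono h3)
      exact_mod_cast this
    have hbig : 2 * ((q : ℤ) - 1) * (2 * q - 1) < (q : ℤ) * M - 1 := by
      rcases eq_or_lt_of_le hqZ with h2 | h2
      · rw [← h2] at hM3 ⊢
        linarith
      · nlinarith [mul_nonneg (show (0 : ℤ) ≤ (q : ℤ) - 3 by omega) (sq_nonneg (q : ℤ))]
    nlinarith

end

/-- The main bound. -/
theorem bound {F : Type u} [Field F] [Fintype F] [DecidableEq F] :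
    ∀ (d : ℕ) (G : Type u) [Group G] (V : Type v) [AddCommGroup V] [Module ℂ V] [FiniteDimensional ℂ V]
      (D : LinData F d G V), 1 ≤ d → (∀ χ, χ ≠ 0 → finrank ℂ (weight D.ρ D.e χ) = 1) → 0 < D.c →
        Fintype.card F * ∑ i ∈ Finset.range d, Fintype.card F ^ i ≤ finrank ℂ V := by
  intro d
  induction d with
  | zero => intros; omega
  | succ d IH =>
    intro G _ V _ _ _ D hd hone hc
    classical
    obtain ⟨a, ha, hdim, -⟩ := exists_a D hd
    obtain ⟨χ₀, hχ₀⟩ := (AddChar.exists_apply_ne_zero (a := (fun _ => 1 : Fin (d + 1) → F))).2 (one_ne hd)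
    have hχ₀' : χ₀ ≠ 0 := fun h => hχ₀ (by rw [h]; rfl)
    obtain rfl : a = 1 := (ha χ₀ hχ₀').symm.trans (hone χ₀ hχ₀')
    rw [one_mul] at hdim
    have hq2 : 2 ≤ Fintype.card F := Fintype.one_lt_card
    rcases Nat.eq_zero_or_pos d with rfl | hd0
    · simp only [zero_add, Finset.sum_range_one, pow_zero, mul_one, pow_one] at hdim ⊢
      omega
    set q := Fintype.card F with hq
    set M := ∑ i ∈ Finset.range (d + 1), q ^ i with hM
    have hN := card_points (F := F) (d := d + 1)
    set C := weight D.ρ D.e 0 with hC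
    have hC0 : C ≠ ⊥ := fun h => by
      have : D.c = 0 := by rw [LinData.c, ← hC, h]; exact finrank_bot _ _
      omega
    let r : Representation ℂ (GL (Fin (d + 1)) F) V := D.ρ.comp (D.σ.comp levi)
    by_cases hA : ∃ w ∈ C, w ≠ 0 ∧
        ∀ h : Matrix.SpecialLinearGroup (Fin (d + 1)) F, r (Matrix.SpecialLinearGroup.toGL h) w = w
    · obtain ⟨w, hw, hw0, hwfix⟩ := hA
      let W : Submodule ℂ V :=
        { carrier := {v | v ∈ C ∧ ∀ h : Matrix.SpecialLinearGroup (Fin (d + 1)) F,
            r (Matrix.SpecialLinearGroup.toGL h) v = v}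
          add_mem' := fun hx hy => ⟨C.add_mem hx.1 hy.1, fun h => by rw [map_add, hx.2, hy.2]⟩
          zero_mem' := ⟨C.zero_mem, fun h => map_zero _⟩
          smul_mem' := fun c x hx => ⟨C.smul_mem c hx.1, fun h => by rw [map_smul, hx.2]⟩ }
      have hWinv : ∀ g, ∀ v ∈ W, r g v ∈ W := by
        rintro g v ⟨hv1, hv2⟩
        refine ⟨weight_zero_levi D hv1 g, fun h => ?_⟩
        let h' : Matrix.SpecialLinearGroup (Fin (d + 1)) F :=
          ⟨((g⁻¹ * Matrix.SpecialLinearGroup.toGL h * g : GL (Fin (d + 1)) F) : Matrix (Fin (d + 1)) (Fin (d + 1)) F), by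
            rw [Units.val_mul, Units.val_mul, Matrix.det_mul, Matrix.det_mul, Matrix.SpecialLinearGroup.coe_GL_coe_matrix,
              h.2, mul_one, ← Matrix.det_mul, Units.inv_mul, Matrix.det_one]⟩
        have he : Matrix.SpecialLinearGroup.toGL h * g = g * Matrix.SpecialLinearGroup.toGL h' := by
          rw [show Matrix.SpecialLinearGroup.toGL h' = g⁻¹ * Matrix.SpecialLinearGroup.toGL h * g from Units.ext rfl]
          group
        rw [← Module.End.mul_apply, ← map_mul, he, map_mul, Module.End.mul_apply, hv2]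
      obtain ⟨S, hSW, hS0, hSi⟩ := exists_irreducible_sub r hWinv
        ((Submodule.ne_bot_iff _).2 ⟨w, ⟨hw, hwfix⟩, hw0⟩)
      haveI := hSi
      have hsc : ∀ g, ∃ c : ℂ, ∀ v : S.toSubmodule, S.toRepresentation g v = c • v := by
        intro g
        refine ⟨_, LinearMap.congr_fun (CfsgLib.Char.eq_smul_one_of_commute S.toRepresentation
          (S.toRepresentation g) fun k => ?_)⟩
        let h' : Matrix.SpecialLinearGroup (Fin (d + 1)) F :=
          ⟨((g⁻¹ * k⁻¹ * g * k : GL (Fin (d + 1)) F) : Matrix (Fin (d + 1)) (Fin (d + 1)) F), by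
            have hval : ∀ m : GL (Fin (d + 1)) F, (m : Matrix (Fin (d + 1)) (Fin (d + 1)) F).det =
                ((Matrix.GeneralLinearGroup.det m : Fˣ) : F) := fun _ => rfl
            rw [hval, map_mul, map_mul, map_mul, map_inv, map_inv, mul_comm (_)⁻¹ (_)⁻¹, inv_mul_cancel_right,
              inv_mul_cancel, Units.val_one]⟩
        refine LinearMap.ext fun v => Subtype.ext ?_
        show r k (r g v) = r g (r k v)
        have he : g * k = k * g * Matrix.SpecialLinearGroup.toGL h' := by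
          rw [show Matrix.SpecialLinearGroup.toGL h' = g⁻¹ * k⁻¹ * g * k from Units.ext rfl]
          group
        rw [← Module.End.mul_apply (r g), ← map_mul, he, map_mul, Module.End.mul_apply, (hSW v.2).2, map_mul,
          Module.End.mul_apply]
      choose μ hμ using hsc
      obtain ⟨v, hv, hv0⟩ := Submodule.exists_mem_ne_zero_of_ne_bot hS0
      have hμ' : ∀ h, D.ρ (D.σ (levi h)) v = μ h • v := fun h => congrArg Subtype.val (hμ h ⟨v, hv⟩)
      have h1 := points_le_of_line D (by omega) (hSW hv).1 hv0 μ hμ' fun h hdet => by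
        let h' : Matrix.SpecialLinearGroup (Fin (d + 1)) F := ⟨(h : Matrix (Fin (d + 1)) (Fin (d + 1)) F), hdet⟩
        have h2 := (hSW hv).2 h'
        rw [show Matrix.SpecialLinearGroup.toGL h' = h from Units.ext rfl] at h2
        exact smul_left_injective ℂ hv0 (((hμ' h).symm.trans h2).trans (one_smul ℂ v).symm)
      rw [hN, ← hq, ← hM] at h1
      omega
    push Not at hA
    obtain ⟨S, hSC, hS0, hSi⟩ := exists_irreducible_sub r (fun g v hv => weight_zero_levi D hv g) hC0
    by_cases hB : ∀ w ∈ S.toSubmodule,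
        (∀ (f : Fin (d + 1) → F) (h : f ⬝ᵥ Pi.single ⟨0, by omega⟩ 1 = 0),
          D.ρ (D.σ (levi (Matrix.SpecialLinearGroup.toGL (trv (Pi.single ⟨0, by omega⟩ 1) f h)))) w = w) → w = 0
    · have h1 := points_le_of_cuspidal D (by omega) (fun h w hw => S.apply_mem_toSubmodule h hw) hSC hS0 hB
      rw [hN, ← hq, ← hM] at h1
      omega
    push Not at hB
    obtain ⟨w, hw, hwfix, hw0⟩ := hB
    let DU : LinData F d (GL (Fin (d + 1)) F) S.toSubmodule :=
      { σ := Matrix.SpecialLinearGroup.toGL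
        π := MonoidHom.id _
        πσ := fun _ => rfl
        π_inj := fun _ _ h => h
        ρ := S.toRepresentation
        irr := hSi
        fix := fun v hv => by
          by_contra hv0
          obtain ⟨h, hh⟩ := hA v (hSC v.2) (fun e => hv0 (Subtype.ext e))
          exact hh (congrArg Subtype.val (hv h))
        conj := fun x y hx hy => isConj_rad_GL hx hy }
    have hcU : 0 < DU.c := by
      refine Module.finrank_pos_iff_exists_ne_zero.2 ⟨⟨⟨w, hw⟩, fun x => Subtype.ext ?_⟩,
        fun e => hw0 (congrArg (fun z : weight DU.ρ DU.e 0 => (z.1 : V)) e)⟩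
      rw [AddChar.zero_apply, one_smul]
      have hdot : (Fin.cons 0 x : Fin (d + 1) → F) ⬝ᵥ Pi.single ⟨0, by omega⟩ 1 = 0 := by
        rw [dotProduct_single, mul_one]; rfl
      have h1 := hwfix (Fin.cons 0 x) hdot
      rw [trv_congr (h' := by rw [e0, cons_dot]; simp) (show (Pi.single (⟨0, by omega⟩ : Fin (d + 1)) 1 : Fin (d + 1) → F) = e0 from e0_eq.symm) rfl] at h1
      exact h1
    obtain ⟨aU, haU, hdimU, -⟩ := exists_a DU hd0
    have hleU : aU ≤ 1 := by
      obtain ⟨χ, hχ⟩ := (AddChar.exists_apply_ne_zero (a := (fun _ => 1 : Fin d → F))).2 (one_ne hd0)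
      have hχ0 : χ ≠ 0 := fun h => hχ (by rw [h]; rfl)
      let ψ : AddChar (Fin (d + 1) → F) ℂ :=
        χ.compAddMonoidHom (AddMonoidHom.mk' (fun y => Fin.tail y) fun _ _ => rfl)
      have hψ : ψ ≠ 0 := fun h => hχ0 (DFunLike.ext _ _ fun y => by
        have h1 := DFunLike.congr_fun h (Fin.cons 0 y)
        rw [show ψ (Fin.cons 0 y) = χ (Fin.tail (Fin.cons 0 y : Fin (d + 1) → F)) from rfl, Fin.tail_cons] at h1
        exact h1)
      have e1 := weight_col DU hd0 haU hχ0
      have e2 := weight_col D hd hone hψ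
      rw [← e1]
      refine le_of_le_of_eq ?_ e2
      refine LinearMap.finrank_le_finrank_of_injective
        (f := ((S.toSubmodule.subtype.comp (weight DU.ρ (DU.σ.comp colHom) χ).subtype).codRestrict
          (weight D.ρ (D.σ.comp colHom) ψ) fun v y => ?_)) ?_
      · show D.ρ (D.σ (col y)) (v.1 : V) = χ (Fin.tail y) • (v.1 : V)
        have hy : y = (Fin.cons (y 0) 0 : Fin (d + 1) → F) + Fin.cons 0 (Fin.tail y) := by
          funext i
          refine Fin.cases ?_ (fun j => ?_) i <;> simp [Fin.tail]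
        conv_lhs => rw [hy, ← col_mul, col_head, ← levi_col, map_mul, map_mul, Module.End.mul_apply]
        have h2 : r (Matrix.SpecialLinearGroup.toGL (col (Fin.tail y))) (v.1 : V) = χ (Fin.tail y) • (v.1 : V) :=
          congrArg Subtype.val (v.2 (Fin.tail y))
        show D.ρ (D.σ (rad _)) (r _ _) = _
        rw [h2, map_smul, mem_rad_weight D (hSC v.1.2)]
      · intro v v' h
        exact Subtype.ext (Subtype.ext (congrArg Subtype.val h : _))
    have hposU := a_pos DU hd0 haU
    obtain rfl : aU = 1 := by omega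
    have h1 := IH (GL (Fin (d + 1)) F) S.toSubmodule DU hd0 haU hcU
    have h2 : finrank ℂ S.toSubmodule ≤ D.c := Submodule.finrank_mono hSC
    have hMsucc : M = q * (∑ i ∈ Finset.range d, q ^ i) + 1 := geom_sum_succ
    have hpw : M * (q - 1) + 1 = q ^ (d + 1) := pow_eq (d + 1)
    have hqM : q * M = M * (q - 1) + M := by
      rw [mul_comm q M, ← Nat.mul_succ]
      congr 1
      omega
    rcases Nat.lt_or_ge D.c M with hlt | hge
    · exact (c_ne D (by omega) hone (by rw [← hq, ← hM]; omega)).elim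
    · omega

end CfsgLib.MinDeg.Lin
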