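import Cfsg.Agent.MinDeg.LinearModel
import Cfsg.Agent.MinDeg.ConstTrace
import Cfsg.Agent.MinDeg.Irreducible
import Cfsg.Agent.Char.Central
import Cfsg.Agent.Classical.Transvections

/-!
Representations of `SL_{d+1}` and of groups above it with all transvections conjugate.
-/

set_option autoImplicit false
set_option linter.style.haveILetI false

namespace CfsgLib.MinDeg.Lin

open Module Matrix

variable (F : Type*) [Field F] (d : ℕ) (G : Type*) [Group G] (V : Type*) [AddCommGroup V] [Module ℂ V]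

/-- An irreducible representation of a group above `SL_{d+1}`, without fixed vectors of `SL_{d+1}`, in which
all transvections have the same character value. -/
structure LinData where
  σ : Matrix.SpecialLinearGroup (Fin (d + 1)) F →* G
  π : G →* GL (Fin (d + 1)) F
  πσ : ∀ g, π (σ g) = Matrix.SpecialLinearGroup.toGL g
  π_inj : Function.Injective π
  ρ : Representation ℂ G V
  irr : ρ.IsIrreducible
  fix : ∀ v, (∀ g, ρ (σ g) v = v) → v = 0
  conj : ∀ x y : Fin d → F, x ≠ 0 → y ≠ 0 → IsConj (σ (rad x)) (σ (rad y))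

variable {F d G V}

/-- The radical in `G`. -/
noncomputable def LinData.e (D : LinData F d G V) : Multiplicative (Fin d → F) →* G := D.σ.comp uHom

theorem LinData.e_apply (D : LinData F d G V) (x : Fin d → F) : D.e (Multiplicative.ofAdd x) = D.σ (rad x) := rfl

/-- The character value at transvections. -/
noncomputable def LinData.τ (D : LinData F d G V) : ℂ := LinearMap.trace ℂ V (D.ρ (D.σ (rad fun _ => 1)))

/-- The dimension of the fixed space of the radical. -/
noncomputable def LinData.c (D : LinData F d G V) [Fintype F] : ℕ := finrank ℂ (weight D.ρ D.e 0)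

theorem one_ne (hd : 1 ≤ d) : (fun _ => 1 : Fin d → F) ≠ 0 := fun h => one_ne_zero (congrFun h ⟨0, hd⟩)

theorem trace_conj (ρ : Representation ℂ G V) {a b : G} (h : IsConj a b) :
    LinearMap.trace ℂ V (ρ a) = LinearMap.trace ℂ V (ρ b) := by
  obtain ⟨g, rfl⟩ := isConj_iff.1 h
  exact (ρ.char_conj a g).symm

section

variable [FiniteDimensional ℂ V] (D : LinData F d G V) (hd : 1 ≤ d)
include hd

omit [FiniteDimensional ℂ V] in
theorem trace_rad (x : Fin d → F) (hx : x ≠ 0) : LinearMap.trace ℂ V (D.ρ (D.σ (rad x))) = D.τ :=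
  trace_conj D.ρ (D.conj x _ hx (one_ne hd))

omit [FiniteDimensional ℂ V] in
theorem isConj_trv [DecidableEq F] {v f : Fin (d + 1) → F} (hv : v ≠ 0) (hf : f ≠ 0) (h : f ⬝ᵥ v = 0) :
    IsConj (D.σ (rad fun _ => 1)) (D.σ (trv v f h)) := by
  obtain ⟨g, x, hx, hgx, -⟩ := exists_conj_rad hd hv hf h
  refine (D.conj _ x (one_ne hd) hx).trans (isConj_iff.2 ⟨D.σ g, ?_⟩)
  rw [← map_inv, ← map_mul, ← map_mul, hgx]

omit [FiniteDimensional ℂ V] in
theorem trace_trv [DecidableEq F] {v f : Fin (d + 1) → F} (hv : v ≠ 0) (hf : f ≠ 0) (h : f ⬝ᵥ v = 0) :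
    LinearMap.trace ℂ V (D.ρ (D.σ (trv v f h))) = D.τ :=
  (trace_conj D.ρ (isConj_trv D hd hv hf h)).symm

variable [Fintype F]

theorem weight_mul (χ : AddChar (Fin d → F) ℂ) (hχ : χ ≠ 0) :
    ((Fintype.card F : ℂ) ^ d) * (finrank ℂ (weight D.ρ D.e χ) : ℂ) = (finrank ℂ V : ℂ) - D.τ := by
  classical
  have h := card_mul_weight_ne_zero D.ρ D.e (fun x hx => trace_rad D hd x hx) hχ
  rwa [Fintype.card_fun, Fintype.card_fin, Nat.cast_pow] at h

theorem weight_eq (χ χ' : AddChar (Fin d → F) ℂ) (hχ : χ ≠ 0) (hχ' : χ' ≠ 0) :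
    finrank ℂ (weight D.ρ D.e χ) = finrank ℂ (weight D.ρ D.e χ') := by
  have h := (weight_mul D hd χ hχ).trans (weight_mul D hd χ' hχ').symm
  exact_mod_cast mul_left_cancel₀ (pow_ne_zero _ (Nat.cast_ne_zero.2 Fintype.card_ne_zero)) h

theorem exists_a : ∃ a : ℕ, (∀ χ, χ ≠ 0 → finrank ℂ (weight D.ρ D.e χ) = a) ∧
    finrank ℂ V = D.c + a * (Fintype.card F ^ d - 1) ∧ D.τ = (D.c : ℂ) - a := by
  classical
  obtain ⟨χ₀, hχ₀⟩ := (AddChar.exists_apply_ne_zero (a := (fun _ => 1 : Fin d → F))).2 (one_ne hd)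
  have hχ₀' : χ₀ ≠ 0 := fun h => hχ₀ (by rw [h]; rfl)
  refine ⟨finrank ℂ (weight D.ρ D.e χ₀), fun χ hχ => weight_eq D hd χ χ₀ hχ hχ₀', ?_⟩
  have h1 := weight_mul D hd χ₀ hχ₀'
  have h2 := card_mul_weight_zero D.ρ D.e (fun x hx => trace_rad D hd x hx)
  rw [Fintype.card_fun, Fintype.card_fin, Nat.cast_pow, ← h1, ← mul_comm ((Fintype.card F : ℂ) ^ d), ← mul_add] at h2
  have h3 := mul_left_cancel₀ (pow_ne_zero _ (Nat.cast_ne_zero.2 Fintype.card_ne_zero)) h2
  refine ⟨?_, by rw [LinData.c, h3, add_sub_cancel_left]⟩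
  have hq : 1 ≤ Fintype.card F ^ d := Nat.one_le_pow _ _ Fintype.card_pos
  apply Nat.cast_injective (R := ℂ)
  push_cast [hq, LinData.c]
  linear_combination (-1 : ℂ) * h1 - h3

theorem rad_nontriv [DecidableEq F] : ∃ x, D.ρ (D.σ (rad x)) ≠ 1 := by
  by_contra hc
  push Not at hc
  haveI := D.irr
  have hall : ∀ g, D.ρ (D.σ g) = 1 := by
    haveI : Nontrivial (Fin (d + 1)) := Fin.nontrivial_iff_two_le.2 (by omega)
    intro g
    refine CfsgLib.Linear.transvection_induction (fun g => D.ρ (D.σ g) = 1) (fun i j hij t => ?_)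
      (fun A B hA hB => by rw [map_mul, map_mul, hA, hB, one_mul]) g
    by_cases ht : t = 0
    · have : Matrix.SpecialLinearGroup.transvection hij t = 1 := Subtype.ext (by
        rw [CfsgLib.Linear.transvec_coe, ht, Matrix.transvection_zero, Matrix.SpecialLinearGroup.coe_one])
      rw [this, map_one, map_one]
    · have hdot : (Pi.single j 1 : Fin (d + 1) → F) ⬝ᵥ Pi.single i t = 0 := by
        rw [single_dotProduct, Pi.single_eq_of_ne hij.symm, mul_zero]
      have h1 : Matrix.SpecialLinearGroup.transvection hij t = trv (Pi.single i t) (Pi.single j 1) hdot :=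
        Subtype.ext (by
          show Matrix.transvection i j t = trMat _ _
          ext a b
          simp only [Matrix.transvection, trMat, Matrix.add_apply, Matrix.single_apply, vecMulVec_apply, Pi.single_apply]
          split_ifs <;> grind)
      obtain ⟨g, x, -, hx, -⟩ := exists_conj_rad hd (v := Pi.single i t) (f := Pi.single j 1)
        (fun h => ht (by simpa using congrFun h i)) (fun h => one_ne_zero (α := F) (by simpa using congrFun h j)) hdot
      rw [h1, ← hx, map_mul, map_mul, map_mul, map_mul, hc, mul_one, ← map_mul, ← map_mul, mul_inv_cancel,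
        map_one, map_one]
  have hpos := CfsgLib.Char.finrank_pos_of_isIrreducible D.ρ
  haveI : Nontrivial V := Module.nontrivial_of_finrank_pos (R := ℂ) hpos
  obtain ⟨v, hv⟩ := exists_ne (0 : V)
  exact hv (D.fix v fun g => by rw [hall]; rfl)

theorem a_pos [DecidableEq F] {a : ℕ} (ha : ∀ χ, χ ≠ 0 → finrank ℂ (weight D.ρ D.e χ) = a) : 0 < a := by
  obtain ⟨x, hx⟩ := rad_nontriv D hd
  refine Nat.pos_of_ne_zero fun h0 => hx (rho_eq_one_of_weights D.ρ D.e (fun χ hχ => ?_) x)
  exact Submodule.finrank_eq_zero.1 ((ha χ hχ).trans h0)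

end

end CfsgLib.MinDeg.Lin
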