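import Cfsg.Agent.MinDeg.LinearBound
import Cfsg.Agent.PrimeGraph.DegreeSixty
import Mathlib.LinearAlgebra.Projectivization.Action

/-!
The smallest non-linear degree of `SL_n`.
-/

set_option autoImplicit false
set_option linter.style.haveILetI false

namespace CfsgLib.MinDeg.Lin

open Module Matrix
open scoped LinearAlgebra.Projectivization

universe u v

variable {F : Type u} [Field F] [Fintype F] [DecidableEq F]

omit [DecidableEq F] in
theorem exists_pow_ne_one {e : ℕ} (h : ¬(Fintype.card F - 1) ∣ e) : ∃ a : F, a ≠ 0 ∧ a ^ e ≠ 1 := by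
  classical
  obtain ⟨g, hg⟩ := IsCyclic.exists_ofOrder_eq_natCard (α := Fˣ)
  refine ⟨g, g.ne_zero, fun he => h ?_⟩
  rw [← Fintype.card_units, ← Nat.card_eq_fintype_card, ← hg]
  exact orderOf_dvd_of_pow_eq_one (Units.ext (by rw [Units.val_pow_eq_pow_val, he, Units.val_one]))

variable {d : ℕ} {G : Type*} [Group G] {V : Type*} [AddCommGroup V] [Module ℂ V] [FiniteDimensional ℂ V]
  (D : LinData F (d + 1) G V)

/-- With simple non-trivial weights the radical has fixed vectors. -/
theorem c_pos (hd : 1 ≤ d) (h1 : d = 1 → ∃ a : F, a ≠ 0 ∧ a ^ 3 ≠ 1)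
    (h2 : d = 2 → ∃ a : F, a ≠ 0 ∧ a ^ 2 ≠ 1)
    (hone : ∀ χ, χ ≠ 0 → finrank ℂ (weight D.ρ D.e χ) = 1) : 0 < D.c := by
  classical
  by_contra hc
  obtain ⟨ψ, hψ⟩ := (AddChar.exists_apply_ne_zero (a := (1 : F))).2 one_ne_zero
  let χ : AddChar (Fin (d + 1) → F) ℂ := ψ.compAddMonoidHom (Pi.evalAddMonoidHom (fun _ => F) 0)
  have hχ : χ ≠ 0 := fun h => hψ (DFunLike.congr_fun h (fun _ => 1))
  obtain ⟨⟨w, hw⟩, hw0, hspan⟩ := finrank_eq_one_iff'.1 (hone χ hχ)
  have hwne : w ≠ 0 := fun h => hw0 (Subtype.ext h)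
  have hline : ∀ z ∈ weight D.ρ D.e χ, ∃ l : ℂ, z = l • w := fun z hz => by
    obtain ⟨l, hl⟩ := hspan ⟨z, hz⟩
    exact ⟨l, (congrArg Subtype.val hl).symm⟩
  have hlevi : ∀ h : GL (Fin (d + 1)) F,
      (h : Matrix (Fin (d + 1)) (Fin (d + 1)) F).det • ((h : Matrix (Fin (d + 1)) (Fin (d + 1)) F) *ᵥ Pi.single 0 1) =
        Pi.single 0 1 → D.ρ (D.σ (levi h)) w ∈ weight D.ρ D.e χ := by
    intro h hh x
    show D.ρ (D.σ (rad x)) (D.ρ (D.σ (levi h)) w) = _
    rw [← Module.End.mul_apply, ← map_mul, ← map_mul, uHom_levi, map_mul, map_mul, Module.End.mul_apply,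
      rad_weight D hw, map_smul]
    congr 1
    show ψ _ = ψ (x 0)
    congr 1
    have h3 := congrArg (x ⬝ᵥ ·) hh
    simp only [dotProduct_smul, dotProduct_mulVec, dotProduct_single, mul_one] at h3
    exact h3
  let b : (Fin d → F) → Module.End ℂ V := fun y => D.ρ (D.σ (levi (Matrix.SpecialLinearGroup.toGL (col y))))
  have hb_add : ∀ y z, b (y + z) = b y * b z := fun y z => by
    simp only [b, ← col_mul, map_mul]
  have hb0 : b 0 = 1 := by
    have h3 : col (0 : Fin d → F) = 1 := sl_ext fun w => by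
      rw [col_mulVec, Matrix.SpecialLinearGroup.coe_one, one_mulVec,
        show (Fin.snoc (0 : Fin d → F) 0 : Fin (d + 1) → F) = 0 from funext fun i => by
          refine Fin.lastCases ?_ (fun j => ?_) i <;> simp,
        smul_zero, add_zero]
    simp only [b, h3, map_one]
  have hb_mem : ∀ y, b y w ∈ weight D.ρ D.e χ := fun y => hlevi _ (by
    rw [Matrix.SpecialLinearGroup.coe_GL_coe_matrix, (col y).2, one_smul, col_mulVec,
      Pi.single_eq_of_ne (Fin.ext_iff.not.2 (by simp; omega)), zero_smul, add_zero])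
  have key : ∀ (k : GL (Fin (d + 1)) F) (y y' : Fin d → F),
      (k : Matrix (Fin (d + 1)) (Fin (d + 1)) F).det • ((k : Matrix (Fin (d + 1)) (Fin (d + 1)) F) *ᵥ Pi.single 0 1) =
        Pi.single 0 1 →
      k * Matrix.SpecialLinearGroup.toGL (col y) = Matrix.SpecialLinearGroup.toGL (col y') * k →
        b y' w = b y w := by
    intro k y y' hk hcomm
    obtain ⟨l, hl⟩ := hline _ (hlevi k hk)
    obtain ⟨m, hm⟩ := hline _ (hb_mem y)
    have hl0 : l ≠ 0 := fun h => by
      rw [h, zero_smul] at hl
      have h4 := congrArg (D.ρ (D.σ (levi k⁻¹))) hl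
      rw [← Module.End.mul_apply, ← map_mul, ← map_mul, ← map_mul, inv_mul_cancel, map_one, map_one, map_one,
        Module.End.one_apply, map_zero] at h4
      exact hwne h4
    have h4 : D.ρ (D.σ (levi k)) (b y w) = b y' (D.ρ (D.σ (levi k)) w) := by
      simp only [b, ← Module.End.mul_apply, ← map_mul, hcomm]
    rw [hm, map_smul, hl, map_smul, smul_comm] at h4
    rw [hm]
    exact (smul_right_injective V hl0 h4).symm
  have hcancel : ∀ y z, b (y + z) w = b y w → b z w = w := by
    intro y z h
    have h4 := congrArg (b (-y)) h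
    rw [← Module.End.mul_apply, ← hb_add, ← Module.End.mul_apply, ← hb_add, neg_add_cancel, hb0,
      neg_add_cancel_left] at h4
    exact h4
  have hsingle : ∀ i s, b (Pi.single i s) w = w := by
    intro i s
    by_cases hm : ∃ m : Fin d, (m : ℕ) ≠ 0 ∧ m ≠ i
    · obtain ⟨m, hm0, hmi⟩ := hm
      have hdot : (Pi.single m.castSucc 1 : Fin (d + 1) → F) ⬝ᵥ Pi.single i.castSucc 1 = 0 := by
        rw [single_dotProduct, Pi.single_eq_of_ne (fun e => hmi (Fin.castSucc_injective _ e)), mul_zero]
      let k : Matrix.SpecialLinearGroup (Fin (d + 1)) F := trv (Pi.single i.castSucc 1) (Pi.single m.castSucc 1) hdot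
      refine hcancel (Pi.single m s) _ (key (Matrix.SpecialLinearGroup.toGL k) _ _ ?_ ?_)
      · rw [Matrix.SpecialLinearGroup.coe_GL_coe_matrix, k.2, one_smul, trv_mulVec, single_dotProduct,
          Pi.single_eq_of_ne (fun e => hm0 (by simpa using congrArg Fin.val e)), mul_zero, zero_smul, add_zero]
      · rw [← map_mul, ← map_mul]
        congr 1
        refine sl_ext fun v => ?_
        simp only [k, Matrix.SpecialLinearGroup.coe_mul, ← mulVec_mulVec, trv_mulVec, col_mulVec, single_dotProduct,
          one_mul]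
        have hi : ∀ u : F, (u • (Pi.single i.castSucc 1 : Fin (d + 1) → F)) (Fin.last d) = 0 := fun u => by
          rw [Pi.smul_apply, Pi.single_eq_of_ne (Fin.castSucc_ne_last i).symm, smul_zero]
        funext j
        refine Fin.lastCases ?_ (fun l => ?_) j
        · simp [Pi.single_eq_of_ne (Fin.castSucc_ne_last i).symm]
        · simp only [Pi.add_apply, Pi.smul_apply, hi, Fin.snoc_castSucc, smul_eq_mul, Pi.single_eq_same,
            Pi.single_apply, Fin.castSucc_inj]
          split_ifs <;> ring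
    · push Not at hm
      have hdiag : ∀ α : Fin (d + 1) → F, α 0 * ∏ j, α j = 1 → (∀ j, α j ≠ 0) → α i.castSucc ≠ α (Fin.last d) →
          ∀ s, b (Pi.single i s) w = w := by
        intro α hα hα0 hne s
        let k : GL (Fin (d + 1)) F := GeneralLinearGroup.mkOfDetNeZero (Matrix.diagonal α)
          (by rw [Matrix.det_diagonal]; exact Finset.prod_ne_zero_iff.2 fun j _ => hα0 j)
        set r := α i.castSucc / α (Fin.last d) with hr
        have hr1 : r - 1 ≠ 0 := sub_ne_zero.2 fun e => hne (by rwa [hr, div_eq_one_iff_eq (hα0 _)] at e)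
        refine hcancel (Pi.single i (s / (r - 1))) _ ?_
        rw [← Pi.single_add, show s / (r - 1) + s = r * (s / (r - 1)) by field_simp; ring]
        refine key k _ _ ?_ (Units.ext ?_)
        · show (Matrix.diagonal α).det • (Matrix.diagonal α *ᵥ _) = _
          rw [Matrix.diagonal_mulVec_single, Matrix.det_diagonal, ← Pi.single_smul, smul_eq_mul, mul_one, mul_comm, hα]
        · show Matrix.diagonal α * (↑(col (Pi.single i (s / (r - 1)))) : Matrix (Fin (d + 1)) (Fin (d + 1)) F) =
            (↑(col (Pi.single i (r * (s / (r - 1))))) : Matrix (Fin (d + 1)) (Fin (d + 1)) F) * Matrix.diagonal α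
          refine ext_mulVec fun v => funext fun j => ?_
          simp only [← mulVec_mulVec, col_mulVec, mulVec_diagonal, Pi.add_apply, Pi.smul_apply, smul_eq_mul]
          refine Fin.lastCases ?_ (fun l => ?_) j
          · simp
          · rw [Fin.snoc_castSucc, Fin.snoc_castSucc, Pi.single_apply, Pi.single_apply, hr]
            split_ifs with hl
            · subst hl
              field_simp [hα0 _]
            · ring
      rcases (show d = 1 ∨ (d = 2 ∧ (i : ℕ) = 1) by
        rcases Nat.lt_or_ge d 2 with hlt | hge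
        · omega
        · have := Fin.ext_iff.1 (hm ⟨1, by omega⟩ (by simp))
          refine Or.inr ⟨?_, by simpa using this.symm⟩
          by_contra hd2
          have := Fin.ext_iff.1 (hm ⟨2, by omega⟩ (by simp))
          simp at *
          omega) with rfl | ⟨rfl, hi1⟩
      · obtain ⟨a, ha0, ha⟩ := h1 rfl
        obtain rfl : i = 0 := Subsingleton.elim _ _
        refine hdiag ![a, (a ^ 2)⁻¹] ?_ (fun j => by fin_cases j <;> simp [ha0]) ?_ s
        · simp [Fin.prod_univ_two]
          field_simp
        · intro e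
          refine ha ?_
          simp at e
          field_simp at e
          linear_combination e
      · obtain ⟨a, ha0, ha⟩ := h2 rfl
        obtain rfl : i = 1 := Fin.ext hi1
        refine hdiag ![1, a, a⁻¹] ?_ (fun j => by fin_cases j <;> simp [ha0]) ?_ s
        · simp [Fin.prod_univ_three, ha0]
        · intro e
          refine ha ?_
          simp at e
          field_simp at e
          linear_combination e
  have hall : ∀ y, b y w = w := by
    intro y
    rw [show y = ∑ i, Pi.single i (y i) from (Finset.univ_sum_single y).symm]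
    induction (Finset.univ : Finset (Fin d)) using Finset.induction with
    | empty => rw [Finset.sum_empty, hb0, Module.End.one_apply]
    | insert i s hi ih => rw [Finset.sum_insert hi, hb_add, Module.End.mul_apply, ih, hsingle]
  have hmem : w ∈ weight D.ρ (D.σ.comp colHom) 0 := by
    intro y
    rw [AddChar.zero_apply, one_smul]
    show D.ρ (D.σ (col y)) w = w
    rw [show y = (Fin.cons (y 0) 0 : Fin (d + 1) → F) + Fin.cons 0 (Fin.tail y) from funext fun j => by
      refine Fin.cases ?_ (fun l => ?_) j <;> simp [Fin.tail]]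
    rw [← col_mul, col_head, ← levi_col, map_mul, map_mul, Module.End.mul_apply,
      show D.ρ (D.σ (levi _)) w = w from hall _, rad_weight D hw]
    show ψ _ • w = w
    rw [show (Pi.evalAddMonoidHom (fun _ => F) 0) (Pi.single (Fin.last d) (y 0) : Fin (d + 1) → F) = 0 from
      Pi.single_eq_of_ne (Fin.ext_iff.not.2 (by simp; omega)) _, AddChar.map_zero_eq_one, one_smul]
  have h5 : 0 < finrank ℂ (weight D.ρ (D.σ.comp colHom) 0) :=
    Module.finrank_pos_iff_exists_ne_zero.2 ⟨⟨w, hmem⟩, fun e => hwne (congrArg Subtype.val e)⟩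
  rw [weight_col_zero D (by omega)] at h5
  exact hc h5

omit d G V D in
/-- The lower bound. -/
theorem sl_lower (d : ℕ) (hd : 1 ≤ d) (h1 : d = 1 → ∃ a : F, a ≠ 0 ∧ a ^ 3 ≠ 1)
    (h2 : d = 2 → ∃ a : F, a ≠ 0 ∧ a ^ 2 ≠ 1) {k : ℕ}
    (ρ : Representation ℂ (Matrix.SpecialLinearGroup (Fin (d + 2)) F) (Fin k → ℂ)) (hirr : ρ.IsIrreducible)
    (hk : 2 ≤ k) : Fintype.card F * ∑ i ∈ Finset.range (d + 1), Fintype.card F ^ i ≤ k := by
  classical
  let D : LinData F (d + 1) (Matrix.SpecialLinearGroup (Fin (d + 2)) F) (Fin k → ℂ) :=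
    { σ := MonoidHom.id _
      π := Matrix.SpecialLinearGroup.toGL
      πσ := fun _ => rfl
      π_inj := Matrix.SpecialLinearGroup.toGL_injective
      ρ := ρ
      irr := hirr
      fix := fun v hv => by
        by_contra hv0
        let S : Subrepresentation ρ := ⟨Submodule.span ℂ {v}, fun g w hw => by
          obtain ⟨c, rfl⟩ := Submodule.mem_span_singleton.1 hw
          rw [map_smul, show ρ g v = v from hv g]
          exact hw⟩
        rcases hirr.eq_bot_or_eq_top S with h | h
        · have h3 : Submodule.span ℂ {v} = ⊥ := congrArg Subrepresentation.toSubmodule h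
          exact hv0 (Submodule.span_singleton_eq_bot.1 h3)
        · have h3 : finrank ℂ (Submodule.span ℂ {v}) = k := by
            rw [show Submodule.span ℂ {v} = ⊤ from congrArg Subrepresentation.toSubmodule h, finrank_top,
              Module.finrank_fin_fun]
          rw [finrank_span_singleton hv0] at h3
          omega
      conj := fun x y hx hy => by
        obtain ⟨h, hh⟩ := exists_row_map (by omega) hx hy
        refine isConj_iff.2 ⟨(levi (Matrix.SpecialLinearGroup.toGL h))⁻¹, ?_⟩
        rw [MonoidHom.id_apply, MonoidHom.id_apply, inv_inv, mul_assoc, uHom_levi, inv_mul_cancel_left]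
        rw [Matrix.SpecialLinearGroup.coe_GL_coe_matrix, h.2, one_smul, hh] }
  obtain ⟨a, ha, hdim, -⟩ := exists_a D (by omega)
  have hpos := a_pos D (by omega) ha
  have hfin : finrank ℂ (Fin k → ℂ) = k := Module.finrank_fin_fun ℂ
  rcases Nat.lt_or_ge a 2 with hlt | hge
  · obtain rfl : a = 1 := by omega
    have hb := bound (d + 1) _ _ D (by omega) ha (c_pos D hd h1 h2 ha)
    rwa [hfin] at hb
  · have hpw := pow_eq (F := F) (d + 1)
    have hq2 : 2 ≤ Fintype.card F := Fintype.one_lt_card
    rw [hfin] at hdim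
    set q := Fintype.card F with hq
    set M := ∑ i ∈ Finset.range (d + 1), q ^ i
    rw [← hpw, Nat.add_sub_cancel] at hdim
    calc q * M ≤ 2 * (M * (q - 1)) := by
          rw [mul_comm q M, ← mul_assoc, mul_comm 2 M, mul_assoc]
          exact Nat.mul_le_mul_left M (by omega)
      _ ≤ a * (M * (q - 1)) := Nat.mul_le_mul_right _ hge
      _ ≤ k := by omega

omit d G V D in
/-- The permutation character on points. -/
theorem sl_exists (d : ℕ) :
    ∃ ρ : Representation ℂ (Matrix.SpecialLinearGroup (Fin (d + 2)) F)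
      (Fin (Fintype.card F * ∑ i ∈ Finset.range (d + 1), Fintype.card F ^ i) → ℂ), ρ.IsIrreducible := by
  classical
  have h2t : ∀ {a b c e : ℙ F (Fin (d + 2) → F)}, a ≠ b → c ≠ e →
      ∃ g : Matrix.SpecialLinearGroup (Fin (d + 2)) F, g • a = c ∧ g • b = e :=
    MulAction.is_two_pretransitive_iff.1 inferInstance
  haveI : MulAction.IsPretransitive (Matrix.SpecialLinearGroup (Fin (d + 2)) F) (ℙ F (Fin (d + 2) → F)) :=
    MulAction.isPretransitive_of_is_two_pretransitive
  haveI : Finite (Matrix.SpecialLinearGroup (Fin (d + 2)) F) := inferInstance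
  have hN := card_points (F := F) (d := d + 1)
  have hpos : 0 < Fintype.card F * ∑ i ∈ Finset.range (d + 1), Fintype.card F ^ i :=
    Nat.mul_pos Fintype.card_pos (Finset.sum_pos (fun i _ => pow_pos Fintype.card_pos i) ⟨0, by simp⟩)
  haveI : Nontrivial (ℙ F (Fin (d + 2) → F)) := Finite.one_lt_card_iff_nontrivial.1 (by rw [hN]; omega)
  obtain ⟨x, y₀, hxy⟩ := exists_pair_ne (ℙ F (Fin (d + 2) → F))
  obtain ⟨χ, ⟨n, ρ, hρ, rfl⟩, hχ1⟩ := DegreeSixty.exists_irr_of_two_orbits
    (G := Matrix.SpecialLinearGroup (Fin (d + 2)) F) x hxy.symm fun y hy => by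
      obtain ⟨g, h3, h4⟩ := h2t hxy hy.symm
      exact ⟨g, h3, h4⟩
  rw [ρ.char_one, Module.finrank_fin_fun, hN, Nat.cast_add, Nat.cast_one, add_sub_cancel_left] at hχ1
  obtain rfl : n = _ := Nat.cast_injective hχ1
  exact ⟨ρ, hρ⟩

omit d G V D in
theorem div_eq (d : ℕ) :
    (Fintype.card F ^ (d + 1) - Fintype.card F) / (Fintype.card F - 1) =
      Fintype.card F * ∑ i ∈ Finset.range d, Fintype.card F ^ i := by
  have hq2 : 2 ≤ Fintype.card F := Fintype.one_lt_card
  rw [pow_succ, ← pow_eq d, add_mul, one_mul, Nat.add_sub_cancel, mul_right_comm,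
    Nat.mul_div_cancel _ (by omega), mul_comm]

end CfsgLib.MinDeg.Lin
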