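import Cfsg.Agent.MinDeg.LinearData
import Mathlib.LinearAlgebra.Projectivization.Cardinality

/-!
Translates of a subspace of the fixed space of the radical over the points of projective space.
-/

set_option autoImplicit false
set_option linter.style.haveILetI false

namespace CfsgLib.MinDeg.Lin

open Module Matrix
open scoped LinearAlgebra.Projectivization

variable {F : Type*} [Field F] [Fintype F] [DecidableEq F] {d : ℕ} {G : Type*} [Group G] {V : Type*}
  [AddCommGroup V] [Module ℂ V] [FiniteDimensional ℂ V] (D : LinData F d G V)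

/-- The second basis vector. -/
def e1 (hd : 2 ≤ d) : Fin (d + 1) → F := Fin.cons 0 (Pi.single ⟨0, by omega⟩ 1)

omit [Fintype F] [DecidableEq F] [FiniteDimensional ℂ V] in
theorem rad_weight {χ : AddChar (Fin d → F) ℂ} {w : V} (hw : w ∈ weight D.ρ D.e χ) (x : Fin d → F) :
    D.ρ (D.σ (rad x)) w = χ x • w := hw x

omit [Fintype F] [DecidableEq F] [FiniteDimensional ℂ V] in
theorem mem_rad_weight {w : V} (hw : w ∈ weight D.ρ D.e 0) (x : Fin d → F) : D.ρ (D.σ (rad x)) w = w :=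
  (hw x).trans (by rw [AddChar.zero_apply, one_smul])

omit [Fintype F] [DecidableEq F] [FiniteDimensional ℂ V] in
theorem weight_zero_levi {w : V} (hw : w ∈ weight D.ρ D.e 0) (h : GL (Fin d) F) :
    D.ρ (D.σ (levi h)) w ∈ weight D.ρ D.e 0 := fun x => by
  show D.ρ (D.σ (rad x)) (D.ρ (D.σ (levi h)) w) = _
  rw [← Module.End.mul_apply, ← map_mul, ← map_mul, uHom_levi, map_mul, map_mul, Module.End.mul_apply,
    mem_rad_weight D hw, AddChar.zero_apply, one_smul]

omit [DecidableEq F] in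
/-- An equivariant projection on a Levi-invariant subspace of the fixed space of the radical. -/
theorem exists_eps (W : Submodule ℂ V) (hW : ∀ h, ∀ w ∈ W, D.ρ (D.σ (levi h)) w ∈ W)
    (hWC : W ≤ weight D.ρ D.e 0) :
    ∃ ε : Module.End ℂ V, (∀ v, ε v ∈ W) ∧ (∀ w ∈ W, ε w = w) ∧
      (∀ h v, ε (D.ρ (D.σ (levi h)) v) = D.ρ (D.σ (levi h)) (ε v)) ∧
      ∀ x v, ε (D.ρ (D.σ (rad x)) v) = ε v := by
  classical
  haveI : Fintype (GL (Fin d) F) := Fintype.ofFinite _
  let r : Representation ℂ (GL (Fin d) F) V := D.ρ.comp (D.σ.comp levi)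
  obtain ⟨ε, h1, h2, h3⟩ := exists_equivariant r W hW
  refine ⟨ε.comp (proj D.ρ D.e 0), fun v => h1 _, fun w hw => ?_, fun h v => ?_, fun x v => ?_⟩
  · rw [LinearMap.comp_apply, proj_of_mem D.ρ D.e (hWC hw), if_pos rfl, h2 w hw]
  · have e1 : proj D.ρ D.e 0 (D.ρ (D.σ (levi h)) v) = D.ρ (D.σ (levi h)) (proj D.ρ D.e 0 v) := by
      conv_lhs => rw [← sum_proj D.ρ D.e v, map_sum, map_sum]
      rw [Finset.sum_eq_single (0 : AddChar (Fin d → F) ℂ)]
      · rw [proj_of_mem D.ρ D.e (weight_zero_levi D (proj_mem D.ρ D.e 0 v) h), if_pos rfl]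
      · intro χ _ hχ
        let φ : AddChar (Fin d → F) ℂ := χ.compAddMonoidHom
          (AddMonoidHom.mk' (fun x => (h : Matrix (Fin d) (Fin d) F).det • (x ᵥ* (h : Matrix (Fin d) (Fin d) F)))
            fun a b => by rw [add_vecMul, smul_add])
        have hmem : D.ρ (D.σ (levi h)) (proj D.ρ D.e χ v) ∈ weight D.ρ D.e φ := fun x => by
          show D.ρ (D.σ (rad x)) (D.ρ (D.σ (levi h)) _) = _
          rw [← Module.End.mul_apply, ← map_mul, ← map_mul, uHom_levi, map_mul, map_mul, Module.End.mul_apply,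
            rad_weight D (proj_mem D.ρ D.e χ v), map_smul]
          rfl
        rw [proj_of_mem D.ρ D.e hmem, if_neg]
        intro hφ
        refine hχ (DFunLike.ext _ _ fun x => ?_)
        have h4 := DFunLike.congr_fun hφ ((((h : Matrix (Fin d) (Fin d) F).det)⁻¹ • x) ᵥ*
          ((h⁻¹ : GL (Fin d) F) : Matrix (Fin d) (Fin d) F))
        simp only [φ, AddChar.compAddMonoidHom_apply, AddMonoidHom.mk'_apply, vecMul_vecMul] at h4
        rw [Units.inv_mul, vecMul_one, smul_smul, mul_inv_cancel₀ (gl_det_ne h), one_smul] at h4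
        exact h4
      · simp
    rw [LinearMap.comp_apply, LinearMap.comp_apply, e1]
    exact LinearMap.congr_fun (h3 h) _
  · rw [LinearMap.comp_apply, LinearMap.comp_apply]
    exact congrArg ε (LinearMap.congr_fun (proj_zero_comp D.ρ D.e x) v)

theorem reduce (hd : 2 ≤ d) {g : Matrix.SpecialLinearGroup (Fin (d + 1)) F}
    (hg : ∀ a : F, (g : Matrix (Fin (d + 1)) (Fin (d + 1)) F) *ᵥ e0 ≠ a • e0) :
    ∃ k s : Matrix.SpecialLinearGroup (Fin (d + 1)) F, g = k * s ∧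
      (k : Matrix (Fin (d + 1)) (Fin (d + 1)) F) *ᵥ e0 = e0 ∧
      (s : Matrix (Fin (d + 1)) (Fin (d + 1)) F) *ᵥ e0 = e1 hd := by
  have hli : LinearIndependent F ![(e0 : Fin (d + 1) → F), (g : Matrix (Fin (d + 1)) (Fin (d + 1)) F) *ᵥ e0] := by
    rw [LinearIndependent.pair_iff' (fun h => one_ne_zero (α := F) (by simpa [e0] using congrFun h 0))]
    exact fun a h => hg a h.symm
  obtain ⟨k, hk⟩ := CfsgLib.Char.exists_sl_map (k := 2) (n := d + 1) (by omega) hli
  have hk0 : (k : Matrix (Fin (d + 1)) (Fin (d + 1)) F) *ᵥ e0 = e0 := by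
    have h := hk 0
    rw [show (e0 : Fin (d + 1) → F) = Pi.single 0 1 from e0_eq] at h ⊢
    exact h
  have hk1 : (k : Matrix (Fin (d + 1)) (Fin (d + 1)) F) *ᵥ e1 hd =
      (g : Matrix (Fin (d + 1)) (Fin (d + 1)) F) *ᵥ e0 := by
    have h : (e1 hd : Fin (d + 1) → F) = Pi.single (Fin.castLE (by omega) (1 : Fin 2)) 1 := by
      funext i
      refine Fin.cases ?_ (fun j => ?_) i
      · simp [e1, Pi.single_apply, Fin.ext_iff]
      · simp [e1, Pi.single_apply, Fin.ext_iff]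
    rw [h]
    exact hk 1
  refine ⟨k, k⁻¹ * g, by rw [mul_inv_cancel_left], hk0, ?_⟩
  rw [Matrix.SpecialLinearGroup.coe_mul, ← mulVec_mulVec, ← hk1, mulVec_mulVec, ← Matrix.SpecialLinearGroup.coe_mul,
    inv_mul_cancel, Matrix.SpecialLinearGroup.coe_one, one_mulVec]

theorem exists_transversal (hd : 1 ≤ d) :
    ∃ g : ℙ F (Fin (d + 1) → F) → Matrix.SpecialLinearGroup (Fin (d + 1)) F, ∀ p p' : ℙ F (Fin (d + 1) → F),
      p ≠ p' → ∀ a : F,
        (((g p)⁻¹ * g p' : Matrix.SpecialLinearGroup (Fin (d + 1)) F) : Matrix (Fin (d + 1)) (Fin (d + 1)) F) *ᵥ e0 ≠ a • e0 := by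
  have h : ∀ p : ℙ F (Fin (d + 1) → F), ∃ g : Matrix.SpecialLinearGroup (Fin (d + 1)) F,
      (g : Matrix (Fin (d + 1)) (Fin (d + 1)) F) *ᵥ e0 = p.rep := fun p => by
    obtain ⟨g, hg⟩ := CfsgLib.Char.exists_sl_map (k := 1) (n := d + 1) (by omega) (b := ![p.rep])
      (LinearIndependent.of_subsingleton 0 p.rep_nonzero)
    refine ⟨g, ?_⟩
    rw [e0_eq]
    exact hg 0
  choose g hg using h
  refine ⟨g, fun p p' hne a ha => hne ?_⟩
  have h1 := congrArg ((g p : Matrix (Fin (d + 1)) (Fin (d + 1)) F) *ᵥ ·) ha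
  simp only [mulVec_mulVec, ← Matrix.SpecialLinearGroup.coe_mul, mul_inv_cancel_left, mulVec_smul, hg] at h1
  rw [← p.mk_rep, ← p'.mk_rep]
  refine ((Projectivization.mk_eq_mk_iff' F _ _ p'.rep_nonzero p.rep_nonzero).2 ⟨a, h1.symm⟩).symm

/-- Vanishing off the stabiliser forces independence of the translates. -/
theorem card_points_le (hd' : 1 ≤ d) {W : Submodule ℂ V} (hW0 : W ≠ ⊥) (ε : Module.End ℂ V) (hid : ∀ w ∈ W, ε w = w)
    (hkill : ∀ g : Matrix.SpecialLinearGroup (Fin (d + 1)) F,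
      (∀ a : F, (g : Matrix (Fin (d + 1)) (Fin (d + 1)) F) *ᵥ e0 ≠ a • e0) → ∀ w ∈ W, ε (D.ρ (D.σ g) w) = 0) :
    Nat.card (ℙ F (Fin (d + 1) → F)) ≤ finrank ℂ V := by
  classical
  haveI : Fintype (ℙ F (Fin (d + 1) → F)) := Fintype.ofFinite _
  obtain ⟨g, hg⟩ := exists_transversal (F := F) (d := d) hd'
  obtain ⟨w, hw, hw0⟩ := Submodule.exists_mem_ne_zero_of_ne_bot hW0
  rw [Nat.card_eq_fintype_card]
  refine LinearIndependent.fintype_card_le_finrank (R := ℂ) (b := fun p => D.ρ (D.σ (g p)) w) ?_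
  rw [Fintype.linearIndependent_iff]
  intro u hu p
  have h1 := congrArg (fun v => ε (D.ρ (D.σ (g p)⁻¹) v)) hu
  simp only [map_sum, map_smul, map_zero] at h1
  rw [Finset.sum_eq_single p] at h1
  · rw [← Module.End.mul_apply (D.ρ (D.σ (g p)⁻¹)), ← map_mul, ← map_mul, inv_mul_cancel, map_one, map_one, Module.End.one_apply,
      hid w hw] at h1
    exact (smul_eq_zero.1 h1).resolve_right hw0
  · intro p' _ hp'
    rw [← Module.End.mul_apply (D.ρ (D.σ (g p)⁻¹)), ← map_mul, ← map_mul, hkill _ (hg p p' (Ne.symm hp')) w hw, smul_zero]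
  · simp

theorem kill_of (hd : 2 ≤ d) {W : Submodule ℂ V} {ε : Module.End ℂ V}
    (hεl : ∀ h v, ε (D.ρ (D.σ (levi h)) v) = D.ρ (D.σ (levi h)) (ε v))
    (hεr : ∀ x v, ε (D.ρ (D.σ (rad x)) v) = ε v)
    (hs : ∀ s : Matrix.SpecialLinearGroup (Fin (d + 1)) F,
      (s : Matrix (Fin (d + 1)) (Fin (d + 1)) F) *ᵥ e0 = e1 hd → ∀ w ∈ W, ε (D.ρ (D.σ s) w) = 0)
    (g : Matrix.SpecialLinearGroup (Fin (d + 1)) F)
    (hg : ∀ a : F, (g : Matrix (Fin (d + 1)) (Fin (d + 1)) F) *ᵥ e0 ≠ a • e0) (w : V) (hw : w ∈ W) :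
    ε (D.ρ (D.σ g) w) = 0 := by
  obtain ⟨k, s, rfl, hk, hse⟩ := reduce hd hg
  obtain ⟨h, x, rfl, -⟩ := exists_decomp k (a := 1) (by rw [one_smul]; exact hk)
  rw [mul_assoc, map_mul, map_mul, Module.End.mul_apply, hεl, map_mul, map_mul, Module.End.mul_apply, hεr,
    hs s hse w hw, map_zero]

/-- No vector fixed by the radical of the Levi factor. -/
theorem points_le_of_cuspidal (hd : 2 ≤ d) {W : Submodule ℂ V}
    (hW : ∀ h, ∀ w ∈ W, D.ρ (D.σ (levi h)) w ∈ W) (hWC : W ≤ weight D.ρ D.e 0) (hW0 : W ≠ ⊥)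
    (hcusp : ∀ w ∈ W, (∀ (f : Fin d → F) (h : f ⬝ᵥ Pi.single ⟨0, by omega⟩ 1 = 0),
      D.ρ (D.σ (levi (Matrix.SpecialLinearGroup.toGL (trv (Pi.single ⟨0, by omega⟩ 1) f h)))) w = w) → w = 0) :
    Nat.card (ℙ F (Fin (d + 1) → F)) ≤ finrank ℂ V := by
  obtain ⟨ε, hεW, hid, hεl, hεr⟩ := exists_eps D W hW hWC
  have hd' : 1 ≤ d := by omega
  refine card_points_le D hd' hW0 ε hid (kill_of D hd hεl hεr fun s hse w hw => hcusp _ (hεW _) fun f h => ?_)
  set b := levi (Matrix.SpecialLinearGroup.toGL (trv (Pi.single ⟨0, by omega⟩ 1) f h)) with hb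
  rw [← hεl]
  refine congrArg ε ?_
  have hinv : ((s⁻¹ : Matrix.SpecialLinearGroup (Fin (d + 1)) F) : Matrix (Fin (d + 1)) (Fin (d + 1)) F) *ᵥ e1 hd = e0 := by
    rw [← hse, mulVec_mulVec, ← Matrix.SpecialLinearGroup.coe_mul, inv_mul_cancel, Matrix.SpecialLinearGroup.coe_one,
      one_mulVec]
  have hdot : (Fin.cons 0 f : Fin (d + 1) → F) ⬝ᵥ e1 hd = 0 := by rw [e1, cons_dot, h]; simp
  set f' := (Fin.cons 0 f : Fin (d + 1) → F) ᵥ* (s : Matrix (Fin (d + 1)) (Fin (d + 1)) F) with hf'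
  have hf0 : f' 0 = 0 := by
    have h1 : f' ⬝ᵥ e0 = 0 := by rw [hf', ← dotProduct_mulVec, hse, hdot]
    rw [← cons_tail f', e0, cons_dot] at h1
    simpa using h1
  have hrad : s⁻¹ * b * s = rad (Fin.tail f') := by
    have h1 := trv_conj s⁻¹ (e1 hd) (Fin.cons 0 f) hdot (by rw [conj_dot, hdot])
    rw [hb, levi_trv]
    conv_lhs => arg 2; rw [← inv_inv s]
    refine h1.trans (trv_congr hinv ?_)
    rw [inv_inv]
    exact (cons_tail f').symm.trans (by rw [hf0])
  calc D.ρ (D.σ b) (D.ρ (D.σ s) w) = D.ρ (D.σ s) (D.ρ (D.σ (s⁻¹ * b * s)) w) := by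
        simp only [← Module.End.mul_apply, ← map_mul]
        congr 2
        group
    _ = D.ρ (D.σ s) w := by rw [hrad, mem_rad_weight D (hWC hw)]

theorem points_le_of_line (hd : 2 ≤ d) {w₀ : V} (hw₀ : w₀ ∈ weight D.ρ D.e 0) (hne : w₀ ≠ 0)
    (μ : GL (Fin d) F → ℂ) (hμ : ∀ h, D.ρ (D.σ (levi h)) w₀ = μ h • w₀)
    (hSL : ∀ h : GL (Fin d) F, (h : Matrix (Fin d) (Fin d) F).det = 1 → μ h = 1) :
    Nat.card (ℙ F (Fin (d + 1) → F)) ≤ finrank ℂ V + 1 := by
  classical
  let W : Submodule ℂ V := Submodule.span ℂ {w₀}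
  have hW : ∀ h, ∀ w ∈ W, D.ρ (D.σ (levi h)) w ∈ W := by
    intro h w hw
    obtain ⟨c, rfl⟩ := Submodule.mem_span_singleton.1 hw
    rw [map_smul, hμ]
    exact W.smul_mem _ (Submodule.smul_mem _ _ (Submodule.mem_span_singleton_self w₀))
  have hWC : W ≤ weight D.ρ D.e 0 := (Submodule.span_singleton_le_iff_mem _ _).2 hw₀
  have hWμ : ∀ h, ∀ w ∈ W, D.ρ (D.σ (levi h)) w = μ h • w := by
    intro h w hw
    obtain ⟨c, rfl⟩ := Submodule.mem_span_singleton.1 hw
    rw [map_smul, hμ, smul_comm]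
  have hW0 : W ≠ ⊥ := by simpa [W] using hne
  obtain ⟨ε, hεW, hid, hεl, hεr⟩ := exists_eps D W hW hWC
  have hd' : 1 ≤ d := by omega
  by_cases hμ1 : ∃ h, μ h ≠ 1
  · obtain ⟨h₀, hh₀⟩ := hμ1
    refine le_trans (card_points_le D hd' hW0 ε hid (kill_of D hd hεl hεr fun s hse w hw => ?_)) (Nat.le_succ _)
    have hL : (⟨d - 1, by omega⟩ : Fin d) ≠ ⟨0, by omega⟩ := fun h => by simp [Fin.ext_iff] at h; omega
    let Dg : Matrix (Fin d) (Fin d) F :=
      Matrix.diagonal (Function.update (1 : Fin d → F) ⟨d - 1, by omega⟩ (h₀ : Matrix (Fin d) (Fin d) F).det)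
    have hDd : Dg.det = (h₀ : Matrix (Fin d) (Fin d) F).det := by
      rw [Matrix.det_diagonal, Finset.prod_update_of_mem (Finset.mem_univ _)]
      simp
    let t : GL (Fin d) F := GeneralLinearGroup.mkOfDetNeZero Dg (by rw [hDd]; exact gl_det_ne h₀)
    have hte : (levi t : Matrix (Fin (d + 1)) (Fin (d + 1)) F) *ᵥ e1 hd = e1 hd := by
      rw [e1, levi_mulVec, mul_zero]
      congr 1
      show Dg *ᵥ _ = _
      rw [Matrix.diagonal_mulVec_single, Function.update_of_ne hL.symm, Pi.one_apply, one_mul]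
    have hμt : μ t = μ h₀ := by
      have hd1 : ((h₀⁻¹ * t : GL (Fin d) F) : Matrix (Fin d) (Fin d) F).det = 1 := by
        rw [Units.val_mul, Matrix.det_mul, show (t : Matrix (Fin d) (Fin d) F).det = _ from hDd, ← Matrix.det_mul,
          Units.inv_mul, Matrix.det_one]
      have h1 := hμ (h₀ * (h₀⁻¹ * t))
      rw [map_mul, map_mul, map_mul, Module.End.mul_apply, hμ, hSL _ hd1, one_smul, hμ, mul_inv_cancel_left] at h1
      exact (smul_left_injective ℂ hne h1).symm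
    have hp : ((s⁻¹ * levi t * s : Matrix.SpecialLinearGroup (Fin (d + 1)) F) :
        Matrix (Fin (d + 1)) (Fin (d + 1)) F) *ᵥ e0 = (1 : F) • e0 := by
      rw [Matrix.SpecialLinearGroup.coe_mul, Matrix.SpecialLinearGroup.coe_mul, ← mulVec_mulVec, hse,
        ← mulVec_mulVec, hte, ← hse, mulVec_mulVec, ← Matrix.SpecialLinearGroup.coe_mul, inv_mul_cancel,
        Matrix.SpecialLinearGroup.coe_one, one_mulVec, one_smul]
    obtain ⟨h', x, hdec, ha⟩ := exists_decomp _ hp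
    have hfix : D.ρ (D.σ (s⁻¹ * levi t * s)) w = w := by
      rw [hdec, map_mul, map_mul, Module.End.mul_apply, mem_rad_weight D (hWC hw), hWμ _ _ hw,
        hSL h' (inv_eq_one.1 ha.symm), one_smul]
    have h1 : ε (D.ρ (D.σ (levi t)) (D.ρ (D.σ s) w)) = ε (D.ρ (D.σ s) w) := by
      conv_rhs => rw [← hfix]
      simp only [← Module.End.mul_apply, ← map_mul]
      congr 4
      group
    rw [hεl, hWμ _ _ (hεW _), hμt] at h1
    by_contra hn
    exact hh₀ (smul_left_injective ℂ hn (h1.trans (one_smul ℂ _).symm))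
  · push Not at hμ1
    have hfixP : ∀ p : Matrix.SpecialLinearGroup (Fin (d + 1)) F, ∀ a : F,
        (p : Matrix (Fin (d + 1)) (Fin (d + 1)) F) *ᵥ e0 = a • e0 → D.ρ (D.σ p) w₀ = w₀ := by
      intro p a hp
      obtain ⟨h, x, rfl, -⟩ := exists_decomp p hp
      rw [map_mul, map_mul, Module.End.mul_apply, mem_rad_weight D hw₀, hμ, hμ1, one_smul]
    obtain ⟨s₀, hs₀⟩ : ∃ s : Matrix.SpecialLinearGroup (Fin (d + 1)) F,
        (s : Matrix (Fin (d + 1)) (Fin (d + 1)) F) *ᵥ e0 = e1 hd := by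
      obtain ⟨s, hs⟩ := CfsgLib.Char.exists_sl_map (k := 1) (n := d + 1) (by omega) (b := ![(e1 hd : Fin (d + 1) → F)])
        (LinearIndependent.of_subsingleton 0 fun h => one_ne_zero (α := F)
          (by simpa [e1] using congrFun h (Fin.succ ⟨0, by omega⟩)))
      refine ⟨s, ?_⟩
      rw [e0_eq]
      exact hs 0
    obtain ⟨T, hT⟩ := Submodule.mem_span_singleton.1 (hεW (D.ρ (D.σ s₀) w₀))
    have hconst : ∀ g : Matrix.SpecialLinearGroup (Fin (d + 1)) F,
        (∀ a : F, (g : Matrix (Fin (d + 1)) (Fin (d + 1)) F) *ᵥ e0 ≠ a • e0) →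
          ε (D.ρ (D.σ g) w₀) = T • w₀ := by
      intro g hg
      obtain ⟨k, s, rfl, hk, hse⟩ := reduce hd hg
      obtain ⟨h, x, rfl, -⟩ := exists_decomp k (a := 1) (by rw [one_smul]; exact hk)
      have hsp : D.ρ (D.σ s) w₀ = D.ρ (D.σ s₀) w₀ := by
        conv_lhs => rw [← mul_inv_cancel_left s₀ s, map_mul, map_mul, Module.End.mul_apply]
        rw [hfixP (s₀⁻¹ * s) 1 (by rw [Matrix.SpecialLinearGroup.coe_mul, ← mulVec_mulVec, hse, ← hs₀,
          mulVec_mulVec, ← Matrix.SpecialLinearGroup.coe_mul, inv_mul_cancel, Matrix.SpecialLinearGroup.coe_one,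
          one_mulVec, one_smul])]
      rw [mul_assoc, map_mul, map_mul, Module.End.mul_apply, hεl, map_mul, map_mul, Module.End.mul_apply, hεr,
        hsp, ← hT, map_smul, hμ, hμ1, one_smul]
    by_cases hT1 : T = 1
    · exfalso
      haveI : Fintype (Matrix.SpecialLinearGroup (Fin (d + 1)) F) := Fintype.ofFinite _
      have hS : ∑ g, D.ρ (D.σ g) w₀ = 0 := D.fix _ fun k => by
        rw [map_sum]
        exact Fintype.sum_equiv (Equiv.mulLeft k) _ _ fun g => by
          rw [Equiv.coe_mulLeft, map_mul, map_mul, Module.End.mul_apply]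
      have h1 := congrArg ε hS
      rw [map_sum, map_zero, Finset.sum_congr rfl fun g _ => show ε (D.ρ (D.σ g) w₀) = w₀ by
        by_cases hg : ∃ a : F, (g : Matrix (Fin (d + 1)) (Fin (d + 1)) F) *ᵥ e0 = a • e0
        · obtain ⟨a, ha⟩ := hg
          rw [hfixP g a ha, hid _ (Submodule.mem_span_singleton_self w₀)]
        · push Not at hg
          rw [hconst g hg, hT1, one_smul], Finset.sum_const, ← Nat.cast_smul_eq_nsmul ℂ] at h1
      exact hne ((smul_eq_zero.1 h1).resolve_left (by simp))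
    haveI : Fintype (ℙ F (Fin (d + 1) → F)) := Fintype.ofFinite _
    obtain ⟨g, hg⟩ := exists_transversal (F := F) (d := d) hd'
    haveI : Nonempty (ℙ F (Fin (d + 1) → F)) :=
      ⟨Projectivization.mk F e0 fun h => one_ne_zero (α := F) (by simpa [e0] using congrFun h 0)⟩
    obtain ⟨p₀⟩ := ‹Nonempty (ℙ F (Fin (d + 1) → F))›
    have hli : LinearIndependent ℂ fun p : {p // p ≠ p₀} => D.ρ (D.σ (g p.1)) w₀ - D.ρ (D.σ (g p₀)) w₀ := by
      rw [Fintype.linearIndependent_iff]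
      intro u hu p
      have h1 := congrArg (fun v => ε (D.ρ (D.σ (g p.1)⁻¹) v)) hu
      simp only [map_sum, map_smul, map_sub, map_zero] at h1
      have e1 : ∀ p' : ℙ F (Fin (d + 1) → F), ε (D.ρ (D.σ (g p.1)⁻¹) (D.ρ (D.σ (g p')) w₀)) =
          (if p' = p.1 then (1 : ℂ) else T) • w₀ := by
        intro p'
        rw [← Module.End.mul_apply (D.ρ (D.σ (g p.1)⁻¹)), ← map_mul, ← map_mul]
        split_ifs with h
        · rw [h, inv_mul_cancel, map_one, map_one, Module.End.one_apply, one_smul,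
            hid _ (Submodule.mem_span_singleton_self w₀)]
        · exact hconst _ (hg _ _ (Ne.symm h))
      simp only [e1, if_neg (Ne.symm p.2), ← sub_smul, smul_smul, ← Finset.sum_smul] at h1
      have h3 := (smul_eq_zero.1 h1).resolve_right hne
      rw [Finset.sum_eq_single p] at h3
      · rw [if_pos rfl] at h3
        exact (mul_eq_zero.1 h3).resolve_right (sub_ne_zero.2 (Ne.symm hT1))
      · intro p' _ hp'
        rw [if_neg (fun h => hp' (Subtype.ext h)), sub_self, mul_zero]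
      · simp
    have h4 := hli.fintype_card_le_finrank
    rw [Fintype.card_subtype_compl, Fintype.card_subtype_eq] at h4
    rw [Nat.card_eq_fintype_card]
    omega

end CfsgLib.MinDeg.Lin
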