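import Cfsg.Agent.MinDeg.OmegaClass

/-!
The inductive step for the lower bound on degrees of representations of `Ω^±_{2n}`.
-/

set_option autoImplicit false
set_option linter.style.haveILetI false

namespace CfsgLib.MinDeg.Om

open QuadraticMap Module CfsgLib.Forms CfsgLib.Quad
open scoped Classical

universe u v w

variable {F : Type u} [Field F] [Fintype F] {W : Type v} [AddCommGroup W] [Module F W] [FiniteDimensional F W]
  {Q : QuadraticForm F W}

/-- The geometry of `O^ε_{2m}`. -/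
structure Geo (Q : QuadraticForm F W) (m : ℕ) (ε : ℤ) : Prop where
  nd : (polarBilin Q).Nondegenerate
  dim : finrank F W = 2 * m
  pos : 1 ≤ m
  sgn : ε = 1 ∨ ε = -1
  zero : (Nat.card {v : W // Q v = 0} : ℤ) =
    (Fintype.card F : ℤ) ^ (2 * m - 1) + ε * (Fintype.card F : ℤ) ^ (m - 1) * ((Fintype.card F : ℤ) - 1)
  level : ∀ a : F, a ≠ 0 → (Nat.card {v : W // Q v = a} : ℤ) =
    (Fintype.card F : ℤ) ^ (2 * m - 1) - ε * (Fintype.card F : ℤ) ^ (m - 1)

theorem card_level_hypSum (Q : QuadraticForm F W) (a : F) :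
    (Nat.card {p : (F × F) × W // hypSum Q p = a} : ℤ) =
      ((Fintype.card F : ℤ) - 1) * Nat.card W + (Fintype.card F : ℤ) * Nat.card {v : W // Q v = a} := by
  haveI : Finite W := Module.finite_of_finite F
  haveI := Fintype.ofFinite W
  have e : {p : (F × F) × W // hypSum Q p = a} ≃ Σ v : W, {p : F × F // p.1 * p.2 + Q v = a} :=
    { toFun := fun p => ⟨p.1.2, p.1.1, p.2⟩
      invFun := fun p => ⟨(p.2.1, p.1), p.2.2⟩
      left_inv := fun p => rfl
      right_inv := fun p => rfl }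
  have hfib : ∀ c : F, (Nat.card {p : F × F // p.1 * p.2 + c = a} : ℤ) =
      ((Fintype.card F : ℤ) - 1) + if c = a then (Fintype.card F : ℤ) else 0 := by
    intro c
    have e1 : {p : F × F // p.1 * p.2 + c = a} ≃ {y : F // c = a} ⊕ {x : F // x ≠ 0} :=
      { toFun := fun p => if h : p.1.1 = 0 then Sum.inl ⟨p.1.2, by simpa [h] using p.2⟩
          else Sum.inr ⟨p.1.1, h⟩
        invFun := Sum.elim (fun y => ⟨(0, y.1), by simp [y.2]⟩)
          (fun x => ⟨(x.1, (a - c) / x.1), by rw [mul_div_cancel₀ _ x.2]; simp⟩)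
        left_inv := fun p => by
          by_cases h : p.1.1 = 0
          · simp only [dif_pos h, Sum.elim_inl]; exact Subtype.ext (Prod.ext h.symm rfl)
          · simp only [dif_neg h, Sum.elim_inr]
            refine Subtype.ext (Prod.ext rfl ?_)
            change (a - c) / p.1.1 = p.1.2
            rw [div_eq_iff h]; linear_combination -p.2
        right_inv := fun s => by
          rcases s with y | x
          · simp
          · simp [x.2] }
    have hx : (Nat.card {x : F // x ≠ 0} : ℤ) = (Fintype.card F : ℤ) - 1 := by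
      rw [Nat.card_eq_fintype_card, Fintype.card_subtype_compl, Fintype.card_subtype_eq]
      push_cast [Nat.cast_sub (Fintype.card_pos (α := F))]
      ring
    have hy : (Nat.card {y : F // c = a} : ℤ) = if c = a then (Fintype.card F : ℤ) else 0 := by
      split_ifs with h
      · rw [Nat.card_congr (Equiv.subtypeUnivEquiv fun _ => h), Nat.card_eq_fintype_card]
      · haveI : IsEmpty {y : F // c = a} := ⟨fun y => h y.2⟩
        simp
    rw [Nat.card_congr e1, Nat.card_sum, Nat.cast_add, hx, hy, add_comm]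
  rw [Nat.card_congr e, Nat.card_sigma]
  push_cast
  rw [Finset.sum_congr rfl fun v _ => hfib (Q v), Finset.sum_add_distrib, Finset.sum_const,
    ← Finset.sum_filter, Finset.sum_const, Finset.card_univ, nsmul_eq_mul, nsmul_eq_mul,
    Nat.card_eq_fintype_card, Nat.card_eq_fintype_card, Fintype.card_subtype]
  ring

theorem Geo.hyp {m : ℕ} {ε : ℤ} (h : Geo Q m ε) : Geo (hypSum Q) (m + 1) ε := by
  obtain ⟨k, rfl⟩ : ∃ k, m = k + 1 := ⟨m - 1, by have := h.pos; omega⟩
  have hW : (Nat.card W : ℤ) = (Fintype.card F : ℤ) ^ (2 * (k + 1)) := by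
    rw [Module.natCard_eq_pow_finrank (K := F), h.dim, Nat.card_eq_fintype_card]
    push_cast
    ring
  refine ⟨hypSum_nondeg h.nd, by rw [finrank_hyp, h.dim]; ring, by omega, h.sgn, ?_, fun a ha => ?_⟩
  · rw [card_level_hypSum, hW, h.zero, show 2 * (k + 1) - 1 = 2 * k + 1 by omega,
      show 2 * (k + 1 + 1) - 1 = 2 * k + 3 by omega]
    simp only [Nat.add_sub_cancel]
    ring
  · rw [card_level_hypSum, hW, h.level a ha, show 2 * (k + 1) - 1 = 2 * k + 1 by omega,
      show 2 * (k + 1 + 1) - 1 = 2 * k + 3 by omega]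
    simp only [Nat.add_sub_cancel]
    ring

/-- A lower bound for the degrees of non-linear irreducible representations of `Ω(W)`. -/
def Bound (Q : QuadraticForm F W) (L : ℤ) : Prop :=
  ∀ (k : ℕ) (ρ : Representation ℂ ↥(commutator (oGroup Q)) (Fin k → ℂ)), ρ.IsIrreducible → 2 ≤ k → L ≤ (k : ℤ)

/-- The size of a level. -/
noncomputable def levelSize (m : ℕ) (ε : ℤ) (a : F) : ℤ := if a = 0 then
    ((Fintype.card F : ℤ) ^ m - ε) * ((Fintype.card F : ℤ) ^ (m - 1) + ε)
  else (Fintype.card F : ℤ) ^ (2 * m - 1) - ε * (Fintype.card F : ℤ) ^ (m - 1)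

variable {m : ℕ} {ε : ℤ} (hgeo : Geo Q m ε)
include hgeo

theorem card_zero_nz : (Nat.card {v : W // Q v = 0 ∧ v ≠ 0} : ℤ) =
    ((Fintype.card F : ℤ) ^ m - ε) * ((Fintype.card F : ℤ) ^ (m - 1) + ε) := by
  haveI : Finite W := Module.finite_of_finite F
  haveI := Fintype.ofFinite W
  obtain ⟨k, rfl⟩ : ∃ k, m = k + 1 := ⟨m - 1, by have := hgeo.pos; omega⟩
  have h0 : (Finset.univ.filter fun v : W => Q v = 0 ∧ v ≠ 0) = (Finset.univ.filter fun v : W => Q v = 0).erase 0 := by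
    ext v; simp [and_comm]
  have h1 := hgeo.zero
  rw [Nat.card_eq_fintype_card, Fintype.card_subtype] at h1 ⊢
  rw [h0, Finset.card_erase_of_mem (by simp), Nat.cast_sub (Finset.card_pos.2 ⟨0, by simp⟩), h1]
  simp only [Nat.add_sub_cancel, show 2 * (k + 1) - 1 = 2 * k + 1 by omega]
  rcases hgeo.sgn with rfl | rfl <;> ring

theorem card_level [Fintype W] (a : F) :
    ((Finset.univ.filter fun v : W => v ≠ 0 ∧ Q v = a).card : ℤ) = levelSize m ε a := by
  rw [levelSize]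
  split_ifs with ha
  · subst ha
    rw [← card_zero_nz hgeo, Nat.card_eq_fintype_card, Fintype.card_subtype]
    congr 2
    exact Finset.filter_congr fun v _ => and_comm
  · rw [← hgeo.level a ha, Nat.card_eq_fintype_card, Fintype.card_subtype]
    congr 2
    exact Finset.filter_congr fun v _ => ⟨fun h => h.2, fun h => ⟨fun e => ha (by rw [← h, e, QuadraticMap.map_zero]), h⟩⟩

theorem exists_ts_pair (hm : 3 ≤ m) :
    ∃ u w : W, Q u = 0 ∧ Q w = 0 ∧ polar Q u w = 0 ∧ LinearIndependent F ![u, w] := by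
  have hQ := hgeo.nd
  obtain ⟨u, -, hu0, hu⟩ := exists_singular_of_three (Q := Q) (⊤ : Submodule F W)
    (by rw [finrank_top, hgeo.dim]; omega)
  obtain ⟨y, hy⟩ := exists_polar_ne hQ hu0
  have h1 := finrank_perpS hQ (Submodule.span F (Set.range ![u, y]))
  have h2 : finrank F (Submodule.span F (Set.range ![u, y])) ≤ 2 := (finrank_range_le_card _).trans (by simp)
  obtain ⟨w, hw, hw0, hQw⟩ := exists_singular_of_three (Q := Q) (perpS Q (Submodule.span F (Set.range ![u, y])))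
    (by rw [hgeo.dim] at h1; omega)
  refine ⟨u, w, hu, hQw, hw u (Submodule.subset_span ⟨0, rfl⟩), LinearIndependent.pair_iff.2 fun s t hst => ?_⟩
  have h3 := congrArg (polar Q y) hst
  rw [polar_add_right, polar_smul_right, polar_smul_right, hw y (Submodule.subset_span ⟨1, rfl⟩), polar_zero_right,
    polar_comm (⇑Q) y u, smul_zero, add_zero, smul_eq_mul, mul_eq_zero] at h3
  have hs := h3.resolve_right hy
  rw [hs, zero_smul, zero_add] at hst
  exact ⟨hs, (smul_eq_zero.1 hst).resolve_right hw0⟩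

variable {X : Type w} [AddCommGroup X] [Module ℂ X] [FiniteDimensional ℂ X] (ρ : Representation ℂ (OG Q) X)
  (hρ : ρ.IsIrreducible) (h2X : 2 ≤ finrank ℂ X)
include hρ h2X

theorem finrank_ge_levels [Fintype W] (hn : 4 ≤ finrank F W) (ψ : AddChar F ℂ) (hψ : ψ ≠ 0) (S : Finset F)
    (f : F → W) (hf : ∀ a ∈ S, f a ≠ 0 ∧ Q (f a) = a) :
    (mult hgeo.nd hn ρ ψ 0 : ℤ) + ∑ a ∈ S, (mult hgeo.nd hn ρ ψ (f a) : ℤ) * levelSize m ε a ≤ (finrank ℂ X : ℤ) := by
  rw [← sum_mult hgeo.nd hn ρ ψ hψ, Nat.cast_sum, ← Finset.add_sum_erase _ _ (Finset.mem_univ (0 : W))]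
  refine add_le_add le_rfl ?_
  calc ∑ a ∈ S, (mult hgeo.nd hn ρ ψ (f a) : ℤ) * levelSize m ε a
      = ∑ a ∈ S, ∑ v ∈ (Finset.univ.erase (0 : W)).filter (fun v => Q v = a), (mult hgeo.nd hn ρ ψ v : ℤ) := by
        refine Finset.sum_congr rfl fun a ha => ?_
        rw [Finset.sum_congr rfl (g := fun _ => (mult hgeo.nd hn ρ ψ (f a) : ℤ)) fun v hv => ?_, Finset.sum_const,
          nsmul_eq_mul, mul_comm, ← card_level hgeo a]
        · congr 3
          ext v
          simp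
        · rw [Finset.mem_filter, Finset.mem_erase] at hv
          rw [mult_level hgeo.nd hn ρ ψ hv.1.1 (hf a ha).1 (hv.2.trans (hf a ha).2.symm)]
    _ ≤ ∑ v ∈ Finset.univ.erase (0 : W), (mult hgeo.nd hn ρ ψ v : ℤ) := by
        rw [← Finset.sum_fiberwise (Finset.univ.erase (0 : W)) (fun v => Q v)]
        exact Finset.sum_le_univ_sum_of_nonneg fun a => Finset.sum_nonneg fun v _ => Int.natCast_nonneg _

/-- The bound from the orbits alone. -/
theorem ls_bound (hm : 2 ≤ m) : min (levelSize (F := F) m ε 0) (levelSize (F := F) m ε 1) ≤ (finrank ℂ X : ℤ) := by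
  haveI : Finite W := Module.finite_of_finite F
  haveI := Fintype.ofFinite W
  have hn : 4 ≤ finrank F W := by rw [hgeo.dim]; omega
  obtain ⟨ψ, hψ⟩ := (AddChar.exists_apply_ne_zero (a := (1 : F))).2 one_ne_zero
  have hψ0 : ψ ≠ 0 := fun h => hψ (by rw [h]; rfl)
  obtain ⟨v, hv0, hv⟩ := exists_mult hgeo.nd hn ρ ψ hψ0 hρ h2X
  have h1 := finrank_ge_levels hgeo ρ hρ h2X hn ψ hψ0 {Q v} (fun _ => v)
    (fun a ha => ⟨hv0, (Finset.mem_singleton.1 ha).symm⟩)
  rw [Finset.sum_singleton] at h1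
  have hmin : min (levelSize (F := F) m ε 0) (levelSize (F := F) m ε 1) ≤ levelSize m ε (Q v) := by
    by_cases ha : Q v = 0
    · rw [ha]; exact min_le_left _ _
    · exact (min_le_right _ _).trans (le_of_eq (by simp [levelSize, ha]))
  have hnn : 0 ≤ levelSize m ε (Q v) := by rw [← card_level hgeo (Q v)]; exact Int.natCast_nonneg _
  have hv1 : (1 : ℤ) ≤ mult hgeo.nd hn ρ ψ v := by exact_mod_cast hv
  nlinarith [Int.natCast_nonneg (mult hgeo.nd hn ρ ψ 0)]

omit [Fintype F] hgeo hρ h2X in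
theorem zero_le_of_mul {q T num : ℤ} (hq : 2 ≤ q) (hT : T * (q ^ 2 - 1) = num) (hnum : 0 ≤ num) :
    0 ≤ T ∧ 3 * T ≤ num := by
  have h3 : 3 ≤ q ^ 2 - 1 := by nlinarith
  have h0 : 0 ≤ T := by
    by_contra h
    push Not at h
    nlinarith
  exact ⟨h0, by nlinarith⟩

/-- The bound up to one or two, and the shape of the remaining case. -/
theorem core (hm : 3 ≤ m) (hroom : 4 ≤ m ∨ (∀ U : Submodule F W, (∀ x ∈ U, Q x = 0) → finrank F U ≤ 2) ∨
      ∃ α : F, α ≠ 0 ∧ α * α ≠ 1) (hscale : ε = -1 ∨ ∃ t : F, t ≠ 0 ∧ t * t ≠ 1) {T e : ℤ}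
    (hT : T * ((Fintype.card F : ℤ) ^ 2 - 1) =
      ((Fintype.card F : ℤ) ^ m - ε) * ((Fintype.card F : ℤ) ^ (m - 1) + ε * (Fintype.card F : ℤ)))
    (he0 : 0 ≤ e) (he : e = 0 ∨ m = 3 ∧ ε = -1) (hIH : Bound Q (T - e)) :
    let T₁ := T + ((Fintype.card F : ℤ) ^ m - ε) * ((Fintype.card F : ℤ) ^ (m - 1) + ε) + 1
    T₁ - 1 - e ≤ (finrank ℂ X : ℤ) ∧ ((finrank ℂ X : ℤ) < T₁ → ∀ [Fintype W] (hn : 4 ≤ finrank F W) (ψ : AddChar F ℂ),
      ψ ≠ 0 → ∀ v, v ≠ 0 → mult hgeo.nd hn ρ ψ v = if Q v = 0 then 1 else 0) := by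
  intro T₁
  haveI : Finite W := Module.finite_of_finite F
  have hQ := hgeo.nd
  set q : ℤ := (Fintype.card F : ℤ) with hq
  have hq2 : 2 ≤ q := by rw [hq]; exact_mod_cast Fintype.one_lt_card
  obtain ⟨k, rfl⟩ : ∃ k, m = k + 3 := ⟨m - 3, by omega⟩
  simp only [show k + 3 - 1 = k + 2 from rfl] at hT
  set A := q ^ (k + 3) with hA
  set B := q ^ (k + 2) with hB
  have hAB : A = q * B := by rw [hA, hB]; ring
  have hB4 : q ^ 2 ≤ B := pow_le_pow_right₀ (by omega) (by omega)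
  have hB0 : 4 ≤ B := by nlinarith
  have hQ1 : (q : ℤ) ^ (2 * (k + 3) - 1) = A * B := by
    rw [hA, hB, ← pow_add]; congr 1; omega
  have hsg := hgeo.sgn
  have hT' : 0 ≤ T ∧ 3 * T ≤ (A - ε) * (B + ε * q) := zero_le_of_mul hq2 hT (by
    rcases hsg with rfl | rfl <;> apply mul_nonneg <;> nlinarith)
  set N0 := (A - ε) * (B + ε) with hN0
  set N1 := A * B - ε * B with hN1
  have hls : ∀ a : F, levelSize (k + 3) ε a = if a = 0 then N0 else N1 := fun a => by
    simp only [levelSize, show k + 3 - 1 = k + 2 from rfl, hQ1, ← hA, ← hB, ← hq, ← hN0, ← hN1]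
  have hT1 : T₁ = T + N0 + 1 := by simp only [T₁, show k + 3 - 1 = k + 2 from rfl, hN0, hA, hB, hq]
  have hbig : T₁ ≤ N0 + N0 ∧ T₁ ≤ N1 + N1 ∧ T₁ ≤ N0 + N1 := by
    rw [hT1]
    rcases hsg with rfl | rfl
    · have : T + (A - 1) + 1 ≤ N1 := by
        have hpoly : 0 ≤ B * (2 * q * B - 2 - 3 * q - q ^ 2) := mul_nonneg (by linarith) (by nlinarith)
        have h3T := hT'.2
        rw [hN1, hAB]
        rw [hAB] at h3T
        nlinarith
      have h0 : N0 = N1 + (A - 1) := by rw [hN0, hN1]; ring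
      refine ⟨?_, ?_, ?_⟩ <;> nlinarith
    · have hA1 : 0 ≤ A + 1 := by nlinarith
      have h0 : (A + 1) * (B + -1 * q) ≤ (A + 1) * (B + -1) := mul_le_mul_of_nonneg_left (by linarith) hA1
      have h3 : 3 ≤ (A + 1) * (B + -1) := by nlinarith
      have h1 : T + 1 ≤ N0 := by
        rw [hN0]
        have h3T := hT'.2
        simp only [sub_neg_eq_add] at h3T ⊢
        linarith
      have h2 : N0 + A + 1 = N1 := by rw [hN0, hN1]; ring
      refine ⟨?_, ?_, ?_⟩ <;> nlinarith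
  suffices key : ∀ [Fintype W] (hn : 4 ≤ finrank F W) (ψ : AddChar F ℂ), ψ ≠ 0 →
      T₁ ≤ (finrank ℂ X : ℤ) ∨ (T₁ - 1 - e ≤ (finrank ℂ X : ℤ) ∧
        ∀ v, v ≠ 0 → mult hgeo.nd hn ρ ψ v = if Q v = 0 then 1 else 0) by
    refine ⟨?_, fun hlt _ hn ψ hψ => ((key hn ψ hψ).resolve_left (by omega)).2⟩
    haveI := Fintype.ofFinite W
    obtain ⟨ψ, hψ⟩ := (AddChar.exists_apply_ne_zero (a := (1 : F))).2 one_ne_zero
    have hn : 4 ≤ finrank F W := by rw [hgeo.dim]; omega
    rcases key hn ψ (fun h => hψ (by rw [h]; rfl)) with h | h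
    · omega
    · exact h.1
  intro _ hn ψ hψ
  obtain ⟨v, hv0, hv⟩ := exists_mult hQ hn ρ ψ hψ hρ h2X
  set a := Q v with ha
  have hN : ∀ b : F, 0 ≤ levelSize (k + 3) ε b := fun b => by rw [← card_level hgeo b]; exact Int.natCast_nonneg _
  have hpair : ∀ b : F, T₁ ≤ levelSize (k + 3) ε a + levelSize (k + 3) ε b := fun b => by
    rw [hls, hls]; split_ifs <;> omega
  by_cases hv2 : 2 ≤ mult hQ hn ρ ψ v
  · left
    have h1 := finrank_ge_levels hgeo ρ hρ h2X hn ψ hψ {a} (fun _ => v)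
      (fun b hb => ⟨hv0, (Finset.mem_singleton.1 hb).symm⟩)
    rw [Finset.sum_singleton] at h1
    have h3 : (2 : ℤ) ≤ mult hQ hn ρ ψ v := by exact_mod_cast hv2
    nlinarith [hpair a, hN a, Int.natCast_nonneg (mult hQ hn ρ ψ 0)]
  by_cases hother : ∃ w, w ≠ 0 ∧ Q w ≠ a ∧ 0 < mult hQ hn ρ ψ w
  · left
    obtain ⟨w, hw0, hwa, hw⟩ := hother
    have h1 := finrank_ge_levels hgeo ρ hρ h2X hn ψ hψ {a, Q w} (fun b => if b = a then v else w) (fun b hb => by
      rcases Finset.mem_insert.1 hb with rfl | hb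
      · rw [if_pos rfl]; exact ⟨hv0, rfl⟩
      · rw [Finset.mem_singleton.1 hb, if_neg hwa]; exact ⟨hw0, rfl⟩)
    rw [Finset.sum_pair (Ne.symm hwa), if_pos rfl, if_neg hwa] at h1
    have h3 : (1 : ℤ) ≤ mult hQ hn ρ ψ v := by exact_mod_cast hv
    have h4 : (1 : ℤ) ≤ mult hQ hn ρ ψ w := by exact_mod_cast hw
    nlinarith [hpair (Q w), hN a, hN (Q w), Int.natCast_nonneg (mult hQ hn ρ ψ 0)]
  push Not at hother
  have hsingle : ∀ w, w ≠ 0 → mult hQ hn ρ ψ w = if Q w = a then 1 else 0 := by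
    intro w hw0
    split_ifs with h
    · rw [mult_level hQ hn ρ ψ hw0 hv0 h]
      omega
    · exact Nat.le_zero.1 (hother w hw0 h)
  have hdim : (finrank ℂ X : ℤ) = mult hQ hn ρ ψ 0 + levelSize (k + 3) ε a := by
    rw [← card_level hgeo a]
    have h := dim_single hQ hn ρ ψ hψ a hsingle
    apply Int.cast_injective (α := ℂ)
    push_cast
    exact h
  have hneg : a ≠ 0 → ε = -1 := by
    intro ha0
    refine hscale.resolve_right ?_
    rintro ⟨t, ht0, ht⟩
    have h1 := mult_scale hQ hn ρ ψ ht0 hv0 (smul_ne_zero ht0 hv0) (quad_smul Q t v)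
    have h2 : Q (t • v) ≠ a := fun h => ht (by
      rw [quad_smul] at h
      exact mul_right_cancel₀ ha0 (h.trans (one_mul a).symm))
    have h3 := hother (t • v) (smul_ne_zero ht0 hv0) h2
    omega
  by_cases hsmall : a ≠ 0 ∧ k = 0
  · left
    obtain ⟨ha0, rfl⟩ := hsmall
    obtain rfl := hneg ha0
    rw [hdim, hls, if_neg ha0, hT1]
    have hA3 : A = q ^ 3 := hA
    have hB2 : B = q ^ 2 := hB
    have hT3 : T * (q ^ 2 - 1) = (q ^ 3 + 1) * (q ^ 2 - q) := by rw [hT, hA3, hB2]; ring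
    have : T ≤ q ^ 3 := by
      by_contra h
      push Not at h
      have hq21 : 0 ≤ q ^ 2 - 1 := by nlinarith
      have h' := mul_le_mul_of_nonneg_right (Int.add_one_le_iff.2 h) hq21
      have hpos : 0 < (q ^ 3 + 1) * (q - 1) := mul_pos (by positivity) (by linarith)
      nlinarith
    rw [hN0, hN1, hA3, hB2]
    nlinarith [Int.natCast_nonneg (mult hQ hn ρ ψ 0)]
  have hn5 : 5 ≤ finrank F W := by rw [hgeo.dim]; omega
  obtain ⟨u, w, hu, hw, huw, hli⟩ := exists_ts_pair hgeo (by omega : 3 ≤ k + 3)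
  obtain ⟨h, y, hy, hne⟩ := exists_moved hQ hn ρ ψ hψ a hsingle hu hw huw hli (n := 2 * k + 3)
    (by rw [hgeo.dim]; ring) hn5 (by
      rcases hroom with h4 | hr
      · exact Or.inl (by rw [hgeo.dim]; omega)
      · rcases Nat.eq_zero_or_pos k with hk0 | hk0
        · exact Or.inr ⟨by by_contra ha0; exact hsmall ⟨ha0, hk0⟩, by rw [hgeo.dim]; omega, hr⟩
        · exact Or.inl (by rw [hgeo.dim]; omega))
  have hinv : ∀ g, ∀ x ∈ weight ρ (eHom hQ hn) 0, ρ (liftC Q g) x ∈ weight ρ (eHom hQ hn) 0 := by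
    intro g x hx
    have h1 := mem_move hQ hn ρ ψ (g := liftC Q g) (h := g.1) (v := 0) one_ne_zero
      (by rw [one_smul]; exact Prod.ext rfl (map_zero g.1.1)) (fun _ => rfl) (by rwa [chi_zero])
    rwa [map_zero, smul_zero, chi_zero] at h1
  haveI : Finite (oGroup Q) := finite_oGroup Q
  obtain ⟨n', σ, hσ, h2n, hnle⟩ := exists_big_constituent (commutator_commutator_eq_top hQ hn5)
    (ρ.comp (liftC Q)) _ hinv ⟨h, y, hy, hne⟩
  have hc : T - e ≤ (mult hQ hn ρ ψ 0 : ℤ) := by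
    refine (hIH n' σ hσ h2n).trans ?_
    rw [mult, chi_zero]
    exact_mod_cast hnle
  by_cases ha0 : a = 0
  · right
    refine ⟨?_, fun w hw0 => by rw [hsingle w hw0, ha0]⟩
    rw [hdim, hls, if_pos ha0, hT1]
    omega
  · left
    obtain rfl := hneg ha0
    obtain rfl : e = 0 := he.resolve_right fun h => hsmall ⟨ha0, by omega⟩
    rw [hdim, hls, if_neg ha0, hT1, hN0, hN1]
    nlinarith

end CfsgLib.MinDeg.Om
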