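import Cfsg.Agent.MinDeg.OmegaTrace
import Cfsg.Agent.Quad.SmallIso

/-!
The size of the class of root elements of `Ω(H ⊕ W)`.
-/

set_option autoImplicit false
set_option linter.style.haveILetI false

namespace CfsgLib.MinDeg.Om

open QuadraticMap Module CfsgLib.Forms CfsgLib.Quad

variable {F : Type*} [Field F] [Fintype F] {W : Type*} [AddCommGroup W] [Module F W] [FiniteDimensional F W]
  {Q : QuadraticForm F W}

/-- Bases of totally singular lines. -/
abbrev TSPairs (R : QuadraticForm F W) : Type _ :=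
  {p : W × W // R p.1 = 0 ∧ R p.2 = 0 ∧ polar R p.1 p.2 = 0 ∧ LinearIndependent F ![p.1, p.2]}

variable (hQ : (polarBilin Q).Nondegenerate)
include hQ

theorem card_pairs :
    Nat.card (TSPairs (hypSum Q)) = Nat.card {x : (F × F) × W // hypSum Q x = 0 ∧ x ≠ 0} *
      (Fintype.card F * Nat.card {w : W // Q w = 0 ∧ w ≠ 0}) := by
  classical
  haveI : Finite W := Module.finite_of_finite F
  haveI := Fintype.ofFinite {x : (F × F) × W // hypSum Q x = 0 ∧ x ≠ 0}
  let e : TSPairs (hypSum Q) ≃ Σ a : {x : (F × F) × W // hypSum Q x = 0 ∧ x ≠ 0},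
      {b : (F × F) × W // hypSum Q b = 0 ∧ polar (hypSum Q) a.1 b = 0 ∧ LinearIndependent F ![a.1, b]} :=
    { toFun := fun p => ⟨⟨p.1.1, p.2.1, p.2.2.2.2.ne_zero 0⟩, p.1.2, p.2.2.1, p.2.2.2.1, p.2.2.2.2⟩
      invFun := fun p => ⟨(p.1.1, p.2.1), p.1.2.1, p.2.2.1, p.2.2.2.1, p.2.2.2.2⟩
      left_inv := fun p => rfl
      right_inv := fun p => rfl }
  have hfib : ∀ a : {x : (F × F) × W // hypSum Q x = 0 ∧ x ≠ 0},
      Nat.card {b : (F × F) × W // hypSum Q b = 0 ∧ polar (hypSum Q) a.1 b = 0 ∧ LinearIndependent F ![a.1, b]} =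
        Fintype.card F * Nat.card {w : W // Q w = 0 ∧ w ≠ 0} := by
    rintro ⟨a, ha, ha0⟩
    have he0 : (e₀ : (F × F) × W) ≠ 0 := fun e => one_ne_zero (α := F) (congrArg (fun x : (F × F) × W => x.1.1) e)
    obtain ⟨g, hg, hga⟩ := quad_exists_map_family (hypSum_nondeg hQ) ![a] ![(e₀ : (F × F) × W)]
      (LinearIndependent.of_subsingleton 0 ha0) (LinearIndependent.of_subsingleton 0 he0)
      (fun i => by fin_cases i; simpa [hyp_e₀] using ha)
      (fun i j => by fin_cases i; fin_cases j; simp [QuadraticMap.polar_self, ha, hyp_e₀])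
    have hga0 : g a = e₀ := hga 0
    have hp : ∀ x y, polar (hypSum Q) (g x) (g y) = polar (hypSum Q) x y := fun x y => polar_oGroup ⟨g, hg⟩ x y
    have h1 : {b : (F × F) × W // hypSum Q b = 0 ∧ polar (hypSum Q) a b = 0 ∧ LinearIndependent F ![a, b]} ≃
        {b : (F × F) × W // hypSum Q b = 0 ∧ polar (hypSum Q) e₀ b = 0 ∧ LinearIndependent F ![(e₀ : (F × F) × W), b]} :=
      Equiv.subtypeEquiv g.toEquiv fun b => by
        show _ ↔ hypSum Q (g b) = 0 ∧ polar (hypSum Q) e₀ (g b) = 0 ∧ LinearIndependent F ![e₀, g b]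
        rw [hg, ← hga0, hp]
        refine and_congr Iff.rfl (and_congr Iff.rfl ?_)
        rw [show (![g a, g b] : Fin 2 → (F × F) × W) = g.toLinearMap ∘ ![a, b] from funext fun i => by fin_cases i <;> rfl,
          g.toLinearMap.linearIndependent_iff (LinearEquiv.ker g)]
    have h2 : {b : (F × F) × W // hypSum Q b = 0 ∧ polar (hypSum Q) e₀ b = 0 ∧ LinearIndependent F ![(e₀ : (F × F) × W), b]} ≃
        F × {w : W // Q w = 0 ∧ w ≠ 0} :=
      { toFun := fun b => (b.1.1.1, ⟨b.1.2, by
          obtain ⟨hb1, hb2, hb3⟩ := b.2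
          have hy : b.1.1.2 = 0 := by simpa [hypSum_polar, e₀] using hb2
          refine ⟨by simpa [hypSum_apply, hy] using hb1, fun hw => ?_⟩
          have h := LinearIndependent.pair_iff.1 hb3 (-b.1.1.1) 1 (by
            refine Prod.ext (Prod.ext ?_ ?_) ?_ <;> simp [e₀, hy, hw])
          exact one_ne_zero h.2⟩)
        invFun := fun p => ⟨((p.1, 0), p.2.1), by simp [hypSum_apply, p.2.2.1], by simp [hypSum_polar, e₀], by
          rw [LinearIndependent.pair_iff]
          intro s t hst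
          have ht : t = 0 := (smul_eq_zero.1 (by simpa [e₀] using congrArg Prod.snd hst)).resolve_right p.2.2.2
          refine ⟨?_, ht⟩
          simpa [e₀, ht] using congrArg (fun x : (F × F) × W => x.1.1) hst⟩
        left_inv := fun b => by
          have hy : b.1.1.2 = 0 := by simpa [hypSum_polar, e₀] using b.2.2.1
          exact Subtype.ext (Prod.ext (Prod.ext rfl hy.symm) rfl)
        right_inv := fun p => rfl }
    rw [Nat.card_congr (h1.trans h2), Nat.card_prod, Nat.card_eq_fintype_card (α := F)]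
  rw [Nat.card_congr e, Nat.card_sigma, Finset.sum_congr rfl fun a _ => hfib a, Finset.sum_const, Finset.card_univ,
    smul_eq_mul, ← Nat.card_eq_fintype_card]

variable (hn : 4 ≤ finrank F W)
include hn

theorem card_root_class {z : W} (hz0 : z ≠ 0) (hz : Q z = 0) :
    Nat.card {x : OG Q // IsConj (eHom hQ hn (Multiplicative.ofAdd z)) x} * (Fintype.card F * (Fintype.card F ^ 2 - 1)) =
      Nat.card (TSPairs (hypSum Q)) := by
  classical
  haveI : Finite W := Module.finite_of_finite F
  haveI : Finite (oGroup (hypSum Q)) := finite_oGroup _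
  set V := (F × F) × W
  set R := hypSum Q with hR
  set x₀ := eHom hQ hn (Multiplicative.ofAdd z) with hx₀
  have hn5 : 5 ≤ finrank F V := by rw [finrank_hyp]; omega
  let Φ : TSPairs R → {x : OG Q // IsConj x₀ x} := fun p =>
    ⟨⟨siegel R p.1.1 p.1.2, siegel_mem_commutator (hypSum_nondeg hQ) hn5 p.2.1 p.2.2.2.1⟩, by
      obtain ⟨k, hk, hka, hkb⟩ := exists_map_pair hQ hn p.2.2.2.2 p.2.1 p.2.2.1 p.2.2.2.1 hz0 hz
      refine (isConj_iff.2 ⟨⟨k, hk⟩, Subtype.ext ?_⟩).symm
      show k * siegel R p.1.1 p.1.2 * k⁻¹ = siegel R e₀ (emb z)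
      rw [siegel_conj k p.2.1 p.2.2.2.1, hka, hkb]⟩
  have hmove : ∀ (k : OG Q) (p : TSPairs R), (siegel R (k.1.1 p.1.1) (k.1.1 p.1.2)) = k.1 * siegel R p.1.1 p.1.2 * k.1⁻¹ :=
    fun k p => (siegel_conj k.1 p.2.1 p.2.2.2.1).symm
  have hez : LinearIndependent F ![(e₀ : V), emb z] := by
    rw [LinearIndependent.pair_iff]
    intro s t hst
    have h2 : t • z = 0 := by simpa [e₀, emb] using congrArg Prod.snd hst
    exact ⟨by simpa [e₀, emb] using congrArg (fun x : V => x.1.1) hst, (smul_eq_zero.1 h2).resolve_right hz0⟩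
  -- the fibre over `x₀`
  obtain ⟨y, hy⟩ := exists_polar_ne hQ hz0
  set y₁ := (polar Q z y)⁻¹ • y with hy₁
  have hzy : polar Q z y₁ = 1 := by rw [hy₁, polar_smul_right, smul_eq_mul, inv_mul_cancel₀ hy]
  let comb : Matrix.SpecialLinearGroup (Fin 2) F → V × V := fun N =>
    (N.1 0 0 • e₀ + N.1 0 1 • emb z, N.1 1 0 • e₀ + N.1 1 1 • emb z)
  have hcoef : ∀ p r s t : F, p • (e₀ : V) + r • emb z = s • e₀ + t • emb z → p = s ∧ r = t := by
    intro p r s t h
    have h' := LinearIndependent.pair_iff.1 hez (p - s) (r - t) (by rw [sub_smul, sub_smul, sub_add_sub_comm, h, sub_self])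
    exact ⟨sub_eq_zero.1 h'.1, sub_eq_zero.1 h'.2⟩
  have hdet : ∀ N : Matrix.SpecialLinearGroup (Fin 2) F, N.1 0 0 * N.1 1 1 - N.1 0 1 * N.1 1 0 = 1 := fun N => by
    rw [← Matrix.det_fin_two]; exact N.2
  have hx₀v : x₀.1 = siegel R e₀ (emb z) := rfl
  let E : Matrix.SpecialLinearGroup (Fin 2) F → {p : TSPairs R // (Φ p).1 = x₀} := fun N =>
    ⟨⟨comb N, by
      have h0 : ∀ s t : F, R (s • e₀ + t • emb z) = 0 := fun s t => by
        rw [hR, quad_add, quad_smul, quad_smul, hyp_e₀, hyp_emb, hz, polar_smul_left, polar_smul_right, polar_e₀_emb]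
        simp
      refine ⟨h0 _ _, h0 _ _, polar_zero_pair _ _ hyp_e₀ (by rw [hyp_emb, hz]) (polar_e₀_emb z) _ _ _ _, ?_⟩
      rw [LinearIndependent.pair_iff]
      intro s t hst
      obtain ⟨h1, h2⟩ := LinearIndependent.pair_iff.1 hez (s * N.1 0 0 + t * N.1 1 0) (s * N.1 0 1 + t * N.1 1 1) (by
        rw [← hst]
        simp only [comb]
        module)
      have hd := hdet N
      exact ⟨by linear_combination N.1 1 1 * h1 - N.1 1 0 * h2 - s * hd,
        by linear_combination N.1 0 0 * h2 - N.1 0 1 * h1 - t * hd⟩⟩, Subtype.ext (by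
      show siegel R _ _ = x₀.1
      rw [hx₀v, siegel_det hyp_e₀ (by rw [hyp_emb, hz]) (polar_e₀_emb z), hdet, one_smul])⟩
  have hEi : Function.Injective E := by
    intro N N' h
    have h1 := congrArg (fun p : {p : TSPairs R // (Φ p).1 = x₀} => p.1.1) h
    simp only [E, comb, Prod.mk.injEq] at h1
    obtain ⟨e1, e2⟩ := hcoef _ _ _ _ h1.1
    obtain ⟨e3, e4⟩ := hcoef _ _ _ _ h1.2
    refine Subtype.ext (Matrix.ext fun i j => ?_)
    fin_cases i <;> fin_cases j <;> assumption
  have hEs : Function.Surjective E := by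
    rintro ⟨⟨⟨a, b⟩, ha, hb, hab, hli⟩, hΦ⟩
    have hval : siegel R a b = siegel R e₀ (emb z) := congrArg Subtype.val hΦ
    have happ : ∀ x : V, polar R x a • b - polar R x b • a = polar R x e₀ • emb z - polar R x (emb z) • e₀ := by
      intro x
      have h := congrArg (fun g : oGroup R => g.1 x) hval
      rw [siegel_apply ha hab, siegel_apply hyp_e₀ (polar_e₀_emb z), hb, hyp_emb, hz, zero_mul, zero_mul, add_zero,
        add_zero, add_sub_assoc, add_sub_assoc, add_right_inj] at h
      exact h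
    have h1 := happ (emb y₁)
    rw [polar_comm (⇑R) (emb y₁) e₀, hR, polar_e₀_emb, polar_emb, polar_comm (⇑Q) y₁ z, hzy, zero_smul, one_smul,
      zero_sub] at h1
    have h2 := happ f₀
    rw [polar_comm (⇑R) f₀ e₀, hR, hyp_ef, polar_f₀_emb, one_smul, zero_smul, sub_zero] at h2
    set p := polar (hypSum Q) (emb y₁) b
    set q := -polar (hypSum Q) (emb y₁) a
    set r := -polar (hypSum Q) f₀ b
    set s := polar (hypSum Q) f₀ a
    have he : (e₀ : V) = p • a + q • b := by
      rw [← neg_inj, ← h1]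
      simp only [p, q]
      module
    have hz' : (emb z : V) = r • a + s • b := by
      rw [← h2]
      simp only [r, s]
      module
    have hD : p * s - q * r = 1 := by
      have h4 : siegel R a b = siegel R a ((p * s - q * r) • b) := by
        rw [hval, he, hz', siegel_det ha hb hab]
      obtain ⟨x, -, hxa, hxb, -, -⟩ := exists_dual_pair (hypSum_nondeg hQ) hli
      have h5 := congrArg (fun g : oGroup R => g.1 x) h4
      rw [siegel_apply ha hab, siegel_apply ha (by rw [polar_smul_right, hab, smul_zero]), quad_smul, hb,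
        polar_smul_right, hxa, hxb] at h5
      simp only [mul_zero, zero_mul, add_zero, smul_zero, zero_smul, sub_zero, one_smul, add_right_inj] at h5
      have h6 := smul_left_injective F (hli.ne_zero 1) (h5.symm.trans (one_smul F b).symm)
      exact h6
    refine ⟨⟨!![s, -q; -r, p], by rw [Matrix.det_fin_two_of]; linear_combination hD⟩,
      Subtype.ext (Subtype.ext (Prod.ext ?_ ?_))⟩
    · show s • e₀ + (-q) • emb z = a
      rw [he, hz']
      calc s • (p • a + q • b) + (-q) • (r • a + s • b) = (p * s - q * r) • a := by module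
        _ = a := by rw [hD, one_smul]
    · show (-r) • e₀ + p • emb z = b
      rw [he, hz']
      calc (-r) • (p • a + q • b) + p • (r • a + s • b) = (p * s - q * r) • b := by module
        _ = b := by rw [hD, one_smul]
  have hfib : ∀ x : {x : OG Q // IsConj x₀ x}, Nat.card {p : TSPairs R // Φ p = x} =
      Nat.card {p : TSPairs R // (Φ p).1 = x₀} := by
    rintro ⟨x, hx⟩
    obtain ⟨k, hk⟩ := isConj_iff.1 hx
    subst hk
    refine (Nat.card_congr ?_).symm
    let T : TSPairs R ≃ TSPairs R := Equiv.subtypeEquiv (k.1.1.toEquiv.prodCongr k.1.1.toEquiv) fun p => by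
      show _ ↔ R (k.1.1 p.1) = 0 ∧ R (k.1.1 p.2) = 0 ∧ polar R (k.1.1 p.1) (k.1.1 p.2) = 0 ∧
        LinearIndependent F ![k.1.1 p.1, k.1.1 p.2]
      rw [k.1.2, k.1.2, polar_oGroup k.1]
      refine and_congr Iff.rfl (and_congr Iff.rfl (and_congr Iff.rfl ?_))
      rw [show (![k.1.1 p.1, k.1.1 p.2] : Fin 2 → V) = k.1.1.toLinearMap ∘ ![p.1, p.2] from
        funext fun i => by fin_cases i <;> rfl, k.1.1.toLinearMap.linearIndependent_iff (LinearEquiv.ker k.1.1)]
    refine Equiv.subtypeEquiv T fun p => ?_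
    have hT : (Φ (T p)).1 = k * (Φ p).1 * k⁻¹ := Subtype.ext (hmove k p)
    constructor
    · intro h
      exact Subtype.ext (hT.trans (by rw [h]))
    · intro h
      exact mul_left_cancel (mul_right_cancel (hT.symm.trans (congrArg Subtype.val h)))
  haveI := Fintype.ofFinite {x : OG Q // IsConj x₀ x}
  rw [Nat.card_congr (Equiv.sigmaFiberEquiv Φ).symm, Nat.card_sigma, Finset.sum_congr rfl fun x _ => hfib x,
    Finset.sum_const, Finset.card_univ, smul_eq_mul, ← Nat.card_congr (Equiv.ofBijective E ⟨hEi, hEs⟩), card_SL_two,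
    Nat.card_eq_fintype_card]

end CfsgLib.MinDeg.Om
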