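import Cfsg.Agent.Quad.Plane
import Cfsg.Agent.Quad.Siegel
import Mathlib.NumberTheory.LegendreSymbol.AddCharacter

/-!
Level sets of a quadratic form met with a totally singular line, and their character sums.
-/

set_option autoImplicit false
set_option linter.style.haveILetI false

namespace CfsgLib.MinDeg.Om

open QuadraticMap Module CfsgLib.Forms CfsgLib.Quad

variable {F : Type*} [Field F] [Fintype F] {W : Type*} [AddCommGroup W] [Module F W] [Fintype W]
  {Q : QuadraticForm F W}

/-- Translations along a singular vector meet each value once. -/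
theorem card_shift (A : Set W) {u : W} (hu : Q u = 0) (hA : ∀ v ∈ A, ∀ t : F, v + t • u ∈ A) {b : F} (hb : b ≠ 0)
    (hAb : ∀ v ∈ A, polar Q v u = b) (a : F) :
    Nat.card {v // v ∈ A ∧ Q v = a} * Fintype.card F = Nat.card {v // v ∈ A} := by
  classical
  have hQ : ∀ v ∈ A, ∀ t : F, Q (v + t • u) = Q v + t * b := fun v hv t => by
    rw [quad_add, quad_smul, hu, polar_smul_right, hAb v hv, smul_eq_mul]
    ring
  rw [← Nat.card_eq_fintype_card (α := F), ← Nat.card_prod]
  exact Nat.card_congr
    { toFun := fun p => ⟨p.1.1 + p.2 • u, hA _ p.1.2.1 _⟩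
      invFun := fun v => (⟨v.1 + (-((Q v.1 - a) / b)) • u, hA _ v.2 _, by
        rw [hQ _ v.2, neg_mul, div_mul_cancel₀ _ hb]; ring⟩, (Q v.1 - a) / b)
      left_inv := fun p => by
        have h1 : (Q (p.1.1 + p.2 • u) - a) / b = p.2 := by
          rw [hQ _ p.1.2.1, p.1.2.2]
          field_simp
          ring
        refine Prod.ext (Subtype.ext ?_) h1
        show p.1.1 + p.2 • u + (-((Q (p.1.1 + p.2 • u) - a) / b)) • u = p.1.1
        rw [h1]
        module
      right_inv := fun v => Subtype.ext (by
        show v.1 + (-((Q v.1 - a) / b)) • u + ((Q v.1 - a) / b) • u = v.1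
        module) }

/-- All fibres of a functional taking the value one have the same size. -/
theorem card_fibre {V : Type*} [AddCommGroup V] [Module F V] (φ : V →ₗ[F] F) {v₀ : V} (h : φ v₀ = 1) (b : F) :
    Nat.card {v // φ v = b} = Nat.card (LinearMap.ker φ) :=
  Nat.card_congr
    { toFun := fun v => ⟨v.1 - b • v₀, by rw [LinearMap.mem_ker, map_sub, map_smul, v.2, h, smul_eq_mul, mul_one, sub_self]⟩
      invFun := fun k => ⟨k.1 + b • v₀, by rw [map_add, LinearMap.mem_ker.1 k.2, map_smul, h, smul_eq_mul, mul_one, zero_add]⟩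
      left_inv := fun v => Subtype.ext (by simp)
      right_inv := fun k => Subtype.ext (by simp) }

theorem card_ker_one {V : Type*} [AddCommGroup V] [Module F V] [Finite V] (φ : V →ₗ[F] F) {v₀ : V} (h : φ v₀ = 1)
    {n : ℕ} (hn : finrank F V = n + 1) : Nat.card (LinearMap.ker φ) = Fintype.card F ^ n := by
  have := φ.finrank_range_add_finrank_ker
  rw [LinearMap.range_eq_top.mpr (fun a => ⟨a • v₀, by rw [map_smul, h, smul_eq_mul, mul_one]⟩),
    finrank_top, Module.finrank_self, hn] at this
  rw [Module.natCard_eq_pow_finrank (K := F), Nat.card_eq_fintype_card, show finrank F (LinearMap.ker φ) = n by omega]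

variable (hQ : (polarBilin Q).Nondegenerate) {u w : W}

include hQ

omit [Fintype F] [Fintype W] in
theorem exists_dual_pair [FiniteDimensional F W] (hli : LinearIndependent F ![u, w]) :
    ∃ x y, polar Q x u = 1 ∧ polar Q x w = 0 ∧ polar Q y u = 0 ∧ polar Q y w = 1 := by
  have h1 : u ∉ Submodule.span F {w} := fun h => by
    obtain ⟨c, hc⟩ := Submodule.mem_span_singleton.1 h
    exact one_ne_zero (LinearIndependent.pair_iff.1 hli 1 (-c) (by rw [one_smul, neg_smul, hc, add_neg_cancel])).1
  have h2 : w ∉ Submodule.span F {u} := fun h => by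
    obtain ⟨c, hc⟩ := Submodule.mem_span_singleton.1 h
    exact one_ne_zero (LinearIndependent.pair_iff.1 hli (-c) 1 (by rw [one_smul, neg_smul, hc, neg_add_cancel])).2
  obtain ⟨x, hx, hxu⟩ := (polarForm Q).exists_perp_one (polarForm_nondeg hQ) (U := Submodule.span F {w}) (x := u) h1
  obtain ⟨y, hy, hyw⟩ := (polarForm Q).exists_perp_one (polarForm_nondeg hQ) (U := Submodule.span F {u}) (x := w) h2
  simp only [polarForm_h] at hx hxu hy hyw
  exact ⟨x, y, by rw [polar_comm]; exact hxu, by rw [polar_comm]; exact hx w (Submodule.mem_span_singleton_self w),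
    by rw [polar_comm]; exact hy u (Submodule.mem_span_singleton_self u), by rw [polar_comm]; exact hyw⟩

variable (hu : Q u = 0) (hw : Q w = 0) (huw : polar Q u w = 0) (hli : LinearIndependent F ![u, w]) {n : ℕ}
  (hn : finrank F W = n + 3) (a : F)

include hu hw huw hli hn

/-- The level set by its value on the first vector. -/
theorem card_level_ne {b : F} (hb : b ≠ 0) :
    Nat.card {v // polar Q v u = b ∧ Q v = a} = Fintype.card F ^ (n + 1) := by
  haveI : FiniteDimensional F W := Module.Finite.of_finite
  obtain ⟨x, -, hxu, -, -, -⟩ := exists_dual_pair hQ hli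
  have huu : polar Q u u = 0 := by rw [QuadraticMap.polar_self, hu, smul_zero]
  have h1 := card_shift (Q := Q) {v | polar Q v u = b} hu (fun v hv t => by
    show polar Q (v + t • u) u = b
    rw [polar_add_left, polar_smul_left, huu, smul_zero, add_zero]
    exact hv) hb (fun v hv => hv) a
  have h2 : Nat.card {v // v ∈ {v | polar Q v u = b}} = Fintype.card F ^ (n + 2) :=
    (card_fibre (polarFun Q u) (v₀ := x) hxu b).trans (card_ker_one _ (v₀ := x) hxu hn)
  rw [h2, pow_succ (Fintype.card F) (n + 1)] at h1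
  exact Nat.eq_of_mul_eq_mul_right Fintype.card_pos h1

theorem card_level_zero_ne {c : F} (hc : c ≠ 0) :
    Nat.card {v // polar Q v u = 0 ∧ polar Q v w = c ∧ Q v = a} = Fintype.card F ^ n := by
  haveI : FiniteDimensional F W := Module.Finite.of_finite
  obtain ⟨x, y, hxu, -, hyu, hyw⟩ := exists_dual_pair hQ hli
  have hww : polar Q w w = 0 := by rw [QuadraticMap.polar_self, hw, smul_zero]
  have h1 := card_shift (Q := Q) {v | polar Q v u = 0 ∧ polar Q v w = c} hw (fun v hv t => by
    refine ⟨?_, ?_⟩
    · rw [polar_add_left, polar_smul_left, polar_comm (⇑Q) w u, huw, smul_zero, add_zero]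
      exact hv.1
    · rw [polar_add_left, polar_smul_left, hww, smul_zero, add_zero]
      exact hv.2) hc (fun v hv => hv.2) a
  let φ : LinearMap.ker (polarFun Q u) →ₗ[F] F := (polarFun Q w).comp (LinearMap.ker (polarFun Q u)).subtype
  have hker : finrank F (LinearMap.ker (polarFun Q u)) = n + 2 := by
    have := (polarFun Q u).finrank_range_add_finrank_ker
    rw [LinearMap.range_eq_top.mpr (fun s => ⟨s • x, by rw [map_smul, polarFun_apply, hxu, smul_eq_mul, mul_one]⟩),
      finrank_top, Module.finrank_self, hn] at this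
    omega
  have hy : φ ⟨y, hyu⟩ = 1 := hyw
  have h2 : Nat.card {v // v ∈ {v | polar Q v u = 0 ∧ polar Q v w = c}} = Fintype.card F ^ (n + 1) := by
    rw [← card_ker_one φ hy hker, ← card_fibre φ hy c]
    exact Nat.card_congr
      { toFun := fun v => ⟨⟨v.1, v.2.1⟩, v.2.2⟩
        invFun := fun k => ⟨k.1.1, k.1.2, k.2⟩
        left_inv := fun v => rfl
        right_inv := fun k => rfl }
  rw [h2, pow_succ (Fintype.card F) n] at h1
  exact (Nat.card_congr (Equiv.subtypeEquivRight
    (q := fun v => v ∈ {v | polar Q v u = 0 ∧ polar Q v w = c} ∧ Q v = a) fun v => (and_assoc).symm)).trans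
    (Nat.eq_of_mul_eq_mul_right Fintype.card_pos h1)

open Classical in
/-- The character sum over a level set. -/
theorem level_identities (ψ : AddChar F ℂ) (hψ : ψ ≠ 0) :
    (∑ v ∈ Finset.univ.filter (fun v => Q v = a), ψ (polar Q v u) =
        (Nat.card {v // polar Q v u = 0 ∧ polar Q v w = 0 ∧ Q v = a} : ℂ) - (Fintype.card F : ℂ) ^ n) ∧
      (∑ v ∈ Finset.univ.filter (fun v => Q v = a), ψ (polar Q v u) =
        ((Finset.univ.filter (fun v => Q v = a)).card : ℂ) - (Fintype.card F : ℂ) ^ (n + 2)) := by
  set L := Finset.univ.filter (fun v => Q v = a) with hL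
  set q := Fintype.card F with hq
  set S := Nat.card {v // polar Q v u = 0 ∧ polar Q v w = 0 ∧ Q v = a} with hS
  have hfib : ∀ b : F, b ≠ 0 → ((L.filter fun v => polar Q v u = b).card : ℂ) = (q : ℂ) ^ (n + 1) := by
    intro b hb
    rw [hq, ← Nat.cast_pow, ← card_level_ne hQ hu hw huw hli hn a hb, Nat.card_eq_fintype_card, Fintype.card_subtype,
      hL, Finset.filter_filter]
    congr 2
    exact Finset.filter_congr fun v _ => and_comm
  have hzero : ((L.filter fun v => polar Q v u = 0).card : ℂ) = (S : ℂ) + ((q : ℂ) - 1) * (q : ℂ) ^ n := by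
    rw [Finset.card_eq_sum_card_fiberwise (f := fun v => polar Q v w) (t := Finset.univ) fun v _ => Finset.mem_univ _,
      Nat.cast_sum, ← Finset.add_sum_erase _ _ (Finset.mem_univ (0 : F)),
      Finset.sum_congr rfl (g := fun _ => (q : ℂ) ^ n) fun c hc => ?_, Finset.sum_const,
      Finset.card_erase_of_mem (Finset.mem_univ _), Finset.card_univ, ← hq, nsmul_eq_mul,
      Nat.cast_sub (Fintype.card_pos), Nat.cast_one]
    · congr 1
      rw [hS, Nat.card_eq_fintype_card, Fintype.card_subtype, hL, Finset.filter_filter, Finset.filter_filter]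
      congr 2
      exact Finset.filter_congr fun v _ => by tauto
    · rw [hq, ← Nat.cast_pow, ← card_level_zero_ne hQ hu hw huw hli hn a (Finset.mem_erase.1 hc).1,
        Nat.card_eq_fintype_card, Fintype.card_subtype, hL, Finset.filter_filter, Finset.filter_filter]
      congr 2
      exact Finset.filter_congr fun v _ => by tauto
  have hrest : ∑ b ∈ Finset.univ.erase (0 : F), ψ b = -1 := by
    have h1 := AddChar.sum_eq_zero_iff_ne_zero.2 hψ
    rw [← Finset.add_sum_erase _ _ (Finset.mem_univ (0 : F)), AddChar.map_zero_eq_one] at h1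
    linear_combination h1
  have hsum : ∑ v ∈ L, ψ (polar Q v u) = ((L.filter fun v => polar Q v u = 0).card : ℂ) - (q : ℂ) ^ (n + 1) := by
    rw [← Finset.sum_fiberwise L (fun v => polar Q v u) fun v => ψ (polar Q v u),
      Finset.sum_congr rfl (g := fun b => ((L.filter fun v => polar Q v u = b).card : ℂ) * ψ b) fun b _ => ?_,
      ← Finset.add_sum_erase _ _ (Finset.mem_univ (0 : F)), AddChar.map_zero_eq_one, mul_one,
      Finset.sum_congr rfl (s₁ := Finset.univ.erase (0 : F)) (g := fun b => (q : ℂ) ^ (n + 1) * ψ b) fun b hb => ?_,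
      ← Finset.mul_sum, hrest]
    · ring
    · rw [hfib b (Finset.mem_erase.1 hb).1]
    · rw [Finset.sum_congr rfl fun v hv => by rw [(Finset.mem_filter.1 hv).2], Finset.sum_const, nsmul_eq_mul]
  have hcard : (L.card : ℂ) = ((L.filter fun v => polar Q v u = 0).card : ℂ) + ((q : ℂ) - 1) * (q : ℂ) ^ (n + 1) := by
    rw [Finset.card_eq_sum_card_fiberwise (f := fun v => polar Q v u) (t := Finset.univ) fun v _ => Finset.mem_univ _,
      Nat.cast_sum, ← Finset.add_sum_erase _ _ (Finset.mem_univ (0 : F)),
      Finset.sum_congr rfl (g := fun _ => (q : ℂ) ^ (n + 1)) fun b hb => hfib b (Finset.mem_erase.1 hb).1,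
      Finset.sum_const, Finset.card_erase_of_mem (Finset.mem_univ _), Finset.card_univ, ← hq, nsmul_eq_mul,
      Nat.cast_sub (Fintype.card_pos), Nat.cast_one]
  refine ⟨by rw [hsum, hzero]; ring, by rw [hsum, hcard]; ring⟩

end CfsgLib.MinDeg.Om
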