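import Cfsg.Agent.MinDeg.OmegaSpecial
import Cfsg.Agent.MinDeg.LinearMin
import Cfsg.Agent.Quad.Klein

/-!
Bases, transport and induction for the minimal degrees of `Ω^±_{2n}`.
-/

set_option autoImplicit false
set_option linter.style.haveILetI false

namespace CfsgLib.MinDeg.Om

open QuadraticMap Module CfsgLib.Forms CfsgLib.Quad

universe u v v'

/-- A representation pulled back along a homomorphism. -/
def pull {G H : Type*} [Group G] [Group H] {V : Type*} [AddCommGroup V] [Module ℂ V]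
    (f : G →* H) (ρ : Representation ℂ H V) : Representation ℂ G V := MonoidHom.comp ρ f

theorem irreducible_comp {G H : Type*} [Group G] [Group H] {V : Type*} [AddCommGroup V] [Module ℂ V]
    (f : G →* H) (hf : Function.Surjective f) (ρ : Representation ℂ H V) (h : ρ.IsIrreducible) :
    (pull f ρ).IsIrreducible := by
  let up : Subrepresentation ρ → Subrepresentation (pull f ρ) := fun S =>
    ⟨S.toSubmodule, fun g v hv => S.apply_mem_toSubmodule (f g) hv⟩
  let down : Subrepresentation (pull f ρ) → Subrepresentation ρ := fun S =>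
    ⟨S.toSubmodule, fun y v hv => by
      obtain ⟨g, rfl⟩ := hf y
      exact S.apply_mem_toSubmodule g hv⟩
  haveI : Nontrivial (Subrepresentation (pull f ρ)) := by
    obtain ⟨S, S', hne⟩ := exists_pair_ne (Subrepresentation ρ)
    exact ⟨⟨up S, up S', fun e => hne (Subrepresentation.toSubmodule_injective (congrArg (·.toSubmodule) e))⟩⟩
  refine ⟨fun S => ?_⟩
  rcases h.eq_bot_or_eq_top (down S) with e | e
  · exact Or.inl (Subrepresentation.toSubmodule_injective (congrArg (·.toSubmodule) e))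
  · exact Or.inr (Subrepresentation.toSubmodule_injective (congrArg (·.toSubmodule) e))

variable {F : Type u} [Field F] [Fintype F]

section transport

variable {W : Type v} [AddCommGroup W] [Module F W] [FiniteDimensional F W] {W' : Type v'} [AddCommGroup W']
  [Module F W'] [FiniteDimensional F W'] {Q : QuadraticForm F W} {Q' : QuadraticForm F W'}

theorem Bound.congr (e : W ≃ₗ[F] W') (he : ∀ x, Q' (e x) = Q x) {L : ℤ} (h : Bound Q L) : Bound Q' L := by
  intro k ρ hρ hk
  let c : ↥(commutator (oGroup Q)) ≃* ↥(commutator (oGroup Q')) :=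
    ((oGroupCongr e he).subgroupMap _).trans (MulEquiv.subgroupCongr (commutator_map_equiv (oGroupCongr e he)))
  exact h k (pull c.toMonoidHom ρ) (irreducible_comp c.toMonoidHom c.surjective ρ hρ) hk

theorem Geo.congr (e : W ≃ₗ[F] W') (he : ∀ x, Q' (e x) = Q x) {m : ℕ} {ε : ℤ} (h : Geo Q m ε) : Geo Q' m ε := by
  have hc : ∀ a : F, Nat.card {v : W' // Q' v = a} = Nat.card {v : W // Q v = a} := fun a =>
    (Nat.card_congr (Equiv.subtypeEquiv e.toEquiv fun v => by
      change Q v = a ↔ Q' (e v) = a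
      rw [he])).symm
  exact ⟨nondeg_of_equiv e.symm (fun v => by rw [← he, e.apply_symm_apply]) h.nd, by rw [← e.finrank_eq, h.dim],
    h.pos, h.sgn, by rw [hc]; exact h.zero, fun a ha => by rw [hc]; exact h.level a ha⟩

end transport

theorem geo_plus_one : Geo (plusQ (F := F) 1) 1 1 := by
  classical
  have hc : ∀ a : F, Nat.card {v // plusQ (F := F) 1 v = a} =
      Nat.card {p : (F × F) × (Fin 0 ⊕ Fin 0 → F) // hypSum (plusQ (F := F) 0) p = a} := fun a =>
    Nat.card_congr (Equiv.subtypeEquiv (plusSplit (F := F) 0).toEquiv fun v => by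
      change plusQ 1 v = a ↔ hypSum (plusQ 0) (plusSplit 0 v) = a
      rw [plusSplit_apply])
  have h0 : ∀ a : F, Nat.card {v : Fin 0 ⊕ Fin 0 → F // plusQ (F := F) 0 v = a} = if a = 0 then 1 else 0 := by
    intro a
    have hQ : ∀ v : Fin 0 ⊕ Fin 0 → F, plusQ (F := F) 0 v = 0 := fun v => by
      rw [Subsingleton.elim v 0, QuadraticMap.map_zero]
    split_ifs with ha
    · exact Nat.card_eq_one_iff_exists.mpr ⟨⟨0, by rw [hQ, ha]⟩, fun y => Subtype.ext (Subsingleton.elim _ _)⟩
    · haveI : IsEmpty {v : Fin 0 ⊕ Fin 0 → F // plusQ (F := F) 0 v = a} := ⟨fun v => ha (v.2.symm.trans (hQ _))⟩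
      exact Nat.card_of_isEmpty
  have hW : Nat.card (Fin 0 ⊕ Fin 0 → F) = 1 := Nat.card_eq_one_iff_unique.mpr ⟨inferInstance, inferInstance⟩
  refine ⟨plusQ_nondeg 1, by simp, le_rfl, Or.inl rfl, ?_, fun a ha => ?_⟩
  · rw [hc, card_level_hypSum, h0, hW, if_pos rfl]
    simp
    ring
  · rw [hc, card_level_hypSum, h0, hW, if_neg ha]
    simp

theorem geo_plus : ∀ m : ℕ, Geo (plusQ (F := F) (m + 1)) (m + 1) 1
  | 0 => geo_plus_one
  | m + 1 => (geo_plus m).hyp.congr (plusSplit (F := F) (m + 1)).symm fun x => by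
      rw [← plusSplit_apply, LinearEquiv.apply_symm_apply]

/-- The coordinates of the anisotropic plane. -/
def planeEquiv : ((Fin 0 ⊕ Fin 0) ⊕ Fin 2 → F) ≃ₗ[F] F × F :=
    { toFun := fun v => (v (.inr 0), v (.inr 1))
      map_add' := fun _ _ => rfl
      map_smul' := fun _ _ => rfl
      invFun := fun p => Sum.elim (fun _ => 0) ![p.1, p.2]
      left_inv := fun v => by
        funext i
        rcases i with (i | i) | i
        · exact i.elim0
        · exact i.elim0
        · fin_cases i <;> rfl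
      right_inv := fun p => rfl }

omit [Fintype F] in
theorem planeEquiv_apply (a b : F) (v : (Fin 0 ⊕ Fin 0) ⊕ Fin 2 → F) :
    planeQ a b (planeEquiv v) = minusQ 0 a b v := by
  show planeQ a b (v (.inr 0), v (.inr 1)) = _
  rw [minusQ_coe, planeQ_apply]
  simp [Cfsg.quadFormMinus]

variable {a b : F} (hab : ∀ z₁ z₂ : F, z₁ ^ 2 + a * z₁ * z₂ + b * z₂ ^ 2 = 0 → z₁ = 0 ∧ z₂ = 0)
include hab

theorem geo_minus_zero : Geo (minusQ 0 a b) 1 (-1) := by
  classical
  let e := planeEquiv (F := F)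
  have he : ∀ v, minusQ 0 a b v = planeQ a b (e v) := fun v => (planeEquiv_apply a b v).symm
  have hc : ∀ c : F, Nat.card {v // minusQ 0 a b v = c} = Nat.card {z : F × F // planeQ a b z = c} := fun c =>
    Nat.card_congr (Equiv.subtypeEquiv e.toEquiv fun v => by
      change minusQ 0 a b v = c ↔ planeQ a b (e v) = c
      rw [he])
  refine ⟨minusQ_nondeg hab 0, by rw [LinearEquiv.finrank_eq e, Module.finrank_prod, Module.finrank_self], le_rfl,
    Or.inr rfl, ?_, fun c hc0 => ?_⟩
  · have : Nat.card {z : F × F // planeQ a b z = 0} = 1 :=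
      Nat.card_eq_one_iff_exists.mpr ⟨⟨0, QuadraticMap.map_zero _⟩, fun y => Subtype.ext (planeQ_eq_zero hab y.2)⟩
    rw [hc, this]
    simp
  · obtain ⟨u, hu⟩ := planeQ_surjective hab c
    have hinj : Function.Injective (pmul a b u) := by
      rw [← LinearMap.ker_eq_bot, eq_bot_iff]
      intro z hz
      have h := planeQ_pmul a b u z
      rw [LinearMap.mem_ker.mp hz, QuadraticMap.map_zero, hu] at h
      exact (Submodule.mem_bot F).mpr (planeQ_eq_zero hab ((mul_eq_zero.mp h.symm).resolve_left hc0))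
    let E := LinearEquiv.ofBijective (pmul a b u) ⟨hinj, LinearMap.injective_iff_surjective.mp hinj⟩
    have h1 : Nat.card {z : F × F // planeQ a b z = 1} = Nat.card {z : F × F // planeQ a b z = c} :=
      Nat.card_congr (Equiv.subtypeEquiv E.toEquiv fun z => by
        change planeQ a b z = 1 ↔ planeQ a b (pmul a b u z) = c
        rw [planeQ_pmul, hu]
        exact ⟨fun h => by rw [h, mul_one], fun h => mul_left_cancel₀ hc0 (h.trans (mul_one c).symm)⟩)
    rw [hc, ← h1, card_planeQ_one hab Nat.card_eq_fintype_card]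
    push_cast
    simp

theorem geo_minus : ∀ k : ℕ, Geo (minusQ k a b) (k + 1) (-1)
  | 0 => geo_minus_zero hab
  | k + 1 => (geo_minus k).hyp.congr (minusSplit (F := F) k).symm fun x => by
      rw [← minusSplit_apply, LinearEquiv.apply_symm_apply]

theorem ts_minus : ∀ k : ℕ, ∀ U : Submodule F ((Fin k ⊕ Fin k) ⊕ Fin 2 → F),
    (∀ x ∈ U, minusQ k a b x = 0) → finrank F U ≤ k := by
  intro k
  induction k with
  | zero =>
    intro U hU
    have : U = ⊥ := by
      refine (Submodule.eq_bot_iff _).2 fun x hx => ?_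
      have h := hU x hx
      rw [minusQ_coe] at h
      simp [Cfsg.quadFormMinus] at h
      obtain ⟨h0, h1⟩ := hab _ _ h
      funext i
      rcases i with (i | i) | i
      · exact i.elim0
      · exact i.elim0
      · fin_cases i <;> assumption
    simp [this]
  | succ k ih =>
    intro U hU
    rw [← LinearEquiv.finrank_map_eq (minusSplit (F := F) k) U]
    refine ts_step ih _ ?_
    rintro _ ⟨x, hx, rfl⟩
    exact (minusSplit_apply k a b x).trans (hU x hx)

/-- `Ω_6^-`. -/
theorem bound_minus_base : ∃ T : ℤ, T * ((Fintype.card F : ℤ) ^ 2 - 1) = num (Fintype.card F : ℤ) 3 (-1) ∧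
    Bound (minusQ 2 a b) (T - 1) := by
  set q : ℤ := (Fintype.card F : ℤ) with hq
  refine ⟨q ^ 3 - q ^ 2 + q, by rw [num]; ring, Bound.congr (minusSplit (F := F) 1).symm
    (fun x => by rw [← minusSplit_apply, LinearEquiv.apply_symm_apply]) fun k ρ hρ hk => ?_⟩
  have h := ls_bound (geo_minus hab 1) ρ hρ (by rwa [Module.finrank_fin_fun]) le_rfl
  rw [Module.finrank_fin_fun] at h
  refine le_trans (le_of_eq ?_) h
  have hq2 : 2 ≤ q := by rw [hq]; exact_mod_cast Fintype.one_lt_card
  simp only [levelSize, if_pos, one_ne_zero, if_false, ← hq, Nat.reduceAdd, Nat.reduceMul, Nat.reduceSub, pow_one]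
  rw [min_eq_left (by nlinarith)]
  ring

omit hab in
/-- `Ω_6^+`. -/
theorem bound_plus_base (h3 : 3 < Fintype.card F) :
    ∃ T : ℤ, T * ((Fintype.card F : ℤ) ^ 2 - 1) = num (Fintype.card F : ℤ) 3 1 ∧ Bound (plusQ (F := F) 3) T := by
  classical
  set q : ℤ := (Fintype.card F : ℤ) with hq
  refine ⟨q ^ 3 + q ^ 2 + q, by rw [num]; ring, fun k ρ hρ hk => ?_⟩
  obtain ⟨f, hf, -, -⟩ := exists_klein_hom F
  let f' : Matrix.SpecialLinearGroup (Fin 4) F →* ↥(commutator (oGroup (plusQ (F := F) 3))) :=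
    f.codRestrict _ fun g => hf ▸ ⟨g, rfl⟩
  have hsurj : Function.Surjective f' := by
    rintro ⟨y, hy⟩
    rw [← hf] at hy
    obtain ⟨g, rfl⟩ := hy
    exact ⟨g, rfl⟩
  have h := Lin.sl_lower (F := F) 2 (by omega) (fun h => absurd h (by omega)) (fun _ =>
    Lin.exists_pow_ne_one fun hd => by
      have := (Nat.dvd_prime Nat.prime_two).1 hd
      omega) (pull f' ρ) (irreducible_comp f' hsurj ρ hρ) hk
  simp only [Finset.sum_range_succ, Finset.sum_range_zero, pow_zero, zero_add, pow_one] at h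
  have h' : ((Fintype.card F * (1 + Fintype.card F + Fintype.card F ^ 2) : ℕ) : ℤ) ≤ (k : ℤ) := by exact_mod_cast h
  push_cast at h'
  rw [← hq] at h'
  linarith

omit hab in
theorem exists_sq_ne_one (h3 : 3 < Fintype.card F) : ∃ t : F, t ≠ 0 ∧ t * t ≠ 1 := by
  obtain ⟨t, ht, ht2⟩ := Lin.exists_pow_ne_one (F := F) (e := 2) fun hd => by
    have := (Nat.dvd_prime Nat.prime_two).1 hd
    omega
  exact ⟨t, ht, by rwa [← pow_two]⟩

omit hab in
/-- The plus type. -/
theorem bound_plus (h3 : 3 < Fintype.card F) : ∀ k : ℕ,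
    ∃ T : ℤ, T * ((Fintype.card F : ℤ) ^ 2 - 1) = num (Fintype.card F : ℤ) (k + 3) 1 ∧
      Bound (plusQ (F := F) (k + 3)) T := by
  intro k
  induction k with
  | zero => exact bound_plus_base h3
  | succ k ih =>
    obtain ⟨T, hT, hB⟩ := ih
    refine ⟨_, num_succ _ (by omega) (Or.inl rfl) hT, Bound.congr (plusSplit (F := F) (k + 3)).symm
      (fun x => by rw [← plusSplit_apply, LinearEquiv.apply_symm_apply]) fun n ρ hρ hn => ?_⟩
    have h := step (geo_plus (k + 2)) ρ hρ (by rwa [Module.finrank_fin_fun]) (by omega)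
      (Or.inr (Or.inr (exists_sq_ne_one h3))) (Or.inr (exists_sq_ne_one h3)) hT le_rfl zero_le_one (Or.inl rfl)
      (by rwa [sub_zero])
    rw [Module.finrank_fin_fun] at h
    exact h.resolve_right fun h' => by omega

/-- The minus type. -/
theorem bound_minus : ∀ k : ℕ, ∃ T : ℤ, T * ((Fintype.card F : ℤ) ^ 2 - 1) = num (Fintype.card F : ℤ) (k + 4) (-1) ∧
    Bound (minusQ (k + 3) a b) T := by
  intro k
  induction k with
  | zero =>
    obtain ⟨T, hT, hB⟩ := bound_minus_base hab
    let e1 : ((Fin 1 ⊕ Fin 1) ⊕ Fin 2 → F) ≃ₗ[F] (F × F) × (F × F) :=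
      (minusSplit (F := F) 0).trans ((LinearEquiv.refl F (F × F)).prodCongr planeEquiv)
    have he1 : ∀ x, hypSum (planeQ a b) (e1 x) = minusQ 1 a b x := fun x => by
      rw [← minusSplit_apply, hypSum_apply, hypSum_apply, ← planeEquiv_apply]
      rfl
    let e2 : ((Fin 2 ⊕ Fin 2) ⊕ Fin 2 → F) ≃ₗ[F] (F × F) × (F × F) × (F × F) :=
      (minusSplit (F := F) 1).trans ((LinearEquiv.refl F (F × F)).prodCongr e1)
    have he2 : ∀ x, hypSum (hypSum (planeQ a b)) (e2 x) = minusQ 2 a b x := fun x => by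
      rw [← minusSplit_apply, hypSum_apply, hypSum_apply _ (minusSplit 1 x), ← he1]
      rfl
    let e3 : ((Fin 3 ⊕ Fin 3) ⊕ Fin 2 → F) ≃ₗ[F] (F × F) × (F × F) × (F × F) × (F × F) :=
      (minusSplit (F := F) 2).trans ((LinearEquiv.refl F (F × F)).prodCongr e2)
    have he3 : ∀ x, hypSum (hypSum (hypSum (planeQ a b))) (e3 x) = minusQ 3 a b x := fun x => by
      rw [← minusSplit_apply, hypSum_apply, hypSum_apply _ (minusSplit 2 x), ← he2]
      rfl
    refine ⟨_, num_succ _ (by omega) (Or.inr rfl) hT, Bound.congr e3.symm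
      (fun x => by rw [← he3, LinearEquiv.apply_symm_apply]) fun n ρ hρ hn => ?_⟩
    have hP : Geo (hypSum (planeQ a b)) 2 (-1) := (geo_minus hab 1).congr e1 he1
    have hts0 : ∀ S : Submodule F (F × F), (∀ x ∈ S, planeQ a b x = 0) → finrank F S ≤ 0 := fun S hS => by
      rw [show S = ⊥ from (Submodule.eq_bot_iff _).2 fun x hx => planeQ_eq_zero hab (hS x hx), finrank_bot]
    have h := step (hP.hyp : Geo _ 3 (-1)) ρ hρ (by rwa [Module.finrank_fin_fun]) le_rfl
      (Or.inr (Or.inl (ts_step (ts_step hts0)))) (Or.inl rfl) hT zero_le_one le_rfl (Or.inr ⟨rfl, rfl⟩)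
      (hB.congr e2 he2)
    rw [Module.finrank_fin_fun] at h
    exact h.resolve_right fun ⟨hq, _, _, hD, hs⟩ => special_false hq hab hP ρ (by rw [Module.finrank_fin_fun, hD]) hs
  | succ k ih =>
    obtain ⟨T, hT, hB⟩ := ih
    refine ⟨_, num_succ _ (by omega) (Or.inr rfl) hT, Bound.congr (minusSplit (F := F) (k + 3)).symm
      (fun x => by rw [← minusSplit_apply, LinearEquiv.apply_symm_apply]) fun n ρ hρ hn => ?_⟩
    have h := step (geo_minus hab (k + 3)) ρ hρ (by rwa [Module.finrank_fin_fun]) (by omega)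
      (Or.inl (by omega)) (Or.inl rfl) hT le_rfl zero_le_one (Or.inl rfl) (by rwa [sub_zero])
    rw [Module.finrank_fin_fun] at h
    exact h.resolve_right fun h' => by omega

omit hab [Fintype F] in
/-- From the scaled integer bound to the quotient of natural numbers. -/
theorem div_le_of_bound {q k A : ℕ} (hq : 2 ≤ q) {T : ℤ} (hT : T * ((q : ℤ) ^ 2 - 1) = (A : ℤ)) (h : T ≤ (k : ℤ)) :
    A / (q ^ 2 - 1) ≤ k := by
  have h1 : 1 ≤ q ^ 2 := Nat.one_le_pow _ _ (by omega)
  refine Nat.div_le_of_le_mul ?_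
  have h2 : (0 : ℤ) ≤ (q : ℤ) ^ 2 - 1 := by
    have : (1 : ℤ) ≤ (q : ℤ) ^ 2 := by exact_mod_cast h1
    linarith
  have h3 : ((A : ℕ) : ℤ) ≤ (((q ^ 2 - 1) * k : ℕ) : ℤ) := by
    push_cast [h1]
    rw [← hT, mul_comm _ (k : ℤ)]
    exact mul_le_mul_of_nonneg_right h h2
  exact_mod_cast h3

end CfsgLib.MinDeg.Om
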