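import Cfsg.Agent.Quad.HypPairs
import Cfsg.Agent.Quad.SimpleOmega

/-!
Isometries in the commutator subgroup with prescribed values, for a space with a split hyperbolic plane.
-/

set_option autoImplicit false
set_option linter.style.haveILetI false

namespace CfsgLib.MinDeg.Om

open QuadraticMap Module CfsgLib.Forms CfsgLib.Quad

variable {F : Type*} [Field F] {W : Type*} [AddCommGroup W] [Module F W] {Q : QuadraticForm F W}

/-- The isometries fixing a set of vectors. -/
def fixOn (Q : QuadraticForm F W) (s : Set W) : Subgroup (oGroup Q) where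
  carrier := {g | ∀ x ∈ s, g.1 x = x}
  one_mem' := fun _ _ => rfl
  mul_mem' := fun {g h} hg hh x hx => by
    show g.1 (h.1 x) = x
    rw [hh x hx, hg x hx]
  inv_mem' := fun {g} hg x hx => by
    show g.1.symm x = x
    rw [LinearEquiv.symm_apply_eq, hg x hx]

theorem refl_mem_fixOn {s : Set W} {d : W} (h : ∀ x ∈ s, polar Q x d = 0) : refl Q d ∈ fixOn Q s :=
  fun x hx => refl_fix (h x hx)

theorem polar_zero_pair (u v : W) (hu : Q u = 0) (hv : Q v = 0) (huv : polar Q u v = 0) (a b c d : F) :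
    polar Q (a • u + b • v) (c • u + d • v) = 0 := by
  simp only [polar_add_left, polar_add_right, polar_smul_left, polar_smul_right, QuadraticMap.polar_self, hu, hv,
    huv, polar_comm (⇑Q) v u, smul_zero, smul_eq_mul, mul_zero, add_zero]

theorem oGroup_mul_apply {V : Type*} [AddCommGroup V] [Module F V] {R : QuadraticForm F V} (a b : oGroup R) (x : V) :
    (a * b).1 x = a.1 (b.1 x) := rfl

variable [FiniteDimensional F W] [Finite F] (hQ : (polarBilin Q).Nondegenerate)

omit [Finite F] in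
include hQ in
theorem nondeg_perpS {U : Submodule F W} (hU : U ⊓ perpS Q U = ⊥) :
    (polarBilin (Q.comp (perpS Q U).subtype)).Nondegenerate := by
  have key : ∀ x : perpS Q U, (∀ y : perpS Q U, polar (Q.comp (perpS Q U).subtype) x y = 0) → x = 0 := by
    intro x hx
    have h0 : (x : W) ∈ perpS Q (perpS Q U) := fun y hy => by
      rw [polar_comm]
      exact hx ⟨y, hy⟩
    rw [perpS_perpS hQ U] at h0
    have h1 : (x : W) ∈ U ⊓ perpS Q U := ⟨h0, x.2⟩
    rw [hU, Submodule.mem_bot] at h1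
    exact Subtype.ext h1
  exact ⟨fun x hx => key x hx, fun y hy => key y fun z => by rw [polar_comm]; exact hy z⟩

include hQ in
/-- An anisotropic vector and a pair with non-square product of values, orthogonal to a vector. -/
theorem stab_data (hn : 4 ≤ finrank F W) (v : W) :
    (∃ a, polar Q v a = 0 ∧ Q a ≠ 0) ∧
      ((2 : F) ≠ 0 → ∃ a b, polar Q v a = 0 ∧ polar Q v b = 0 ∧ Q a ≠ 0 ∧ Q b ≠ 0 ∧ ¬IsSquare (Q a * Q b)) := by
  refine ⟨?_, fun h2 => ?_⟩
  · have h1 := finrank_perpS hQ (Submodule.span F {v})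
    have h2 : finrank F (Submodule.span F {v}) ≤ 1 :=
      (finrank_span_le_card ({v} : Set W)).trans (by simp)
    obtain ⟨a, ha, hQa⟩ := exists_aniso_of_finrank hQ (K := perpS Q (Submodule.span F {v})) (by omega)
    exact ⟨a, ha v (Submodule.mem_span_singleton_self v), hQa⟩
  obtain ⟨U, hvU, hUd, hU⟩ : ∃ U : Submodule F W, v ∈ U ∧ finrank F U ≤ 2 ∧ U ⊓ perpS Q U = ⊥ := by
    by_cases hv : Q v = 0
    · rcases eq_or_ne v 0 with rfl | hv0
      · exact ⟨⊥, zero_mem _, by simp, bot_inf_eq _⟩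
      obtain ⟨y, hy⟩ := exists_polar_ne hQ hv0
      refine ⟨Submodule.span F (Set.range ![v, y]), Submodule.subset_span ⟨0, rfl⟩,
        (finrank_range_le_card _).trans (by simp), (Submodule.eq_bot_iff _).2 ?_⟩
      rintro x ⟨hxU, hxP⟩
      obtain ⟨c, rfl⟩ := (Submodule.mem_span_range_iff_exists_fun F).1 hxU
      rw [Fin.sum_univ_two] at hxP ⊢
      simp only [Matrix.cons_val_zero, Matrix.cons_val_one] at hxP ⊢
      have e1 := hxP v (Submodule.subset_span ⟨0, rfl⟩)
      have e2 := hxP y (Submodule.subset_span ⟨1, rfl⟩)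
      simp only [polar_add_right, polar_smul_right, QuadraticMap.polar_self, hv, smul_zero, smul_eq_mul,
        mul_zero, zero_add, mul_eq_zero] at e1
      have hc1 := e1.resolve_right hy
      rw [hc1, zero_smul, add_zero, polar_smul_right, polar_comm, smul_eq_mul, mul_eq_zero] at e2
      rw [e2.resolve_right hy, hc1, zero_smul, zero_smul, add_zero]
    · refine ⟨Submodule.span F {v}, Submodule.mem_span_singleton_self v, ?_, (Submodule.eq_bot_iff _).2 ?_⟩
      · rw [finrank_span_singleton (fun e => hv (by rw [e, QuadraticMap.map_zero]))]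
        omega
      rintro x ⟨hxU, hxP⟩
      obtain ⟨c, rfl⟩ := Submodule.mem_span_singleton.1 hxU
      have e1 := hxP v (Submodule.mem_span_singleton_self v)
      rw [polar_smul_right, QuadraticMap.polar_self, smul_eq_mul, two_nsmul, mul_eq_zero] at e1
      rcases e1 with e1 | e1
      · rw [e1, zero_smul]
      · rw [← two_mul] at e1
        exact absurd ((mul_eq_zero.1 e1).resolve_left h2) hv
  have h1 := finrank_perpS hQ U
  obtain ⟨a, b, ha, hb, hsa, hsb⟩ := exists_classes (nondeg_perpS hQ hU) h2 (by omega)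
  refine ⟨a, b, a.2 v hvU, b.2 v hvU, ha, hb, fun h => hsb ?_⟩
  exact ((isSquare_mul_iff h2 ha hb).1 h).1 hsa

include hQ in
/-- Correct an isometry into the commutator subgroup inside the fixer of a set. -/
theorem exists_fix_mul (hgen : (∃ t : F, t ≠ 0 ∧ t ≠ 1) ∨ finrank F W ≠ 4) (g : oGroup Q) {s : Set W}
    (h1 : ∃ a, (∀ x ∈ s, polar Q x a = 0) ∧ Q a ≠ 0)
    (h2 : (2 : F) ≠ 0 → ∃ a b, (∀ x ∈ s, polar Q x a = 0) ∧ (∀ x ∈ s, polar Q x b = 0) ∧ Q a ≠ 0 ∧ Q b ≠ 0 ∧
      ¬IsSquare (Q a * Q b)) :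
    ∃ k ∈ fixOn Q s, k * g ∈ commutator (oGroup Q) := by
  obtain ⟨a, ha, hQa⟩ := h1
  refine exists_mul_mem_commutator hQ hgen (as := [a]) (by simpa using hQa) odd_one ?_ fun h => ?_
  · rw [reflProd_cons, reflProd_nil, mul_one]
    exact refl_mem_fixOn ha
  · obtain ⟨b, c, hb, hc, hQb, hQc, hns⟩ := h2 h
    refine ⟨[b, c], ?_, even_two, by simpa using hns, ?_⟩
    · intro v hv
      simp only [List.mem_cons, List.not_mem_nil, or_false] at hv
      rcases hv with rfl | rfl
      · exact hQb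
      · exact hQc
    · rw [reflProd_cons, reflProd_cons, reflProd_nil, mul_one]
      exact mul_mem (refl_mem_fixOn hb) (refl_mem_fixOn hc)

omit [Finite F] in
theorem exists_value (hn : 3 ≤ finrank F W) [Finite F] (hQ : (polarBilin Q).Nondegenerate) (t : F) :
    ∃ x, Q x = t := by
  obtain ⟨z, -, hz0, hz⟩ := exists_singular_of_three (Q := Q) (⊤ : Submodule F W) (by rwa [finrank_top])
  obtain ⟨y, hy⟩ := exists_polar_ne hQ hz0
  refine ⟨y + ((t - Q y) / polar Q z y) • z, ?_⟩
  rw [quad_add, quad_smul, hz, polar_smul_right, polar_comm (⇑Q) y z, smul_eq_mul, div_mul_cancel₀ _ hy]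
  ring

/-! The space `H ⊕ W`. -/

/-- Embedding of `W`. -/
def emb (w : W) : (F × F) × W := (0, w)

omit [FiniteDimensional F W] [Finite F] in
theorem hyp_emb (w : W) : hypSum Q (emb w) = Q w := by simp [hypSum_apply, emb]

omit [FiniteDimensional F W] [Finite F] in
theorem polar_emb (w x : W) : polar (hypSum Q) (emb w) (emb x) = polar Q w x := by
  simp [hypSum_polar, emb]

omit [FiniteDimensional F W] [Finite F] in
theorem polar_e₀_emb (w : W) : polar (hypSum Q) e₀ (emb w) = 0 := by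
  simp [hypSum_polar, emb, e₀]

omit [FiniteDimensional F W] [Finite F] in
theorem polar_f₀_emb (w : W) : polar (hypSum Q) f₀ (emb w) = 0 := by
  simp [hypSum_polar, emb, f₀]

omit [FiniteDimensional F W] [Finite F] in
theorem hyp_e₀ : hypSum Q e₀ = 0 := by simp [hypSum_apply, e₀]

omit [FiniteDimensional F W] [Finite F] in
theorem hyp_f₀ : hypSum Q f₀ = 0 := by simp [hypSum_apply, f₀]

omit [FiniteDimensional F W] [Finite F] in
theorem hyp_ef : polar (hypSum Q) e₀ f₀ = 1 := by simp [hypSum_polar, e₀, f₀]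

omit [FiniteDimensional F W] [Finite F] in
theorem oExtend_emb (h : oGroup Q) (w : W) : (oExtend Q h).1 (emb w) = emb (h.1 w) := rfl

omit [Finite F] in
theorem finrank_hyp : finrank F ((F × F) × W) = finrank F W + 2 := by
  rw [Module.finrank_prod, Module.finrank_prod, Module.finrank_self]
  omega

omit [FiniteDimensional F W] [Finite F] in
theorem oExtend_siegel {u w : W} (hu : Q u = 0) (huw : polar Q u w = 0) :
    oExtend Q (siegel Q u w) = siegel (hypSum Q) (emb u) (emb w) := by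
  refine Subtype.ext (LinearEquiv.ext fun x => ?_)
  rw [siegel_apply (by rw [hyp_emb, hu]) (by rw [polar_emb, huw])]
  show (x.1, (siegel Q u w).1 x.2) = _
  rw [siegel_apply hu huw, hyp_emb, hypSum_polar, hypSum_polar]
  refine Prod.ext ?_ ?_ <;> simp [emb]

variable (hn : 4 ≤ finrank F W)
include hQ hn

theorem hgen_hyp : (∃ t : F, t ≠ 0 ∧ t ≠ 1) ∨ finrank F ((F × F) × W) ≠ 4 :=
  Or.inr (by rw [finrank_hyp]; omega)

theorem sq_mem (g : oGroup (hypSum Q)) : g * g ∈ commutator (oGroup (hypSum Q)) := by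
  obtain ⟨vs, hvs, rfl⟩ := exists_reflProd (hypSum_nondeg hQ) (hgen_hyp hQ hn) g
  rw [← reflProd_append, reflProd_mem_commutator_iff (hypSum_nondeg hQ) (hgen_hyp hQ hn)
    (List.forall_mem_append.2 ⟨hvs, hvs⟩), List.length_append, List.map_append, List.prod_append]
  exact ⟨Even.add_self _, IsSquare.mul_self _⟩

theorem exists_map_vec {v v' : W} (hv : v ≠ 0) (hv' : v' ≠ 0) (h : Q v = Q v') :
    ∃ g : oGroup Q, oExtend Q g ∈ commutator (oGroup (hypSum Q)) ∧ g.1 v = v' := by
  obtain ⟨g₀, hg₀, hgv⟩ := quad_exists_map_family hQ ![v] ![v'] (LinearIndependent.of_subsingleton 0 hv)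
    (LinearIndependent.of_subsingleton 0 hv') (fun i => by fin_cases i; exact h)
    (fun i j => by fin_cases i; fin_cases j; simp [QuadraticMap.polar_self, h])
  obtain ⟨⟨a, ha, hQa⟩, h2⟩ := stab_data hQ hn v'
  obtain ⟨k, hk, hkg⟩ := exists_fix_mul (hypSum_nondeg hQ) (hgen_hyp hQ hn) (oExtend Q ⟨g₀, hg₀⟩)
    (s := {e₀, f₀, emb v'})
    ⟨emb a, by
      rintro x (rfl | rfl | rfl)
      · exact polar_e₀_emb a
      · exact polar_f₀_emb a
      · rw [polar_emb, ha], by rwa [hyp_emb]⟩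
    fun h' => by
      obtain ⟨b, c, hb, hc, hQb, hQc, hns⟩ := h2 h'
      refine ⟨emb b, emb c, ?_, ?_, by rwa [hyp_emb], by rwa [hyp_emb], by rwa [hyp_emb, hyp_emb]⟩
      · rintro x (rfl | rfl | rfl)
        · exact polar_e₀_emb b
        · exact polar_f₀_emb b
        · rw [polar_emb, hb]
      · rintro x (rfl | rfl | rfl)
        · exact polar_e₀_emb c
        · exact polar_f₀_emb c
        · rw [polar_emb, hc]
  obtain ⟨k', rfl⟩ := (mem_range_oExtend hQ k).2 ⟨hk _ (Or.inl rfl), hk _ (Or.inr (Or.inl rfl))⟩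
  refine ⟨k' * ⟨g₀, hg₀⟩, by rwa [map_mul], ?_⟩
  have h1 : k'.1 v' = v' := congrArg Prod.snd (hk _ (Or.inr (Or.inr rfl)))
  show k'.1 (g₀ v) = v'
  rw [show g₀ v = v' from hgv 0, h1]

theorem exists_map_pair {a b : (F × F) × W} (hab : LinearIndependent F ![a, b]) (ha : hypSum Q a = 0)
    (hb : hypSum Q b = 0) (hp : polar (hypSum Q) a b = 0) {z : W} (hz0 : z ≠ 0) (hz : Q z = 0) :
    ∃ k ∈ commutator (oGroup (hypSum Q)), k.1 a = e₀ ∧ k.1 b = emb z := by
  have hli : LinearIndependent F ![(e₀ : (F × F) × W), emb z] := by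
    rw [LinearIndependent.pair_iff]
    intro s t hst
    have h1 : s = 0 := by simpa [e₀, emb] using congrArg (fun x : (F × F) × W => x.1.1) hst
    have h2 : t • z = 0 := by simpa [e₀, emb] using congrArg (fun x : (F × F) × W => x.2) hst
    exact ⟨h1, (smul_eq_zero.1 h2).resolve_right hz0⟩
  obtain ⟨g₀, hg₀, hgv⟩ := quad_exists_map_family (hypSum_nondeg hQ) ![a, b] ![(e₀ : (F × F) × W), emb z] hab hli
    (fun i => by fin_cases i <;> simp [ha, hb, hyp_e₀, hyp_emb, hz])
    (fun i j => by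
      fin_cases i <;> fin_cases j <;>
        simp [QuadraticMap.polar_self, ha, hb, hp, polar_comm (⇑(hypSum Q)) b a, polar_comm (⇑(hypSum Q)) (emb z) e₀,
          polar_e₀_emb, hyp_e₀, hyp_emb, hz])
  obtain ⟨⟨c, hc, hQc⟩, h2⟩ := stab_data hQ hn z
  obtain ⟨k, hk, hkg⟩ := exists_fix_mul (hypSum_nondeg hQ) (hgen_hyp hQ hn) ⟨g₀, hg₀⟩
    (s := {e₀, emb z})
    ⟨emb c, by
      rintro x (rfl | rfl)
      · exact polar_e₀_emb c
      · rw [polar_emb, hc], by rwa [hyp_emb]⟩
    fun h' => by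
      obtain ⟨b, c, hb, hc, hQb, hQc, hns⟩ := h2 h'
      refine ⟨emb b, emb c, ?_, ?_, by rwa [hyp_emb], by rwa [hyp_emb], by rwa [hyp_emb, hyp_emb]⟩
      · rintro x (rfl | rfl)
        · exact polar_e₀_emb b
        · rw [polar_emb, hb]
      · rintro x (rfl | rfl)
        · exact polar_e₀_emb c
        · rw [polar_emb, hc]
  refine ⟨k * ⟨g₀, hg₀⟩, hkg, ?_, ?_⟩
  · show k.1 (g₀ a) = e₀
    rw [show g₀ a = e₀ from hgv 0, hk _ (Or.inl rfl)]
  · show k.1 (g₀ b) = emb z
    rw [show g₀ b = emb z from hgv 1, hk _ (Or.inr rfl)]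

theorem exists_scaling {t : F} (ht : t ≠ 0) :
    ∃ k ∈ commutator (oGroup (hypSum Q)), ∃ h : oGroup Q, k.1 e₀ = t • e₀ ∧ ∀ w, k.1 (emb w) = emb (h.1 w) := by
  obtain ⟨x, hx⟩ := exists_value (Q := Q) (by omega) hQ (1 : F)
  obtain ⟨y, hy⟩ := exists_value (Q := Q) (by omega) hQ t
  have hv : ∀ v ∈ [e₀ + f₀, e₀ + t • f₀, emb x, emb y], hypSum Q v ≠ 0 := by
    intro v hv
    simp only [List.mem_cons, List.not_mem_nil, or_false] at hv
    rcases hv with rfl | rfl | rfl | rfl
    · have h1 := quad_pair (hyp_e₀ (Q := Q)) hyp_f₀ hyp_ef (1 : F)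
      rw [one_smul] at h1
      rw [h1]
      exact one_ne_zero
    · rw [quad_pair hyp_e₀ hyp_f₀ hyp_ef]
      exact ht
    · rw [hyp_emb, hx]
      exact one_ne_zero
    · rw [hyp_emb, hy]
      exact ht
  have hemb : ∀ u : (F × F) × W, ∀ d : W, polar (hypSum Q) u (emb d) = polar Q u.2 d := fun u d => by
    simp [hypSum_polar, emb]
  refine ⟨reflProd (hypSum Q) [e₀ + f₀, e₀ + t • f₀, emb x, emb y], ?_, refl Q x * refl Q y, ?_, ?_⟩
  · rw [reflProd_mem_commutator_iff (hypSum_nondeg hQ) (hgen_hyp hQ hn) hv]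
    refine ⟨by simp [Nat.even_iff], ⟨t, ?_⟩⟩
    have h1 := quad_pair (hyp_e₀ (Q := Q)) hyp_f₀ hyp_ef (1 : F)
    rw [one_smul] at h1
    simp [h1, quad_pair (hyp_e₀ (Q := Q)) hyp_f₀ hyp_ef, hyp_emb, hx, hy]
  · have hfix : (reflProd (hypSum Q) [emb x, emb y]).1 e₀ = e₀ := by
      rw [reflProd_cons, reflProd_cons, reflProd_nil, mul_one, oGroup_mul_apply, refl_fix (polar_e₀_emb y),
        refl_fix (polar_e₀_emb x)]
    rw [show [e₀ + f₀, e₀ + t • f₀, emb x, emb y] =
        [(e₀ : (F × F) × W) + f₀, e₀ + t • f₀] ++ [emb x, emb y] from rfl, reflProd_append, oGroup_mul_apply,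
      hfix, reflProd_torus hyp_e₀ hyp_f₀ hyp_ef ht, QuadraticMap.polar_self, hyp_e₀, hyp_ef, smul_zero, mul_zero,
      zero_smul, add_zero, mul_one, sub_smul, one_smul]
    abel
  · intro w
    have h1 : ∀ d u : W, (refl (hypSum Q) (emb d)).1 (emb u) = emb ((refl Q d).1 u) := fun d u => by
      rw [refl_apply, refl_apply, hyp_emb, polar_emb]
      simp [emb]
    have hfix : (reflProd (hypSum Q) [emb x, emb y]).1 (emb w) = emb ((refl Q x * refl Q y).1 w) := by
      rw [reflProd_cons, reflProd_cons, reflProd_nil, mul_one, oGroup_mul_apply, h1, h1, ← oGroup_mul_apply]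
    rw [show [e₀ + f₀, e₀ + t • f₀, emb x, emb y] =
        [(e₀ : (F × F) × W) + f₀, e₀ + t • f₀] ++ [emb x, emb y] from rfl, reflProd_append, oGroup_mul_apply,
      hfix, reflProd_torus hyp_e₀ hyp_f₀ hyp_ef ht, polar_comm (⇑(hypSum Q)) _ f₀,
      polar_comm (⇑(hypSum Q)) _ e₀, polar_e₀_emb, polar_f₀_emb, mul_zero, zero_smul, mul_zero, zero_smul,
      add_zero, add_zero]

end CfsgLib.MinDeg.Om
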