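import Cfsg.Agent.MinDeg.OmegaMain
import Cfsg.Agent.Quad.Concrete

/-!
The geometry of odd-dimensional orthogonal spaces used for the minimal degree of `Ω_{2n+1}`.
-/

set_option autoImplicit false
set_option linter.style.haveILetI false

namespace CfsgLib.MinDeg.OmOdd

open QuadraticMap Module CfsgLib.Forms CfsgLib.Quad CfsgLib.MinDeg.Om

universe u v v'

/-- `1 + q² + ⋯ + q^{2(j-1)}`. -/
def geom (q : ℤ) : ℕ → ℤ
  | 0 => 0
  | j + 1 => geom q j + q ^ (2 * j)

theorem geom_mul (q : ℤ) : ∀ j, geom q j * (q ^ 2 - 1) = q ^ (2 * j) - 1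
  | 0 => by simp [geom]
  | j + 1 => by
    rw [geom, add_mul, geom_mul q j]
    ring

theorem geom_shift (q : ℤ) : ∀ j, geom q (j + 1) = 1 + q ^ 2 * geom q j
  | 0 => by simp [geom]
  | j + 1 => by
    conv_lhs => rw [geom]
    conv_rhs => rw [geom]
    rw [geom_shift q j]
    ring

theorem geom_nonneg {q : ℤ} (hq : 0 ≤ q) : ∀ j, 0 ≤ geom q j
  | 0 => le_rfl
  | j + 1 => by
    have := geom_nonneg hq j
    have := pow_nonneg hq (2 * j)
    rw [geom]
    linarith

variable {F : Type u} [Field F] [Fintype F] {W : Type v} [AddCommGroup W] [Module F W] [FiniteDimensional F W]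

/-- The geometry of `O_{2m+1}`. -/
structure OddGeo (Q : QuadraticForm F W) (m : ℕ) : Prop where
  nd : (polarBilin Q).Nondegenerate
  dim : finrank F W = 2 * m + 1
  zero : (Nat.card {v : W // Q v = 0} : ℤ) = (Fintype.card F : ℤ) ^ (2 * m)
  level : ∀ a : F, a ≠ 0 →
    (Fintype.card F : ℤ) ^ (2 * m) - (Fintype.card F : ℤ) ^ m ≤ (Nat.card {v : W // Q v = a} : ℤ)

variable {Q : QuadraticForm F W} {m : ℕ}

theorem OddGeo.hyp (h : OddGeo Q m) : OddGeo (hypSum Q) (m + 1) := by
  have hW : (Nat.card W : ℤ) = (Fintype.card F : ℤ) ^ (2 * m + 1) := by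
    rw [Module.natCard_eq_pow_finrank (K := F), h.dim, Nat.card_eq_fintype_card]
    push_cast
    ring
  refine ⟨hypSum_nondeg h.nd, by rw [finrank_hyp, h.dim]; ring, ?_, fun a ha => ?_⟩
  · rw [card_level_hypSum, hW, h.zero]
    ring
  · rw [card_level_hypSum, hW]
    have h1 := mul_le_mul_of_nonneg_left (h.level a ha) (Int.natCast_nonneg (Fintype.card F))
    calc (Fintype.card F : ℤ) ^ (2 * (m + 1)) - (Fintype.card F : ℤ) ^ (m + 1)
        = ((Fintype.card F : ℤ) - 1) * (Fintype.card F : ℤ) ^ (2 * m + 1) +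
          (Fintype.card F : ℤ) * ((Fintype.card F : ℤ) ^ (2 * m) - (Fintype.card F : ℤ) ^ m) := by ring
      _ ≤ _ := by linarith

theorem OddGeo.congr {W' : Type v'} [AddCommGroup W'] [Module F W'] [FiniteDimensional F W']
    {Q' : QuadraticForm F W'} (e : W ≃ₗ[F] W') (he : ∀ x, Q' (e x) = Q x) (h : OddGeo Q m) : OddGeo Q' m := by
  have hc : ∀ a : F, Nat.card {v : W' // Q' v = a} = Nat.card {v : W // Q v = a} := fun a =>
    (Nat.card_congr (Equiv.subtypeEquiv e.toEquiv fun v => by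
      change Q v = a ↔ Q' (e v) = a
      rw [he])).symm
  exact ⟨nondeg_of_equiv e.symm (fun v => by rw [← he, e.apply_symm_apply]) h.nd, by rw [← e.finrank_eq, h.dim],
    by rw [hc]; exact h.zero, fun a ha => by rw [hc]; exact h.level a ha⟩

theorem oddGeo_oddQ (h2 : (2 : F) ≠ 0) : ∀ m : ℕ, OddGeo (oddQ (F := F) m) m
  | 0 => ⟨oddQ_nondeg h2 0, by simp, by
      rw [zeros_odd (q := Fintype.card F) Nat.card_eq_fintype_card 0]
      simp, fun a _ => by simp⟩
  | m + 1 => OddGeo.congr (oddSplit (F := F) m).symm (fun x => by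
      rw [← oddSplit_apply, LinearEquiv.apply_symm_apply]) (oddGeo_oddQ h2 m).hyp

theorem card_singular (h : OddGeo Q m) :
    (Nat.card {v : W // Q v = 0 ∧ v ≠ 0} : ℤ) = (Fintype.card F : ℤ) ^ (2 * m) - 1 := by
  classical
  haveI : Finite W := Module.finite_of_finite F
  haveI := Fintype.ofFinite W
  have h0 : (Finset.univ.filter fun v : W => Q v = 0 ∧ v ≠ 0) = (Finset.univ.filter fun v : W => Q v = 0).erase 0 := by
    ext v; simp [and_comm]
  have h1 := h.zero
  rw [Nat.card_eq_fintype_card, Fintype.card_subtype] at h1 ⊢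
  rw [h0, Finset.card_erase_of_mem (by simp), Nat.cast_sub (Finset.card_pos.2 ⟨0, by simp⟩), h1, Nat.cast_one]

open Classical in
theorem card_singular_filter [Fintype W] (h : OddGeo Q m) :
    ((Finset.univ.filter fun v : W => v ≠ 0 ∧ Q v = 0).card : ℤ) = (Fintype.card F : ℤ) ^ (2 * m) - 1 := by
  rw [← card_singular h, Nat.card_eq_fintype_card, Fintype.card_subtype]
  congr 2
  exact Finset.filter_congr fun v _ => and_comm

theorem card_tsPairs (h : OddGeo Q m) : (Nat.card (TSPairs (hypSum Q)) : ℤ) =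
    ((Fintype.card F : ℤ) ^ (2 * m + 2) - 1) * ((Fintype.card F : ℤ) * ((Fintype.card F : ℤ) ^ (2 * m) - 1)) := by
  rw [card_pairs h.nd]
  push_cast
  rw [card_singular h, card_singular h.hyp]
  ring

theorem exists_ts_pair_hyp {m : ℕ} (h : OddGeo Q (m + 1)) :
    ∃ u w : (F × F) × W, hypSum Q u = 0 ∧ hypSum Q w = 0 ∧ polar (hypSum Q) u w = 0 ∧
      LinearIndependent F ![u, w] := by
  obtain ⟨z, -, hz0, hz⟩ := exists_singular_of_three (Q := Q) (⊤ : Submodule F W)
    (by rw [finrank_top, h.dim]; omega)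
  refine ⟨e₀, emb z, hyp_e₀, by rw [hyp_emb, hz], polar_e₀_emb z, LinearIndependent.pair_iff.2 fun s t hst => ?_⟩
  have h2 : t • z = 0 := by simpa [e₀, emb] using congrArg Prod.snd hst
  exact ⟨by simpa [e₀, emb] using congrArg (fun x : (F × F) × W => x.1.1) hst,
    (smul_eq_zero.1 h2).resolve_right hz0⟩

end CfsgLib.MinDeg.OmOdd
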