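import Cfsg.Agent.MinDeg.OmegaOddPairs
import Cfsg.Agent.MinDeg.WeightTools
import Cfsg.Agent.Char.Values

/-!
`q` times the trace of a root element outside the stabiliser on the fixed space of the radical is integral.
-/

set_option autoImplicit false
set_option linter.style.haveILetI false

namespace CfsgLib.MinDeg.OmOdd

open QuadraticMap Module CfsgLib.Forms CfsgLib.Quad CfsgLib.MinDeg.Om
open scoped Classical

universe u v w

/-- The trace of an element on the range of an idempotent commuting with it is integral. -/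
theorem isIntegral_trace_idem {G : Type*} [Group G] [Finite G] {V : Type*} [AddCommGroup V] [Module ℂ V]
    [FiniteDimensional ℂ V] (ρ : Representation ℂ G V) {E : Module.End ℂ V} (hE : E * E = E) {g : G}
    (hg : ρ g * E = E * ρ g) : IsIntegral ℤ (LinearMap.trace ℂ V (ρ g * E)) := by
  set R := LinearMap.range E with hR
  have hfix : ∀ x ∈ R, E x = x := by
    rintro _ ⟨v, rfl⟩
    rw [← Module.End.mul_apply, hE]
  have hinv : ∀ h : Subgroup.zpowers g, ∀ x ∈ R, (ρ.comp (Subgroup.zpowers g).subtype) h x ∈ R := by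
    rintro ⟨h, hh⟩ x hx
    obtain ⟨k, rfl⟩ := mem_powers_iff_mem_zpowers.2 hh
    refine ⟨(ρ g ^ k) x, ?_⟩
    show E ((ρ g ^ k) x) = ρ (g ^ k) x
    rw [map_pow, ← Module.End.mul_apply, ← ((Commute.pow_left (show Commute (ρ g) E from hg) k).eq),
      Module.End.mul_apply, hfix x hx]
  let r : Representation ℂ (Subgroup.zpowers g) R := restrictHom (ρ.comp (Subgroup.zpowers g).subtype) R hinv
  have hint := CfsgLib.Char.IsCharacter.isIntegral (CfsgLib.Char.isCharacter_character r)
    ⟨g, Subgroup.mem_zpowers g⟩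
  have hmem : ∀ x, (ρ g * E) x ∈ R := fun x => by rw [hg]; exact LinearMap.mem_range_self E _
  rw [← LinearMap.trace_restrict_eq_of_forall_mem R (ρ g * E) hmem]
  refine (congrArg (IsIntegral ℤ) ?_).mp hint
  show LinearMap.trace ℂ R (r ⟨g, Subgroup.mem_zpowers g⟩) = _
  congr 1
  refine LinearMap.ext fun x => Subtype.ext ?_
  show ρ g (x : V) = ρ g (E (x : V))
  rw [hfix x x.2]

variable {F : Type u} [Field F] {W : Type v} [AddCommGroup W] [Module F W] {Q : QuadraticForm F W}

theorem siegel_yconj {u w : W} (hu : Q u = 0) (hwu : polar Q w u = 0) :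
    siegel (hypSum Q) ((e₀ : (F × F) × W) - emb u) (emb w) =
      siegel (hypSum Q) e₀ (emb (w + Q w • u)) * siegel (hypSum Q) (emb u) (emb (-w)) := by
  refine Subtype.ext (LinearEquiv.ext fun x => ?_)
  have h1 : hypSum Q ((e₀ : (F × F) × W) - emb u) = 0 := by simp [hypSum_apply, e₀, emb, hu]
  have h2 : polar (hypSum Q) ((e₀ : (F × F) × W) - emb u) (emb w) = 0 := by
    simp [hypSum_polar, e₀, emb, polar_neg_left, polar_comm (⇑Q) u w, hwu]
  have huw : polar Q u (-w) = 0 := by rw [polar_neg_right, polar_comm, hwu, neg_zero]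
  rw [oGroup_mul_apply, siegel_apply h1 h2, siegel_apply hyp_e₀ (polar_e₀_emb _),
    siegel_apply (by rw [hyp_emb, hu]) (by rw [polar_emb, huw])]
  have hz : Q (w + Q w • u) = Q w := by
    rw [quad_add, quad_smul, hu, polar_smul_right, hwu]
    simp
  rw [hyp_emb, hyp_emb, hyp_emb, hz, QuadraticMap.map_neg]
  obtain ⟨⟨x1, x2⟩, x⟩ := x
  simp only [hypSum_polar, emb, e₀, polar_add_left, polar_sub_left, polar_smul_left, polar_add_right,
    polar_sub_right, polar_smul_right, polar_neg_left, polar_neg_right, Prod.smul_mk, Prod.mk_add_mk, Prod.mk_sub_mk,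
    smul_eq_mul, QuadraticMap.polar_self, hu, hwu, polar_comm (⇑Q) u w, polar_zero_left, polar_zero_right, smul_zero,
    mul_zero, zero_mul, add_zero, zero_add, mul_one, one_mul, sub_zero, zero_sub, zero_smul, sub_self, neg_zero,
    Prod.fst_zero, Prod.snd_zero, nsmul_eq_mul, Nat.cast_ofNat]
  refine Prod.ext (Prod.ext ?_ ?_) ?_
  · ring
  · ring
  · module

variable [Fintype F] [FiniteDimensional F W] (hQ : (polarBilin Q).Nondegenerate) (hn : 4 ≤ finrank F W) [Fintype W]
  {X : Type w} [AddCommGroup X] [Module ℂ X] [FiniteDimensional ℂ X] (ρ : Representation ℂ (OG Q) X)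

theorem isIntegral_q_mul_trace (hn5 : 5 ≤ finrank F W) {u : W} (hu : Q u = 0) (hu0 : u ≠ 0) :
    IsIntegral ℤ ((Fintype.card F : ℂ) *
      LinearMap.trace ℂ X (ρ (yEl hQ hn hu) * proj ρ (eHom hQ hn) 0)) := by
  haveI : Finite (oGroup (hypSum Q)) := finite_oGroup _
  obtain ⟨u₁, hu₁⟩ : ∃ u₁ : W, polar Q u₁ u = 1 := by
    obtain ⟨y, hy⟩ := exists_polar_ne hQ hu0
    exact ⟨(polar Q u y)⁻¹ • y, by rw [polar_smul_left, polar_comm (⇑Q) y u, smul_eq_mul, inv_mul_cancel₀ hy]⟩
  let U₀ : Submodule F W := LinearMap.ker (polarFun Q u)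
  have hU : ∀ {x : W}, x ∈ U₀ ↔ polar Q x u = 0 := fun {x} => by
    rw [LinearMap.mem_ker, polarFun_apply]
  let e0 : Multiplicative U₀ →* OG Q := (eHom hQ hn).comp (AddMonoidHom.toMultiplicative U₀.subtype.toAddMonoidHom)
  let eA : Multiplicative F →* OG Q :=
    (eHom hQ hn).comp (AddMonoidHom.toMultiplicative (LinearMap.toSpanSingleton F W u₁).toAddMonoidHom)
  have huw : ∀ w : U₀, polar Q u w = 0 := fun w => by rw [polar_comm]; exact hU.1 w.2
  let eL : Multiplicative U₀ →* OG Q := MonoidHom.mk' (fun w => liftC Q ⟨siegel Q u (Multiplicative.toAdd w : U₀),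
      siegel_mem_commutator hQ hn5 hu (huw _)⟩) fun a b => by
    rw [← map_mul]
    congr 1
    refine Subtype.ext ?_
    show siegel Q u _ = siegel Q u _ * siegel Q u _
    rw [siegel_mul hu (huw _) (huw _), toAdd_mul, Submodule.coe_add]
  have he0 : ∀ w : U₀, e0 (Multiplicative.ofAdd w) = eHom hQ hn (Multiplicative.ofAdd (w : W)) := fun w => rfl
  have heA : ∀ l : F, eA (Multiplicative.ofAdd l) = eHom hQ hn (Multiplicative.ofAdd (l • u₁)) := fun l => rfl
  have heL : ∀ w : U₀, eL (Multiplicative.ofAdd w) = liftC Q ⟨siegel Q u (w : W),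
      siegel_mem_commutator hQ hn5 hu (huw _)⟩ := fun w => rfl
  set P := proj ρ (eHom hQ hn) 0 with hP
  set E₀ := proj ρ e0 0 with hE₀
  set A := proj ρ eA 0 with hA
  set EL := proj ρ eL 0 with hEL
  set y := yEl hQ hn hu with hy
  -- the radical is abelian
  have habel : ∀ a b : W, ρ (eHom hQ hn (Multiplicative.ofAdd a)) * ρ (eHom hQ hn (Multiplicative.ofAdd b)) =
      ρ (eHom hQ hn (Multiplicative.ofAdd b)) * ρ (eHom hQ hn (Multiplicative.ofAdd a)) := fun a b => by
    rw [← map_mul ρ, ← map_mul ρ]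
    congr 1
    exact ((Commute.all (Multiplicative.ofAdd a) (Multiplicative.ofAdd b)).map (eHom hQ hn)).eq
  have hE₀U : ∀ a : W, ρ (eHom hQ hn (Multiplicative.ofAdd a)) * E₀ =
      E₀ * ρ (eHom hQ hn (Multiplicative.ofAdd a)) := fun a => by
    rw [hE₀, proj_zero_eq, mul_smul_comm, smul_mul_assoc, Finset.mul_sum, Finset.sum_mul]
    congr 1
    exact Finset.sum_congr rfl fun b _ => habel _ _
  have hE₀abs : ∀ w : U₀, E₀ * ρ (eHom hQ hn (Multiplicative.ofAdd (w : W))) = E₀ := fun w => by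
    rw [← hE₀U, ← he0]
    exact rho_mul_proj_zero ρ e0 w
  have hAE : A * E₀ = E₀ * A := by
    rw [hA, proj_zero_eq ρ eA, mul_smul_comm, smul_mul_assoc, Finset.mul_sum, Finset.sum_mul]
    congr 1
    exact Finset.sum_congr rfl fun l _ => by rw [heA, hE₀U]
  have hsplit : P = E₀ * A := by
    let e : U₀ × F ≃ W :=
      { toFun := fun x => (x.1 : W) + x.2 • u₁
        invFun := fun v => (⟨v - polar Q v u • u₁, hU.2 (by
          rw [polar_sub_left, polar_smul_left, hu₁, smul_eq_mul, mul_one, sub_self])⟩, polar Q v u)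
        left_inv := fun x => by
          have h : polar Q ((x.1 : W) + x.2 • u₁) u = x.2 := by
            rw [polar_add_left, polar_smul_left, hu₁, hU.1 x.1.2, smul_eq_mul, mul_one, zero_add]
          refine Prod.ext (Subtype.ext ?_) h
          show (x.1 : W) + x.2 • u₁ - polar Q ((x.1 : W) + x.2 • u₁) u • u₁ = _
          rw [h, add_sub_cancel_right]
        right_inv := fun v => by simp }
    rw [hP, hE₀, hA, proj_zero_eq, proj_zero_eq, proj_zero_eq, smul_mul_assoc, mul_smul_comm, smul_smul,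
      ← mul_inv, ← Nat.cast_mul, ← Fintype.card_prod, Fintype.card_congr e, Finset.sum_mul_sum, ← Fintype.sum_prod_type']
    congr 1
    refine (Fintype.sum_equiv e _ _ fun x => ?_).symm
    rw [he0, heA, ← map_mul, ← map_mul, ← ofAdd_add]
    rfl
  -- elements fixing `e₀` and `u` commute with `E₀`
  have hstab : ∀ g : OG Q, g.1.1 e₀ = e₀ → g.1.1 (emb u) = emb u → ρ g * E₀ = E₀ * ρ g := by
    intro g hge hgu
    have hmem : ∀ x : U₀, (g.1.1 (emb (x : W))).2 ∈ U₀ := fun x => hU.2 (by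
      have h := polar_oGroup g.1 (emb (x : W)) (emb u)
      rw [hgu, stab_emb hge, polar_add_left, polar_smul_left, polar_e₀_emb, polar_emb, polar_emb, smul_zero, add_zero,
        hU.1 x.2] at h
      exact h)
    refine proj_zero_comm ρ e0 (fun x => ⟨_, hmem x⟩) (Finite.injective_iff_bijective.1 fun x x' h => ?_) fun x => ?_
    · exact Subtype.ext (stab_injective hge (congrArg Subtype.val h))
    · rw [he0, he0]
      exact stab_conj hQ hn hge x
  have hLfix : ∀ w : U₀, (eL (Multiplicative.ofAdd w)).1.1 (emb u) = emb u := fun w => by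
    rw [heL]
    show (oExtend Q (siegel Q u (w : W))).1 (emb u) = emb u
    rw [oExtend_emb, siegel_apply hu (huw _), QuadraticMap.polar_self, hu, huw]
    simp
  have hcommE : EL * E₀ = E₀ * EL := by
    rw [hEL, proj_zero_eq ρ eL, mul_smul_comm, smul_mul_assoc, Finset.mul_sum, Finset.sum_mul]
    congr 1
    exact Finset.sum_congr rfl fun w _ => hstab _ (liftC_fix _) (hLfix w)
  have hPPidem : E₀ * EL * (E₀ * EL) = E₀ * EL := by
    calc E₀ * EL * (E₀ * EL) = E₀ * (EL * E₀) * EL := by simp only [mul_assoc]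
      _ = E₀ * E₀ * (EL * EL) := by rw [hcommE]; simp only [mul_assoc]
      _ = E₀ * EL := by rw [hE₀, proj_idem, hEL, proj_idem]
  set PP := E₀ * EL with hPP
  -- the translations by `u₁` commute with `PP`
  have hApp : ∀ l : F, ρ (eA (Multiplicative.ofAdd l)) * PP = PP * ρ (eA (Multiplicative.ofAdd l)) := by
    intro l
    rw [hPP, ← mul_assoc, heA, hE₀U, mul_assoc, mul_assoc, hEL, proj_zero_eq ρ eL, mul_smul_comm, smul_mul_assoc,
      mul_smul_comm, mul_smul_comm, Finset.mul_sum, Finset.sum_mul, Finset.mul_sum, Finset.mul_sum]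
    congr 1
    refine Finset.sum_congr rfl fun w _ => ?_
    have hc := stab_conj hQ hn (g := eL (Multiplicative.ofAdd w)) (liftC_fix _) (l • u₁)
    have hval : ((eL (Multiplicative.ofAdd w)).1.1 (emb (l • u₁))).2 = (siegel Q u (w : W)).1 (l • u₁) := rfl
    have hd : (siegel Q u (w : W)).1 (l • u₁) - l • u₁ ∈ U₀ := hU.2 (by
      have hfu : (siegel Q u (w : W)).1 u = u := by
        rw [siegel_apply hu (huw _), QuadraticMap.polar_self, hu, huw]
        simp
      rw [polar_sub_left]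
      conv_lhs => arg 1; arg 3; rw [← hfu]
      rw [polar_oGroup, sub_self])
    have hsum : (siegel Q u (w : W)).1 (l • u₁) =
        ((⟨_, hd⟩ : U₀) : W) + l • u₁ := (sub_add_cancel _ _).symm
    rw [← map_mul ρ (eL (Multiplicative.ofAdd w)), hc, hval, hsum, ofAdd_add]
    simp only [map_mul, ← mul_assoc]
    have habs : E₀ * ρ (eHom hQ hn (Multiplicative.ofAdd ((siegel Q u (w : W)).1 (l • u₁) - l • u₁))) = E₀ :=
      hE₀abs ⟨_, hd⟩
    rw [habs]
  -- the representative
  let φ : U₀ → U₀ := fun w => ⟨(w : W) + Q (w : W) • u, hU.2 (by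
    rw [polar_add_left, polar_smul_left, QuadraticMap.polar_self, hu, hU.1 w.2]; simp)⟩
  have hφ : Function.Bijective φ := Finite.injective_iff_bijective.1 fun w w' h => by
    have h1 : (w : W) + Q (w : W) • u = (w' : W) + Q (w' : W) • u := congrArg Subtype.val h
    have h2 := congrArg Q h1
    rw [quad_add, quad_add, quad_smul, quad_smul, hu, polar_smul_right, polar_smul_right, hU.1 w.2, hU.1 w'.2] at h2
    simp at h2
    rw [h2] at h1
    exact Subtype.ext (add_right_cancel h1)
  have hyu : y.1.1 (emb u) = emb u := by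
    rw [hy, yEl, siegel_apply (by rw [hyp_emb, hu]) (by rw [polar_comm, polar_f₀_emb]), QuadraticMap.polar_self,
      hyp_emb, hu, polar_comm (⇑(hypSum Q)) (emb u) f₀, polar_f₀_emb, hyp_f₀]
    simp
  have hyw : ∀ w : U₀, y.1.1 (emb (w : W)) = emb (w : W) := fun w => by
    rw [hy, yEl, siegel_apply (by rw [hyp_emb, hu]) (by rw [polar_comm, polar_f₀_emb]), polar_emb, hU.1 w.2,
      polar_comm (⇑(hypSum Q)) (emb (w : W)) f₀, polar_f₀_emb, hyp_f₀]
    simp
  have hye : y.1.1 e₀ = e₀ - emb u := by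
    rw [hy, yEl, siegel_apply (by rw [hyp_emb, hu]) (by rw [polar_comm, polar_f₀_emb]), polar_e₀_emb, hyp_f₀, hyp_ef]
    simp
  have hconj : ∀ w : U₀, y * e0 (Multiplicative.ofAdd w) =
      e0 (Multiplicative.ofAdd (φ w)) * eL (Multiplicative.ofAdd (-w)) * y := fun w => by
    refine Subtype.ext ?_
    rw [Subgroup.coe_mul, Subgroup.coe_mul, Subgroup.coe_mul, he0, he0, heL, eHom_val, eHom_val, liftC_val,
      ← mul_inv_eq_iff_eq_mul, siegel_conj y.1 hyp_e₀ (polar_e₀_emb _), hye, hyw, siegel_yconj hu (hU.1 w.2),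
      oExtend_siegel hu (huw _)]
    rfl
  have hyL : ∀ w : U₀, ρ y * ρ (eL (Multiplicative.ofAdd w)) = ρ (eL (Multiplicative.ofAdd w)) * ρ y := fun w => by
    rw [← map_mul, ← map_mul]
    congr 1
    refine Subtype.ext ?_
    rw [Subgroup.coe_mul, Subgroup.coe_mul, heL, liftC_val, oExtend_siegel hu (huw _), ← mul_inv_eq_iff_eq_mul,
      siegel_conj y.1 (by rw [hyp_emb, hu]) (by rw [polar_emb, huw]), hyu, hyw]
  set S : Module.End ℂ X := (Fintype.card U₀ : ℂ)⁻¹ •
    ∑ w, ρ (e0 (Multiplicative.ofAdd (φ w))) * ρ (eL (Multiplicative.ofAdd (-w))) with hS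
  have hyE : ρ y * E₀ = S * ρ y := by
    rw [hE₀, proj_zero_eq, hS, mul_smul_comm, smul_mul_assoc, Finset.mul_sum, Finset.sum_mul]
    congr 1
    exact Finset.sum_congr rfl fun w _ => by rw [← map_mul, ← map_mul, ← map_mul, hconj]
  have hE₀S : E₀ * S = PP := by
    rw [hS, hPP, hEL, proj_zero_eq ρ eL, mul_smul_comm, mul_smul_comm, Finset.mul_sum, Finset.mul_sum]
    congr 1
    refine Fintype.sum_equiv (Equiv.neg U₀) _ _ fun w => ?_
    rw [← mul_assoc, he0, hE₀abs]
    rfl
  have hSEL : S * EL = PP := by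
    rw [hS, hPP, hE₀, proj_zero_eq ρ e0, smul_mul_assoc, smul_mul_assoc, Finset.sum_mul, Finset.sum_mul]
    congr 1
    refine Fintype.sum_bijective φ hφ _ _ fun w => ?_
    rw [mul_assoc, hEL, rho_mul_proj_zero]
  have hyEL : ρ y * EL = EL * ρ y := by
    rw [hEL, proj_zero_eq, mul_smul_comm, smul_mul_assoc, Finset.mul_sum, Finset.sum_mul]
    congr 1
    exact Finset.sum_congr rfl fun w _ => hyL w
  have hyPP : ρ y * PP = PP * ρ y := by
    conv_lhs => rw [hPP]
    rw [← mul_assoc, hyE, mul_assoc, hyEL, ← mul_assoc, hSEL]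
  have hkey : LinearMap.trace ℂ X (ρ y * P) =
      (Fintype.card F : ℂ)⁻¹ * ∑ l, LinearMap.trace ℂ X (ρ (eA (Multiplicative.ofAdd l) * y) * PP) := by
    have h1 : LinearMap.trace ℂ X (ρ y * P) = LinearMap.trace ℂ X (P * ρ y * P) := by
      rw [LinearMap.trace_mul_comm ℂ (P * ρ y) P, ← mul_assoc, hP, proj_idem, ← hP, LinearMap.trace_mul_comm]
    have h2 : P * ρ y * P = A * (PP * ρ y) * A := by
      calc P * ρ y * P = A * E₀ * ρ y * (E₀ * A) := by rw [hsplit]; conv_lhs => arg 1; arg 1; rw [← hAE]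
        _ = A * (E₀ * (ρ y * E₀)) * A := by simp only [mul_assoc]
        _ = A * (PP * ρ y) * A := by rw [hyE, ← mul_assoc E₀, hE₀S]
    rw [h1, h2, LinearMap.trace_mul_comm, ← mul_assoc, hA, proj_idem, proj_zero_eq, smul_mul_assoc, Finset.sum_mul,
      map_smul, map_sum, smul_eq_mul]
    congr 1
    refine Finset.sum_congr rfl fun l _ => ?_
    rw [map_mul ρ, mul_assoc (ρ (eA (Multiplicative.ofAdd l))), hyPP]
  rw [hkey, mul_inv_cancel_left₀ (Nat.cast_ne_zero.2 Fintype.card_ne_zero)]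
  refine IsIntegral.sum _ fun l _ => isIntegral_trace_idem ρ hPPidem ?_
  rw [map_mul ρ, mul_assoc, hyPP, ← mul_assoc, hApp, mul_assoc]

end CfsgLib.MinDeg.OmOdd
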