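import Cfsg.Agent.MinDeg.OmegaOddInt

/-!
The induction for the minimal degree of `Ω_{2n+1}(q)`, `q > 3` odd.
-/

set_option autoImplicit false
set_option linter.style.haveILetI false

namespace CfsgLib.MinDeg.OmOdd

open QuadraticMap Module CfsgLib.Forms CfsgLib.Quad CfsgLib.MinDeg.Om
open scoped Classical

universe u v w

/-- The divisibility condition leaves no small degree. -/
theorem numeric {q D c J : ℤ} {k : ℕ} (hk : 1 ≤ k) (hq : 5 ≤ q) (hD : D = c + q ^ (2 * k + 2) - 1)
    (hlow : (q - 1) * q ^ (2 * k) ≤ q * c) (hc : k = 1 ∨ geom q (k + 1) ≤ c)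
    (heq : q * geom q (k + 2) * c = D * (q * c + q * geom q k - J)) : geom q (k + 2) ≤ D := by
  by_contra hlt
  push Not at hlt
  have hG := geom_mul q (k + 1)
  have hT2 : geom q (k + 2) = geom q (k + 1) + q ^ (2 * k + 2) := by
    show geom q (k + 1 + 1) = _
    rw [geom, show 2 * (k + 1) = 2 * k + 2 from rfl]
  rw [show 2 * (k + 1) = 2 * k + 2 from rfl] at hG
  set S := q ^ (2 * k + 2) with hS
  set G := geom q (k + 1) with hGdef
  have hSp : 0 < q ^ (2 * k) := pow_pos (by linarith) _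
  have hc0 : 0 < c := by
    by_contra h
    push Not at h
    nlinarith
  set e := G + 1 - c with he
  have he1 : 1 ≤ e := by omega
  have hK : D * (q * geom q k - J) = q * c * e := by
    have : geom q (k + 2) = D + e := by rw [hT2, hD, he]; ring
    rw [this] at heq
    linear_combination -heq
  have hD0 : 0 < D := by
    have : 0 < S := pow_pos (by linarith) _
    omega
  have hK1 : 1 ≤ q * geom q k - J := by
    by_contra h
    push Not at h
    have h1 : D * (q * geom q k - J) ≤ 0 := mul_nonpos_of_nonneg_of_nonpos hD0.le (by omega)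
    have h2 : 0 < q * c * e := mul_pos (mul_pos (by linarith) hc0) (by linarith)
    linarith
  rcases hc with rfl | hc
  · have hG2 : G = q ^ 2 + 1 := by
      simp only [hGdef, geom]
      ring
    have hS4 : S = q ^ 4 := by rw [hS]
    simp only [Nat.mul_one] at hlow
    have hclow : q ^ 2 - q ≤ c := by
      by_contra h
      push Not at h
      nlinarith
    have hcup : c ≤ q ^ 2 + 1 := by omega
    have hK2 : q * geom q 1 - J < 2 := by
      by_contra h
      push Not at h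
      have h1 : 2 * D ≤ D * (q * geom q 1 - J) := by nlinarith
      have h2 : q * c * e ≤ q * (q ^ 2 + 1) * (q + 2) := by
        have : e ≤ q + 2 := by omega
        exact mul_le_mul (mul_le_mul_of_nonneg_left hcup (by linarith)) this (by linarith)
          (by positivity)
      nlinarith
    have hKeq : q * geom q 1 - J = 1 := by omega
    rw [hKeq, mul_one] at hK
    set j := c * e - q ^ 3 with hj
    have hcj : c = q * j + 1 := by
      rw [hj]
      linear_combination hK - hD - hS4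
    have hjl : q - 1 ≤ j := by
      by_contra h
      push Not at h
      nlinarith [mul_le_mul_of_nonneg_left (show j ≤ q - 2 by omega) (show (0 : ℤ) ≤ q by linarith)]
    have hju : j ≤ q := by
      by_contra h
      push Not at h
      nlinarith [mul_le_mul_of_nonneg_left (show q + 1 ≤ j by omega) (show (0 : ℤ) ≤ q by linarith)]
    rcases (show j = q - 1 ∨ j = q by omega) with h | h
    · have hce : c * e = q ^ 3 + (q - 1) := by linarith [hj, h]
      rw [he, hG2, hcj, h] at hce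
      nlinarith
    · have hce : c * e = q ^ 3 + q := by linarith [hj, h]
      rw [he, hG2, hcj, h] at hce
      nlinarith
  · have hcG : c = G := by omega
    have he' : e = 1 := by omega
    rw [he', mul_one, hcG] at hK
    have h1 : D ≤ q * G := by
      calc D = D * 1 := (mul_one D).symm
        _ ≤ D * (q * geom q k - J) := mul_le_mul_of_nonneg_left hK1 hD0.le
        _ = q * G := hK
    have h2 : q * G < S := by
      have h3 : q ≤ q ^ 2 - 1 := by nlinarith
      have h4 : q * G ≤ (q ^ 2 - 1) * G := mul_le_mul_of_nonneg_right h3 (by omega)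
      linarith
    omega

variable {F : Type u} [Field F] [Fintype F] {W : Type v} [AddCommGroup W] [Module F W] [FiniteDimensional F W]
  {Q : QuadraticForm F W}

/-- The inductive step. -/
theorem step {k : ℕ} (hk : 1 ≤ k) (hgeo : OddGeo Q k) (hq : 5 ≤ Fintype.card F) (hsc : ∃ t : F, t ≠ 0 ∧ t * t ≠ 1)
    (hIH : k = 1 ∨ Bound (hypSum Q) (geom (Fintype.card F : ℤ) (k + 1))) {X : Type w} [AddCommGroup X] [Module ℂ X]
    [FiniteDimensional ℂ X] (ρ : Representation ℂ (OG (hypSum Q)) X) (hρ : ρ.IsIrreducible)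
    (h2X : 2 ≤ finrank ℂ X) : geom (Fintype.card F : ℤ) (k + 2) ≤ (finrank ℂ X : ℤ) := by
  haveI : Finite W := Module.finite_of_finite F
  haveI := Fintype.ofFinite W
  have hg : OddGeo (hypSum Q) (k + 1) := hgeo.hyp
  have hn : 4 ≤ finrank F ((F × F) × W) := by rw [hg.dim]; omega
  have hn5 : 5 ≤ finrank F ((F × F) × W) := by rw [hg.dim]; omega
  obtain ⟨ψ, hψ'⟩ := (AddChar.exists_apply_ne_zero (a := (1 : F))).2 one_ne_zero
  have hψ : ψ ≠ 0 := fun h => hψ' (by rw [h]; rfl)
  rcases dichotomy ρ ψ hψ hg hn (by omega) hq hsc hρ h2X with h | hsingle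
  · exact h
  obtain ⟨u, w, hu, hw, huw, hli⟩ := exists_ts_pair_hyp (show OddGeo Q (k - 1 + 1) from
    (show k - 1 + 1 = k by omega) ▸ hgeo)
  have hdim : finrank F ((F × F) × W) = 2 * k + 3 := by rw [hg.dim]; ring
  have hu0 : u ≠ 0 := hli.ne_zero 0
  set c := mult hg.nd hn ρ ψ 0 with hc
  set q : ℤ := (Fintype.card F : ℤ) with hqdef
  have hq5 : 5 ≤ q := by rw [hqdef]; exact_mod_cast hq
  have hdimX : (finrank ℂ X : ℤ) = c + q ^ (2 * k + 2) - 1 := by
    have h := dim_single hg.nd hn ρ ψ hψ 0 hsingle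
    have h' := card_singular_filter hg
    rw [← hqdef, show 2 * (k + 1) = 2 * k + 2 from rfl] at h'
    have h'' : (finrank ℂ X : ℤ) = (c : ℤ) +
        ((Finset.univ.filter fun v : (F × F) × W => v ≠ 0 ∧ (hypSum Q) v = 0).card : ℤ) := by
      apply Int.cast_injective (α := ℂ)
      simp only [Int.cast_add, Int.cast_natCast]
      convert h using 4 <;> first | rfl | (ext v; simp)
    convert h''.trans (congrArg ((c : ℤ) + ·) (Eq.trans ?_ h')) using 1
    · ring
    · congr! 3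
  have hlow := fixed_lower hg.nd hn ρ ψ hψ hsingle hu hw huw hli hdim hn5 hsc
  have hid := pairs_identity hg.nd hn ρ hρ hn5 hu hu0 (c := (c : ℂ))
    (τ := (finrank ℂ X : ℂ) - (Fintype.card F : ℂ) ^ (2 * k + 2)) (Y := (c : ℂ) - (Fintype.card F : ℂ) ^ (2 * k))
    (trace_proj_zero hg.nd hn ρ ψ) (tau_single hg.nd hn ρ ψ hψ 0 hsingle hu hw huw hli hdim)
    fun a b ha hb hab hl => trace_levi hg.nd hn ρ ψ hψ hsingle ha hb hab hl hdim hn5 hsc
  have hint := isIntegral_q_mul_trace hg.nd hn ρ hn5 hu hu0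
  set X₀ := LinearMap.trace ℂ X (ρ (yEl hg.nd hn hu) * proj ρ (eHom hg.nd hn) 0) with hX₀
  have hA : (Nat.card {p : TSPairs (hypSum (hypSum Q)) // IsLevi p} : ℂ) =
      ((q * (q * ((q ^ (2 * k + 2) - 1) * (q * (q ^ (2 * k) - 1)))) : ℤ) : ℂ) := by
    rw [← card_tsPairs hgeo, card_levi, hqdef]
    push_cast
    ring
  have hB : (Nat.card {p : TSPairs (hypSum (hypSum Q)) // IsRad p} : ℂ) =
      ((q * (q - 1) * (q + 1) * (q ^ (2 * k + 2) - 1) : ℤ) : ℂ) := by
    have h := card_rad (Q := (hypSum Q))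
    rw [card_singular hg, ← hqdef, show 2 * (k + 1) = 2 * k + 2 from rfl] at h
    exact_mod_cast congrArg (Int.cast (R := ℂ)) h
  have hN : (Nat.card (TSPairs (hypSum (hypSum Q))) : ℂ) =
      (((q ^ (2 * k + 4) - 1) * (q * (q ^ (2 * k + 2) - 1)) : ℤ) : ℂ) := by
    have h := card_tsPairs hg
    rw [← hqdef, show 2 * (k + 1) = 2 * k + 2 from rfl] at h
    exact_mod_cast congrArg (Int.cast (R := ℂ)) h
  rw [hA, hB, hN] at hid
  push_cast at hid
  set D := finrank ℂ X
  have hqC : (Fintype.card F : ℂ) = (q : ℂ) := by rw [hqdef]; push_cast; rfl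
  rw [hqC] at hid hint
  set S' : ℤ := q ^ (2 * k) with hS'
  have hpS : q ^ (2 * k + 2) = q ^ 2 * S' := by rw [hS']; ring
  have hS'pos : 0 < S' := pow_pos (by linarith) _
  have hD0 : (D : ℂ) ≠ 0 := Nat.cast_ne_zero.2 (by omega)
  have hS1 : (q : ℂ) * ((q : ℂ) ^ 2 * (S' : ℂ) - 1) ≠ 0 := by
    have : q * (q ^ 2 * S' - 1) ≠ 0 := mul_ne_zero (by linarith) (by nlinarith)
    exact_mod_cast this
  have heq : (D : ℂ) * ((q : ℂ) * ((q : ℂ) ^ 2 * S' - q ^ 2) * ((c : ℂ) - S') + (q : ℂ) * ((q : ℂ) ^ 2 - 1) * c +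
      ((q : ℂ) ^ 2 - 1) * ((q : ℂ) ^ 2 * S') * ((q : ℂ) * X₀)) =
      (q : ℂ) * ((q : ℂ) ^ 4 * S' - 1) * ((D : ℂ) - (q : ℂ) ^ 2 * S') * c := by
    refine mul_left_cancel₀ hS1 ?_
    rw [div_mul_eq_mul_div, eq_div_iff hD0] at hid
    rw [hS']
    push_cast
    linear_combination (q : ℂ) * hid
  set r : ℚ := ((q : ℚ) * ((q : ℚ) ^ 4 * S' - 1) * ((D : ℚ) - (q : ℚ) ^ 2 * S') * c / D -
      (q : ℚ) * ((q : ℚ) ^ 2 * S' - q ^ 2) * ((c : ℚ) - S') - (q : ℚ) * ((q : ℚ) ^ 2 - 1) * c) /
    (((q : ℚ) ^ 2 - 1) * ((q : ℚ) ^ 2 * S')) with hr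
  have hden : ((q : ℂ) ^ 2 - 1) * ((q : ℂ) ^ 2 * (S' : ℂ)) ≠ 0 := by
    have : (q ^ 2 - 1) * (q ^ 2 * S') ≠ 0 := mul_ne_zero (by nlinarith) (by positivity)
    exact_mod_cast this
  obtain ⟨J, hJ, -⟩ := CfsgLib.Char.exists_int_of_isIntegral_rat r hint (by
    rw [hr]
    push_cast
    rw [eq_div_iff hden, eq_sub_iff_add_eq, eq_sub_iff_add_eq, eq_div_iff hD0]
    linear_combination heq)
  rw [hJ] at heq
  have hZ : (D : ℤ) * (q * (q ^ 2 * S' - q ^ 2) * ((c : ℤ) - S') + q * (q ^ 2 - 1) * c +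
      (q ^ 2 - 1) * (q ^ 2 * S') * J) = q * (q ^ 4 * S' - 1) * ((D : ℤ) - q ^ 2 * S') * c := by
    apply Int.cast_injective (α := ℂ)
    push_cast
    exact heq
  refine numeric (c := (c : ℤ)) (J := J) hk hq5 hdimX hlow
    (hIH.imp_right fun h => fixed_ge_bound hg.nd hn ρ ψ hψ hsingle hu hw huw hli hdim hsc hn5 h) ?_
  have hne : (q ^ 2 - 1) * (q ^ 2 * S') ≠ 0 := mul_ne_zero (by nlinarith) (by positivity)
  refine mul_left_cancel₀ hne ?_
  have hT := geom_mul q (k + 2)
  have hT' := geom_mul q k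
  rw [← hS'] at hT'
  have hT4 : q ^ (2 * (k + 2)) = q ^ 4 * S' := by rw [hS']; ring
  rw [hT4] at hT
  linear_combination (q * c * (q ^ 2 * S')) * hT - ((D : ℤ) * q * (q ^ 2 * S')) * hT' + hZ

theorem exists_sq_ne_one' (hq : 5 ≤ Fintype.card F) : ∃ t : F, t ≠ 0 ∧ t * t ≠ 1 :=
  exists_sq_ne_one (by omega)

/-- The minimal degree of `Ω_{2n+1}`. -/
theorem bound_odd (h2 : (2 : F) ≠ 0) (hq : 5 ≤ Fintype.card F) : ∀ k : ℕ,
    Bound (oddQ (F := F) (k + 3)) (geom (Fintype.card F : ℤ) (k + 3)) := by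
  suffices h : ∀ k : ℕ, Bound (hypSum (hypSum (oddQ (F := F) (k + 1)))) (geom (Fintype.card F : ℤ) (k + 3)) by
    intro k
    refine Bound.congr ((oddSplit (F := F) (k + 2)).trans
      ((LinearEquiv.refl F (F × F)).prodCongr (oddSplit (F := F) (k + 1)))).symm (fun x => ?_) (h k)
    obtain ⟨y, rfl⟩ := ((oddSplit (F := F) (k + 2)).trans
      ((LinearEquiv.refl F (F × F)).prodCongr (oddSplit (F := F) (k + 1)))).surjective x
    rw [LinearEquiv.symm_apply_apply, ← oddSplit_apply, hypSum_apply _ (oddSplit (k + 2) y), ← oddSplit_apply]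
    rfl
  intro k
  induction k with
  | zero =>
    intro n ρ hρ hn
    have h := step le_rfl (oddGeo_oddQ h2 1) hq (exists_sq_ne_one' hq) (Or.inl rfl) ρ hρ
      (by rwa [Module.finrank_fin_fun])
    rwa [Module.finrank_fin_fun] at h
  | succ k ih =>
    intro n ρ hρ hn
    have hB : Bound (hypSum (oddQ (F := F) (k + 2))) (geom (Fintype.card F : ℤ) (k + 2 + 1)) :=
      Bound.congr ((LinearEquiv.refl F (F × F)).prodCongr (oddSplit (F := F) (k + 1)).symm) (fun x => by
        rw [hypSum_apply, hypSum_apply]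
        congr 1
        show oddQ (k + 2) ((oddSplit (k + 1)).symm x.2) = _
        rw [← oddSplit_apply, LinearEquiv.apply_symm_apply]) ih
    have h := step (k := k + 2) (by omega) (oddGeo_oddQ h2 (k + 2)) hq (exists_sq_ne_one' hq) (Or.inr hB) ρ hρ
      (by rwa [Module.finrank_fin_fun])
    rwa [Module.finrank_fin_fun] at h

end CfsgLib.MinDeg.OmOdd
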