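import Cfsg.Agent.MinDeg.OmegaOddWeight

/-!
The sum over root elements of `Ω(H ⊕ W)` composed with the projection to the fixed space of the radical.
-/

set_option autoImplicit false
set_option linter.style.haveILetI false

namespace CfsgLib.MinDeg.OmOdd

open QuadraticMap Module CfsgLib.Forms CfsgLib.Quad CfsgLib.MinDeg.Om
open scoped Classical

universe u v w

variable {F : Type u} [Field F] [Fintype F] {W : Type v} [AddCommGroup W] [Module F W]
  {Q : QuadraticForm F W}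

/-- A pair of the space `H ⊕ W` orthogonal to `e₀` with independent components in `W`. -/
def IsLevi (p : TSPairs (hypSum Q)) : Prop :=
  p.1.1.1.2 = 0 ∧ p.1.2.1.2 = 0 ∧ LinearIndependent F ![p.1.1.2, p.1.2.2]

/-- A pair of the space `H ⊕ W` orthogonal to `e₀` with dependent components in `W`. -/
def IsRad (p : TSPairs (hypSum Q)) : Prop :=
  p.1.1.1.2 = 0 ∧ p.1.2.1.2 = 0 ∧ ¬LinearIndependent F ![p.1.1.2, p.1.2.2]

omit [Fintype F] in
theorem perp_data (p : TSPairs (hypSum Q)) (ha : p.1.1.1.2 = 0) (hb : p.1.2.1.2 = 0) :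
    Q p.1.1.2 = 0 ∧ Q p.1.2.2 = 0 ∧ polar Q p.1.1.2 p.1.2.2 = 0 := by
  obtain ⟨h1, h2, h3, -⟩ := p.2
  refine ⟨by simpa [hypSum_apply, ha] using h1, by simpa [hypSum_apply, hb] using h2, ?_⟩
  simpa [hypSum_polar, ha, hb] using h3

theorem card_levi [Finite W] : Nat.card {p : TSPairs (hypSum Q) // IsLevi p} =
    Fintype.card F * (Fintype.card F * Nat.card (TSPairs Q)) := by
  rw [← Nat.card_eq_fintype_card (α := F), ← Nat.card_prod, ← Nat.card_prod]
  refine Nat.card_congr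
    { toFun := fun p => (p.1.1.1.1.1, p.1.1.2.1.1, ⟨(p.1.1.1.2, p.1.1.2.2),
        (perp_data p.1 p.2.1 p.2.2.1).1, (perp_data p.1 p.2.1 p.2.2.1).2.1, (perp_data p.1 p.2.1 p.2.2.1).2.2,
        p.2.2.2⟩)
      invFun := fun x => ⟨⟨(((x.1, 0), x.2.2.1.1), ((x.2.1, 0), x.2.2.1.2)), by simp [hypSum_apply, x.2.2.2.1],
        by simp [hypSum_apply, x.2.2.2.2.1], by simp [hypSum_polar, x.2.2.2.2.2.1],
        LinearIndependent.pair_iff.2 fun s t h => LinearIndependent.pair_iff.1 x.2.2.2.2.2.2 s t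
          (by simpa using congrArg Prod.snd h)⟩, rfl, rfl, x.2.2.2.2.2.2⟩
      left_inv := fun p => Subtype.ext (Subtype.ext (Prod.ext (Prod.ext (Prod.ext rfl p.2.1.symm) rfl)
        (Prod.ext (Prod.ext rfl p.2.2.1.symm) rfl)))
      right_inv := fun x => rfl }

theorem card_rad [Finite W] : (Nat.card {p : TSPairs (hypSum Q) // IsRad p} : ℤ) =
    (Fintype.card F : ℤ) * ((Fintype.card F : ℤ) - 1) * ((Fintype.card F : ℤ) + 1) *
      (Nat.card {v : W // Q v = 0 ∧ v ≠ 0} : ℤ) := by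
  let Z := {v : W // Q v = 0 ∧ v ≠ 0}
  let N := {x : F // x ≠ 0}
  let E : (N × F × Z) ⊕ (Z × F × F × N) → {p : TSPairs (hypSum Q) // IsRad p} := Sum.elim
    (fun x => ⟨⟨(((x.1.1, 0), 0), ((x.2.1, 0), x.2.2.1)), by simp [hypSum_apply], by simp [hypSum_apply, x.2.2.2.1],
      by simp [hypSum_polar], LinearIndependent.pair_iff.2 fun s t h => by
        have ht : t = 0 := (smul_eq_zero.1 (by simpa using congrArg Prod.snd h)).resolve_right x.2.2.2.2
        have hs : s * x.1.1 = 0 := by simpa [ht] using congrArg (fun y : (F × F) × W => y.1.1) h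
        exact ⟨(mul_eq_zero.1 hs).resolve_right x.1.2, ht⟩⟩, rfl, rfl, fun h => h.ne_zero 0 rfl⟩)
    (fun x => ⟨⟨(((x.2.1, 0), x.1.1), ((x.2.2.1 * x.2.1 + x.2.2.2.1, 0), x.2.2.1 • x.1.1)),
      by simp [hypSum_apply, x.1.2.1], by simp [hypSum_apply, quad_smul, x.1.2.1],
      by simp [hypSum_polar, polar_smul_right, QuadraticMap.polar_self, x.1.2.1],
      LinearIndependent.pair_iff.2 fun s t h => by
        have h1 : (s + t * x.2.2.1) • x.1.1 = 0 := by
          simpa [add_smul, smul_smul] using congrArg Prod.snd h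
        have h2 := (smul_eq_zero.1 h1).resolve_right x.1.2.2
        have h3 : s * x.2.1 + t * (x.2.2.1 * x.2.1 + x.2.2.2.1) = 0 := by
          simpa using congrArg (fun y : (F × F) × W => y.1.1) h
        have ht : t = 0 := (mul_eq_zero.1 (by linear_combination h3 - x.2.1 * h2 : t * x.2.2.2.1 = 0)).resolve_right
          x.2.2.2.2
        exact ⟨by linear_combination h2 - x.2.2.1 * ht, ht⟩⟩, rfl, rfl, fun h => by
      obtain ⟨-, h1⟩ := LinearIndependent.pair_iff.1 h x.2.2.1 (-1) (by simp)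
      exact one_ne_zero (neg_eq_zero.1 h1)⟩)
  have hinj : Function.Injective E := by
    rintro (⟨⟨α, hα⟩, β, ⟨b, hb⟩⟩ | ⟨⟨a, ha⟩, α, l, ⟨δ, hδ⟩⟩)
      (⟨⟨α', hα'⟩, β', ⟨b', hb'⟩⟩ | ⟨⟨a', ha'⟩, α', l', ⟨δ', hδ'⟩⟩) h <;>
      replace h := congrArg (fun p : {p : TSPairs (hypSum Q) // IsRad p} => p.1.1) h <;>
      simp only [E, Sum.elim_inl, Sum.elim_inr, Prod.mk.injEq, and_true] at h
    · obtain ⟨rfl, rfl, rfl⟩ := h
      rfl
    · exact absurd h.1.2.symm ha'.2
    · exact absurd h.1.2 ha.2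
    · obtain ⟨⟨rfl, rfl⟩, h1, h2⟩ := h
      obtain rfl := smul_left_injective F ha.2 h2
      obtain rfl := add_left_cancel h1
      rfl
  have hsurj : Function.Surjective E := by
    rintro ⟨⟨⟨⟨⟨α, a2⟩, a⟩, ⟨⟨β, b2⟩, b⟩⟩, hp⟩, ha2, hb2, hdep⟩
    change a2 = 0 at ha2
    change b2 = 0 at hb2
    subst ha2 hb2
    obtain ⟨hQa, hQb, -⟩ := perp_data ⟨_, hp⟩ rfl rfl
    have hli := hp.2.2.2
    by_cases ha : a = 0
    · subst ha
      have hα : α ≠ 0 := fun e => hli.ne_zero 0 (by simp [e])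
      have hb : b ≠ 0 := fun e => by
        have h := (LinearIndependent.pair_iff.1 hli β (-α) (by simp [e, mul_comm])).2
        exact hα (neg_eq_zero.1 h)
      exact ⟨Sum.inl (⟨α, hα⟩, β, ⟨b, hQb, hb⟩), rfl⟩
    · obtain ⟨l, rfl⟩ : ∃ l : F, l • a = b := by
        by_contra hne
        push Not at hne
        refine hdep (LinearIndependent.pair_iff.2 fun s t h => ?_)
        change s • a + t • b = 0 at h
        by_cases ht : t = 0
        · exact ⟨(smul_eq_zero.1 (by simpa [ht] using h)).resolve_right ha, ht⟩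
        · refine absurd ?_ (hne (-(t⁻¹ * s)))
          have h1 := congrArg (fun y => t⁻¹ • y) h
          simp only [smul_add, smul_smul, inv_mul_cancel₀ ht, one_smul, smul_zero] at h1
          rw [neg_smul, neg_eq_of_add_eq_zero_right h1]
      have hδ : β - l * α ≠ 0 := fun e => by
        have h := (LinearIndependent.pair_iff.1 hli l (-1) (by
          refine Prod.ext (Prod.ext ?_ ?_) ?_
          · simp; linear_combination -e
          · simp
          · simp)).2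
        exact one_ne_zero (neg_eq_zero.1 h)
      refine ⟨Sum.inr (⟨a, hQa, ha⟩, α, l, ⟨β - l * α, hδ⟩), Subtype.ext (Subtype.ext ?_)⟩
      simp [E]
  have hN : (Nat.card N : ℤ) = (Fintype.card F : ℤ) - 1 := by
    rw [Nat.card_eq_fintype_card, Fintype.card_subtype_compl, Fintype.card_subtype_eq]
    push_cast [Nat.cast_sub (Fintype.card_pos (α := F))]
    ring
  rw [← Nat.card_congr (Equiv.ofBijective E ⟨hinj, hsurj⟩), Nat.card_sum, Nat.card_prod, Nat.card_prod, Nat.card_prod,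
    Nat.card_prod, Nat.card_prod]
  push_cast
  rw [hN, Nat.card_eq_fintype_card (α := F)]
  ring

variable [FiniteDimensional F W] (hQ : (polarBilin Q).Nondegenerate) (hn : 4 ≤ finrank F W)

/-- The root element of a pair. -/
noncomputable def rootEl (p : TSPairs (hypSum Q)) : OG Q :=
  ⟨siegel (hypSum Q) p.1.1 p.1.2,
    siegel_mem_commutator (hypSum_nondeg hQ) (by rw [finrank_hyp]; omega) p.2.1 p.2.2.2.1⟩

theorem rootEl_val (p : TSPairs (hypSum Q)) : (rootEl hQ hn p).1 = siegel (hypSum Q) p.1.1 p.1.2 := rfl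

/-- The element outside the stabiliser used as representative. -/
noncomputable def yEl {u : W} (hu : Q u = 0) : OG Q :=
  ⟨siegel (hypSum Q) (emb u) f₀, siegel_mem_commutator (hypSum_nondeg hQ) (by rw [finrank_hyp]; omega)
    (by rw [hyp_emb, hu]) (by rw [polar_comm, polar_f₀_emb])⟩

omit [Fintype F] [FiniteDimensional F W] in
theorem siegel_levi {a b : W} (ha : Q a = 0) (hb : Q b = 0) (hab : polar Q a b = 0) (α β : F) :
    siegel (hypSum Q) (((α, 0), a) : (F × F) × W) ((β, 0), b) =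
      siegel (hypSum Q) (emb a) (emb b) * siegel (hypSum Q) e₀ (emb (α • b - β • a)) := by
  refine Subtype.ext (LinearEquiv.ext fun x => ?_)
  have h1 : hypSum Q ((α, 0), a) = 0 := by simp [hypSum_apply, ha]
  have h2 : polar (hypSum Q) (((α, 0), a) : (F × F) × W) ((β, 0), b) = 0 := by simp [hypSum_polar, hab]
  rw [oGroup_mul_apply, siegel_apply h1 h2, siegel_apply hyp_e₀ (polar_e₀_emb _),
    siegel_apply (by rw [hyp_emb, ha]) (by rw [polar_emb, hab])]
  have hz : Q (α • b - β • a) = 0 := by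
    rw [sub_eq_add_neg, ← neg_smul, quad_add, quad_smul, quad_smul, polar_smul_left, polar_smul_right, ha, hb,
      polar_comm (⇑Q) b a, hab]
    simp
  have h3 : hypSum Q ((β, 0), b) = 0 := by simp [hypSum_apply, hb]
  rw [hyp_emb, hyp_emb, hz, hb, h3]
  obtain ⟨⟨x1, x2⟩, x⟩ := x
  simp only [hypSum_polar, emb, e₀, polar_add_left, polar_sub_left, polar_smul_left, polar_sub_right,
    polar_smul_right, Prod.smul_mk, Prod.mk_add_mk, Prod.mk_sub_mk, smul_eq_mul, QuadraticMap.polar_self, ha, hb,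
    hab, polar_comm (⇑Q) b a, polar_zero_left, polar_zero_right, smul_zero, mul_zero, zero_mul, add_zero, zero_add,
    mul_one, one_mul, sub_zero, zero_smul, sub_self, Prod.fst_zero, Prod.snd_zero]
  refine Prod.ext (Prod.ext ?_ ?_) ?_
  · ring
  · ring
  · module

variable [Fintype W] {X : Type w} [AddCommGroup X] [Module ℂ X] [FiniteDimensional ℂ X]
  (ρ : Representation ℂ (OG Q) X)

theorem trace_rad {p : TSPairs (hypSum Q)} (hp : IsRad p) :
    LinearMap.trace ℂ X (ρ (rootEl hQ hn p) * proj ρ (eHom hQ hn) 0) =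
      LinearMap.trace ℂ X (proj ρ (eHom hQ hn) 0) := by
  obtain ⟨z, hz⟩ : ∃ z : W, rootEl hQ hn p = eHom hQ hn (Multiplicative.ofAdd z) := by
    obtain ⟨⟨⟨⟨⟨α, a2⟩, a⟩, ⟨⟨β, b2⟩, b⟩⟩, hp'⟩, rfl⟩ : ∃ p', p' = p := ⟨p, rfl⟩
    obtain ⟨rfl, rfl, hdep⟩ : a2 = 0 ∧ b2 = 0 ∧ ¬LinearIndependent F ![a, b] := hp
    obtain ⟨hQa, hQb, hab⟩ := perp_data ⟨_, hp'⟩ rfl rfl
    have hli := hp'.2.2.2
    by_cases ha : a = 0
    · subst ha
      refine ⟨α • b, Subtype.ext ?_⟩
      rw [rootEl_val, eHom_val, siegel_levi hQa hQb hab, smul_zero, sub_zero,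
        show siegel (hypSum Q) (emb (0 : W)) (emb b) = 1 from Subtype.ext (LinearEquiv.ext fun x => by
          rw [siegel_apply (by rw [hyp_emb, QuadraticMap.map_zero]) (by rw [polar_emb, hab])]
          simp [emb, hypSum_polar, hypSum_apply, hQb]), one_mul]
    · obtain ⟨l, rfl⟩ : ∃ l : F, l • a = b := by
        by_contra hne
        push Not at hne
        refine hdep (LinearIndependent.pair_iff.2 fun s t h => ?_)
        by_cases ht : t = 0
        · exact ⟨(smul_eq_zero.1 (by simpa [ht] using h)).resolve_right ha, ht⟩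
        · refine absurd ?_ (hne (-(t⁻¹ * s)))
          have h1 := congrArg (fun y => t⁻¹ • y) h
          simp only [smul_add, smul_smul, inv_mul_cancel₀ ht, one_smul, smul_zero] at h1
          rw [neg_smul, neg_eq_of_add_eq_zero_right h1]
      refine ⟨α • l • a - β • a, Subtype.ext ?_⟩
      rw [rootEl_val, eHom_val, siegel_levi hQa hQb hab,
        show siegel (hypSum Q) (emb a) (emb (l • a)) = 1 from Subtype.ext (LinearEquiv.ext fun x => by
          rw [siegel_apply (by rw [hyp_emb, hQa]) (by rw [polar_emb, hab])]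
          simp [emb, hypSum_polar, hypSum_apply, quad_smul, hQa, polar_smul_right, smul_smul, mul_comm l]), one_mul]
  rw [hz, rho_mul_proj_zero]

theorem trace_mid {u : W} (hu : Q u = 0) (hu0 : u ≠ 0) {p : TSPairs (hypSum Q)}
    (hp : ¬(p.1.1.1.2 = 0 ∧ p.1.2.1.2 = 0)) :
    LinearMap.trace ℂ X (ρ (rootEl hQ hn p) * proj ρ (eHom hQ hn) 0) =
      LinearMap.trace ℂ X (ρ (yEl hQ hn hu) * proj ρ (eHom hQ hn) 0) := by
  obtain ⟨⟨⟨a, b⟩, ha, hb, hab, hli⟩, rfl⟩ : ∃ p', p' = p := ⟨p, rfl⟩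
  change ¬(a.1.2 = 0 ∧ b.1.2 = 0) at hp
  set R := hypSum Q with hR
  obtain ⟨s, t, hst⟩ : ∃ s t : F, s * a.1.2 + t * b.1.2 = 1 := by
    by_cases h : a.1.2 = 0
    · exact ⟨0, (b.1.2)⁻¹, by rw [zero_mul, zero_add, inv_mul_cancel₀ fun e => hp ⟨h, e⟩]⟩
    · exact ⟨(a.1.2)⁻¹, 0, by rw [inv_mul_cancel₀ h, zero_mul, add_zero]⟩
  set a₁ := b.1.2 • a + (-a.1.2) • b with ha₁
  set b₁ := s • a + t • b with hb₁
  have hQ1 : ∀ x y : F, R (x • a + y • b) = 0 := fun x y => by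
    rw [quad_add, quad_smul, quad_smul, ha, hb, polar_smul_left, polar_smul_right, hab]
    simp
  have hp1 : polar R a₁ b₁ = 0 := polar_zero_pair a b ha hb hab _ _ _ _
  have ha12 : polar R e₀ a₁ = 0 := by
    simp [hR, ha₁, hypSum_polar, e₀]
    ring
  have hb12 : polar R e₀ b₁ = 1 := by
    simp [hR, hb₁, hypSum_polar, e₀]
    linear_combination hst
  have hroot : siegel R a b = siegel R a₁ b₁ := by
    rw [ha₁, hb₁, siegel_det ha hb hab, show b.1.2 * t - -a.1.2 * s = 1 by linear_combination hst, one_smul]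
  have hli1 : LinearIndependent F ![(e₀ : (F × F) × W), a₁] := LinearIndependent.pair_iff.2 fun x y h => by
    have hx := congrArg (fun z => polar R z b₁) h
    simp only [polar_add_left, polar_smul_left, hb12, hp1, polar_zero_left, smul_eq_mul, mul_one, mul_zero,
      add_zero] at hx
    rw [hx, zero_smul, zero_add] at h
    refine ⟨hx, (smul_eq_zero.1 h).resolve_right fun e => hp ?_⟩
    obtain ⟨e1, e2⟩ := LinearIndependent.pair_iff.1 hli _ _ e
    exact ⟨neg_eq_zero.1 e2, e1⟩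
  obtain ⟨k, hk, hke, hka⟩ := exists_map_pair hQ hn hli1 hyp_e₀ (hQ1 _ _) ha12 hu0 hu
  set b₂ := k.1 b₁ with hb₂
  have hb22 : b₂.1.2 = 1 := by
    have h := hb12
    rw [← polar_oGroup k, hke, ← hb₂] at h
    simpa [hR, hypSum_polar, e₀] using h
  have hub : polar Q u b₂.2 = 0 := by
    have h := hp1
    rw [← polar_oGroup k, hka, ← hb₂] at h
    simpa [hR, hypSum_polar, emb] using h
  have hb20 : b₂.1.1 + Q b₂.2 = 0 := by
    have h : R b₂ = 0 := (k.2 b₁).trans (hQ1 _ _)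
    simpa [hR, hypSum_apply, hb22] using h
  set g₀ := eHom hQ hn (Multiplicative.ofAdd b₂.2)
  have hg₀u : g₀.1.1 (emb u) = emb u := by
    rw [eHom_val, siegel_apply hyp_e₀ (polar_e₀_emb _), polar_comm (⇑(hypSum Q)) (emb u) e₀, polar_e₀_emb,
      polar_emb, hub]
    simp
  have hg₀e : g₀.1.1 e₀ = e₀ := by
    rw [eHom_val, siegel_apply hyp_e₀ (polar_e₀_emb _), QuadraticMap.polar_self, hyp_e₀, polar_e₀_emb]
    simp
  have hg₀f : g₀.1.1 f₀ = b₂ := by
    rw [eHom_val, siegel_apply hyp_e₀ (polar_e₀_emb _), polar_comm (⇑(hypSum Q)) f₀ e₀, hyp_ef, polar_f₀_emb, hyp_emb]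
    refine Prod.ext (Prod.ext ?_ ?_) ?_
    · simp [e₀, f₀, emb]
      linear_combination -hb20
    · simp [e₀, f₀, emb, hb22]
    · simp [e₀, f₀, emb]
  set g : OG Q := (⟨k, hk⟩ : OG Q)⁻¹ * g₀ with hg
  have happ : ∀ x, g.1.1 x = k.1.symm (g₀.1.1 x) := fun x => rfl
  have hge : g.1.1 e₀ = e₀ := by rw [happ, hg₀e, LinearEquiv.symm_apply_eq, hke]
  have hconj : rootEl hQ hn ⟨(a, b), ha, hb, hab, hli⟩ = g * yEl hQ hn hu * g⁻¹ := Subtype.ext (by
    rw [rootEl_val, hroot, Subgroup.coe_mul, Subgroup.coe_mul, Subgroup.coe_inv]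
    show siegel R a₁ b₁ = g.1 * siegel R (emb u) f₀ * g.1⁻¹
    rw [siegel_conj g.1 (by rw [hyp_emb, hu]) (by rw [polar_comm, polar_f₀_emb]), happ, happ, hg₀u, hg₀f,
      ← hka, hb₂, LinearEquiv.symm_apply_apply, LinearEquiv.symm_apply_apply])
  have hcomm := stab_comm hQ hn ρ (g := g⁻¹) (by
    show g.1.1.symm e₀ = e₀
    rw [LinearEquiv.symm_apply_eq, hge])
  rw [hconj, map_mul ρ, map_mul ρ, mul_assoc _ (ρ g⁻¹), hcomm, ← mul_assoc, LinearMap.trace_mul_comm, ← mul_assoc,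
    ← mul_assoc, ← map_mul ρ, inv_mul_cancel, map_one, one_mul]

theorem trace_isLevi {p : TSPairs (hypSum Q)} (hp : IsLevi p) (hn5 : 5 ≤ finrank F W) :
    LinearMap.trace ℂ X (ρ (rootEl hQ hn p) * proj ρ (eHom hQ hn) 0) =
      LinearMap.trace ℂ X (ρ (liftC Q ⟨siegel Q p.1.1.2 p.1.2.2, siegel_mem_commutator hQ hn5
        (perp_data p hp.1 hp.2.1).1 (perp_data p hp.1 hp.2.1).2.2⟩) * proj ρ (eHom hQ hn) 0) := by
  obtain ⟨⟨⟨⟨⟨α, a2⟩, a⟩, ⟨⟨β, b2⟩, b⟩⟩, hp'⟩, rfl⟩ : ∃ p', p' = p := ⟨p, rfl⟩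
  obtain ⟨rfl, rfl, -⟩ : a2 = 0 ∧ b2 = 0 ∧ LinearIndependent F ![a, b] := hp
  obtain ⟨hQa, hQb, hab⟩ := perp_data ⟨_, hp'⟩ rfl rfl
  have h : rootEl hQ hn ⟨_, hp'⟩ = liftC Q ⟨siegel Q a b, siegel_mem_commutator hQ hn5 hQa hab⟩ *
      eHom hQ hn (Multiplicative.ofAdd (α • b - β • a)) := Subtype.ext (by
    rw [rootEl_val, Subgroup.coe_mul, liftC_val, eHom_val, oExtend_siegel hQa hab]
    exact siegel_levi hQa hQb hab α β)
  rw [h, map_mul ρ, mul_assoc, rho_mul_proj_zero]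

/-- The class sum composed with the projection. -/
theorem pairs_identity (hρ : ρ.IsIrreducible) (hn5 : 5 ≤ finrank F W) {u : W} (hu : Q u = 0) (hu0 : u ≠ 0)
    {c τ Y : ℂ} (hc : LinearMap.trace ℂ X (proj ρ (eHom hQ hn) 0) = c)
    (hτ : LinearMap.trace ℂ X (ρ (eHom hQ hn (Multiplicative.ofAdd u))) = τ)
    (hY : ∀ a b : W, ∀ (ha : Q a = 0) (hb : Q b = 0) (hab : polar Q a b = 0), LinearIndependent F ![a, b] →
      LinearMap.trace ℂ X (ρ (liftC Q ⟨siegel Q a b, siegel_mem_commutator hQ hn5 ha hab⟩) *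
        proj ρ (eHom hQ hn) 0) = Y) :
    (Nat.card {p : TSPairs (hypSum Q) // IsLevi p} : ℂ) * Y + (Nat.card {p : TSPairs (hypSum Q) // IsRad p} : ℂ) * c +
      ((Nat.card (TSPairs (hypSum Q)) : ℂ) - (Nat.card {p : TSPairs (hypSum Q) // IsLevi p} : ℂ) -
        (Nat.card {p : TSPairs (hypSum Q) // IsRad p} : ℂ)) *
          LinearMap.trace ℂ X (ρ (yEl hQ hn hu) * proj ρ (eHom hQ hn) 0) =
      (Nat.card (TSPairs (hypSum Q)) : ℂ) * τ / (finrank ℂ X : ℂ) * c := by
  haveI := hρ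
  haveI := Fintype.ofFinite (TSPairs (hypSum Q))
  set P := proj ρ (eHom hQ hn) 0 with hP
  set Sm : Module.End ℂ X := ∑ p, ρ (rootEl hQ hn p) with hS
  have hcent : ∀ g, ρ g * Sm = Sm * ρ g := by
    intro g
    rw [hS, Finset.mul_sum, Finset.sum_mul]
    let T : TSPairs (hypSum Q) ≃ TSPairs (hypSum Q) :=
      Equiv.subtypeEquiv (g.1.1.toEquiv.prodCongr g.1.1.toEquiv) fun p => by
        show _ ↔ hypSum Q (g.1.1 p.1) = 0 ∧ hypSum Q (g.1.1 p.2) = 0 ∧ polar (hypSum Q) (g.1.1 p.1) (g.1.1 p.2) = 0 ∧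
          LinearIndependent F ![g.1.1 p.1, g.1.1 p.2]
        rw [g.1.2, g.1.2, polar_oGroup g.1]
        refine and_congr Iff.rfl (and_congr Iff.rfl (and_congr Iff.rfl ?_))
        rw [show (![g.1.1 p.1, g.1.1 p.2] : Fin 2 → (F × F) × W) = g.1.1.toLinearMap ∘ ![p.1, p.2] from
          funext fun i => by fin_cases i <;> rfl, g.1.1.toLinearMap.linearIndependent_iff (LinearEquiv.ker g.1.1)]
    refine Fintype.sum_equiv T _ _ fun p => ?_
    rw [← map_mul, ← map_mul]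
    congr 1
    refine Subtype.ext ?_
    rw [Subgroup.coe_mul, Subgroup.coe_mul, rootEl_val, rootEl_val, ← mul_inv_eq_iff_eq_mul]
    exact siegel_conj g.1 p.2.1 p.2.2.2.1
  have hscal := CfsgLib.Char.eq_smul_one_of_commute ρ Sm hcent
  have htrS : LinearMap.trace ℂ X Sm = (Nat.card (TSPairs (hypSum Q)) : ℂ) * τ := by
    rw [hS, map_sum, Finset.sum_congr rfl (g := fun _ => τ) fun p _ => ?_, Finset.sum_const, Finset.card_univ,
      nsmul_eq_mul, Nat.card_eq_fintype_card]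
    obtain ⟨k, hk, hka, hkb⟩ := exists_map_pair hQ hn p.2.2.2.2 p.2.1 p.2.2.1 p.2.2.2.1 hu0 hu
    rw [← hτ, show eHom hQ hn (Multiplicative.ofAdd u) = (⟨k, hk⟩ : OG Q) * rootEl hQ hn p * (⟨k, hk⟩ : OG Q)⁻¹ from
      Subtype.ext (by
        rw [eHom_val, Subgroup.coe_mul, Subgroup.coe_mul, Subgroup.coe_inv, rootEl_val,
          siegel_conj k p.2.1 p.2.2.2.1, hka, hkb])]
    exact (ρ.char_conj (rootEl hQ hn p) ⟨k, hk⟩).symm
  have key : LinearMap.trace ℂ X (Sm * P) = (Nat.card (TSPairs (hypSum Q)) : ℂ) * τ / (finrank ℂ X : ℂ) * c := by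
    rw [hscal, htrS, smul_mul_assoc, one_mul, map_smul, hc, smul_eq_mul]
  rw [← key, hS, Finset.sum_mul, map_sum,
    Finset.sum_congr rfl (g := fun p => LinearMap.trace ℂ X (ρ (yEl hQ hn hu) * P) +
      (if IsLevi p then Y - LinearMap.trace ℂ X (ρ (yEl hQ hn hu) * P) else 0) +
      (if IsRad p then c - LinearMap.trace ℂ X (ρ (yEl hQ hn hu) * P) else 0)) fun p _ => ?_,
    Finset.sum_add_distrib, Finset.sum_add_distrib, ← Finset.sum_filter, ← Finset.sum_filter,
    Finset.sum_const, Finset.sum_const, Finset.sum_const, nsmul_eq_mul, nsmul_eq_mul, nsmul_eq_mul,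
    Finset.card_univ, Nat.card_eq_fintype_card, Nat.card_eq_fintype_card, Nat.card_eq_fintype_card,
    Fintype.card_subtype, Fintype.card_subtype]
  · ring
  · by_cases hperp : p.1.1.1.2 = 0 ∧ p.1.2.1.2 = 0
    · by_cases hlin : LinearIndependent F ![p.1.1.2, p.1.2.2]
      · have h1 : IsLevi p := ⟨hperp.1, hperp.2, hlin⟩
        rw [if_pos h1, if_neg fun h => h.2.2 hlin, trace_isLevi hQ hn ρ h1 hn5,
          hY _ _ (perp_data p h1.1 h1.2.1).1 (perp_data p h1.1 h1.2.1).2.1 (perp_data p h1.1 h1.2.1).2.2 hlin]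
        ring
      · have h1 : IsRad p := ⟨hperp.1, hperp.2, hlin⟩
        rw [if_pos h1, if_neg fun h => hlin h.2.2, trace_rad hQ hn ρ h1, hc]
        ring
    · rw [if_neg fun h => hperp ⟨h.1, h.2.1⟩, if_neg fun h => hperp ⟨h.1, h.2.1⟩, add_zero, add_zero,
        trace_mid hQ hn ρ hu hu0 hperp]

end CfsgLib.MinDeg.OmOdd
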