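import Cfsg.Agent.MinDeg.OmegaOddGeo

/-!
The weights of the radical in small representations of `Ω_{2m+3}` and the trace of a Levi root element on the
fixed space of the radical.
-/

set_option autoImplicit false
set_option linter.style.haveILetI false

namespace CfsgLib.MinDeg.OmOdd

open QuadraticMap Module CfsgLib.Forms CfsgLib.Quad CfsgLib.MinDeg.Om
open scoped Classical

universe u v w

section general

variable {G : Type*} [Monoid G] {V : Type*} [AddCommGroup V] [Module ℂ V]
  (ρ : Representation ℂ G V) {X : Type*} [AddCommGroup X] [Fintype X] (e : Multiplicative X →* G)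

theorem proj_zero_eq : proj ρ e 0 = (Fintype.card X : ℂ)⁻¹ • ∑ x, ρ (e (Multiplicative.ofAdd x)) := by
  rw [proj]
  congr 1
  refine Finset.sum_congr rfl fun x _ => ?_
  rw [AddChar.zero_apply, one_smul]

theorem proj_idem (χ : AddChar X ℂ) : proj ρ e χ * proj ρ e χ = proj ρ e χ := by
  classical
  refine LinearMap.ext fun v => ?_
  rw [Module.End.mul_apply, proj_of_mem ρ e (proj_mem ρ e χ v), if_pos rfl]

theorem rho_mul_proj_zero (x : X) : ρ (e (Multiplicative.ofAdd x)) * proj ρ e 0 = proj ρ e 0 := by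
  refine LinearMap.ext fun v => ?_
  rw [Module.End.mul_apply, proj_mem ρ e 0 v x, AddChar.zero_apply, one_smul]

/-- An element normalizing a subgroup commutes with the projection to its fixed space. -/
theorem proj_zero_comm {g : G} (φ : X → X) (hb : Function.Bijective φ)
    (h : ∀ x, g * e (Multiplicative.ofAdd x) = e (Multiplicative.ofAdd (φ x)) * g) :
    ρ g * proj ρ e 0 = proj ρ e 0 * ρ g := by
  rw [proj_zero_eq, mul_smul_comm, smul_mul_assoc, Finset.mul_sum, Finset.sum_mul]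
  congr 1
  refine Fintype.sum_bijective φ hb _ _ fun x => ?_
  rw [← map_mul, ← map_mul, h]

theorem exists_trace_idem [FiniteDimensional ℂ V] {E : Module.End ℂ V} (hE : E * E = E) :
    ∃ r : ℕ, LinearMap.trace ℂ V E = (r : ℂ) :=
  ⟨finrank ℂ (LinearMap.range E), LinearMap.IsProj.trace ⟨fun v => LinearMap.mem_range_self E v, by
    rintro _ ⟨v, rfl⟩
    rw [← Module.End.mul_apply, hE]⟩⟩

end general

variable {F : Type u} [Field F] [Fintype F] {W : Type v} [AddCommGroup W] [Module F W] [FiniteDimensional F W]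
  {Q : QuadraticForm F W} (hQ : (polarBilin Q).Nondegenerate) (hn : 4 ≤ finrank F W)

omit [Fintype F] [FiniteDimensional F W] in
/-- The component in `W` of the image of an embedded vector under an element fixing `e₀`. -/
theorem stab_emb {g : oGroup (hypSum Q)} (hg : g.1 e₀ = e₀) (x : W) :
    g.1 (emb x) = emb (g.1 (emb x)).2 + (g.1 (emb x)).1.1 • e₀ := by
  have h1 : polar (hypSum Q) e₀ (g.1 (emb x)) = 0 := by
    conv_lhs => arg 2; rw [← hg]
    rw [polar_oGroup, polar_e₀_emb]
  have h2 : (g.1 (emb x)).1.2 = 0 := by simpa [hypSum_polar, e₀] using h1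
  generalize g.1 (emb x) = y at h2 ⊢
  refine Prod.ext (Prod.ext ?_ ?_) ?_ <;> simp [emb, e₀, h2]

theorem stab_conj {g : OG Q} (hg : g.1.1 e₀ = e₀) (x : W) :
    g * eHom hQ hn (Multiplicative.ofAdd x) =
      eHom hQ hn (Multiplicative.ofAdd (g.1.1 (emb x)).2) * g := by
  refine Subtype.ext ?_
  rw [Subgroup.coe_mul, Subgroup.coe_mul, eHom_val, eHom_val, ← mul_inv_eq_iff_eq_mul,
    siegel_conj g.1 hyp_e₀ (polar_e₀_emb x), hg]
  conv_lhs => rw [stab_emb hg x]
  rw [siegel_add_smul hyp_e₀ (polar_e₀_emb _)]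

omit [Fintype F] [FiniteDimensional F W] in
theorem stab_injective {g : oGroup (hypSum Q)} (hg : g.1 e₀ = e₀) :
    Function.Injective fun x : W => (g.1 (emb x)).2 := by
  intro x y h
  have h1 := stab_emb hg x
  have h2 := stab_emb hg y
  have h3 : g.1 (emb x - emb y) = g.1 (((g.1 (emb x)).1.1 - (g.1 (emb y)).1.1) • e₀) := by
    rw [map_smul, hg, map_sub, h1.trans (by rw [show (g.1 (emb x)).2 = (g.1 (emb y)).2 from h]), h2]
    simp [emb, e₀, sub_smul]
  have h4 := congrArg Prod.snd (g.1.injective h3)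
  simpa [emb, e₀, sub_eq_zero] using h4

variable [Fintype W] {X : Type w} [AddCommGroup X] [Module ℂ X] [FiniteDimensional ℂ X]
  (ρ : Representation ℂ (OG Q) X)

/-- The stabiliser of `e₀` commutes with the projection to the fixed space of the radical. -/
theorem stab_comm {g : OG Q} (hg : g.1.1 e₀ = e₀) :
    ρ g * proj ρ (eHom hQ hn) 0 = proj ρ (eHom hQ hn) 0 * ρ g :=
  proj_zero_comm ρ _ _ (Finite.injective_iff_bijective.1 (stab_injective hg)) (stab_conj hQ hn hg)

omit [Fintype W] in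
theorem liftC_fix (h : ↥(commutator (oGroup Q))) : (liftC Q h).1.1 e₀ = e₀ :=
  Prod.ext rfl (map_zero h.1.1)

variable (ψ : AddChar F ℂ)

theorem trace_proj_zero : LinearMap.trace ℂ X (proj ρ (eHom hQ hn) 0) = (mult hQ hn ρ ψ 0 : ℂ) := by
  rw [trace_proj, mult, chi_zero]

variable (hψ : ψ ≠ 0)
include hψ

theorem sum_le_dim (s : Finset W) {d : ℕ} (h : ∀ v ∈ s, d ≤ mult hQ hn ρ ψ v) : s.card * d ≤ finrank ℂ X := by
  rw [← sum_mult hQ hn ρ ψ hψ, ← smul_eq_mul]
  exact (Finset.card_nsmul_le_sum _ _ _ h).trans (Finset.sum_le_univ_sum_of_nonneg fun v => Nat.zero_le _)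

omit hQ hn in
/-- Either the degree is large or all non-trivial weights are simple and singular. -/
theorem dichotomy {m : ℕ} (hgeo : OddGeo Q m) (hn : 4 ≤ finrank F W) (hm : 2 ≤ m) (hq : 5 ≤ Fintype.card F)
    (hsc : ∃ t : F, t ≠ 0 ∧ t * t ≠ 1) (hρ : ρ.IsIrreducible) (h2X : 2 ≤ finrank ℂ X) :
    geom (Fintype.card F : ℤ) (m + 1) ≤ (finrank ℂ X : ℤ) ∨
      ∀ v, v ≠ 0 → mult hgeo.nd hn ρ ψ v = if Q v = 0 then 1 else 0 := by
  classical
  set q : ℤ := (Fintype.card F : ℤ) with hqdef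
  have hq5 : 5 ≤ q := by rw [hqdef]; exact_mod_cast hq
  set M := q ^ m with hM
  have hM2 : q ^ (2 * m) = M * M := by rw [hM, two_mul, pow_add]
  have hM25 : 25 ≤ M := by
    calc (25 : ℤ) ≤ q ^ 2 := by nlinarith
      _ ≤ M := pow_le_pow_right₀ (by omega) hm
  have hT : geom q (m + 1) = geom q m + M * M := by rw [geom, hM2]
  have hG := geom_mul q m
  rw [hM2] at hG
  have hg0 := geom_nonneg (q := q) (by omega) m
  have hg24 : 24 * geom q m ≤ M * M := by
    linarith [mul_le_mul_of_nonneg_left (show (24 : ℤ) ≤ q ^ 2 - 1 by nlinarith) hg0]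
  have hbound : geom q (m + 1) ≤ 2 * (M * M - M) := by rw [hT]; nlinarith
  have hlev : ∀ a : F, M * M - M ≤ ((Finset.univ.filter fun v : W => v ≠ 0 ∧ Q v = a).card : ℤ) := by
    intro a
    by_cases ha : a = 0
    · subst ha
      rw [card_singular_filter hgeo, ← hqdef, hM2]
      linarith
    · refine le_trans ?_ (le_of_eq (b := ((Finset.univ.filter fun v : W => v ≠ 0 ∧ Q v = a).card : ℤ)) rfl)
      have h1 := hgeo.level a ha
      rw [Nat.card_eq_fintype_card, Fintype.card_subtype, ← hqdef, hM2, ← hM] at h1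
      refine h1.trans (le_of_eq ?_)
      congr 2
      exact Finset.filter_congr fun v _ =>
        ⟨fun h => ⟨fun e => ha (by rw [← h, e, QuadraticMap.map_zero]), h⟩, fun h => h.2⟩
  obtain ⟨v, hv0, hv⟩ := exists_mult hgeo.nd hn ρ ψ hψ hρ h2X
  by_cases hne : ∃ w, w ≠ 0 ∧ Q w ≠ 0 ∧ 0 < mult hgeo.nd hn ρ ψ w
  · left
    obtain ⟨w, hw0, hwa, hw⟩ := hne
    obtain ⟨t, ht0, ht⟩ := hsc
    have htw : t • w ≠ 0 := smul_ne_zero ht0 hw0
    have hm2 : 0 < mult hgeo.nd hn ρ ψ (t • w) :=
      lt_of_lt_of_le hw (mult_scale hgeo.nd hn ρ ψ ht0 hw0 htw (quad_smul Q t w))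
    have hdis : Disjoint (Finset.univ.filter fun x : W => x ≠ 0 ∧ Q x = Q w)
        (Finset.univ.filter fun x : W => x ≠ 0 ∧ Q x = Q (t • w)) := by
      rw [Finset.disjoint_filter]
      rintro x - ⟨-, h1⟩ ⟨-, h2⟩
      refine ht (mul_right_cancel₀ hwa ?_)
      rw [one_mul, ← quad_smul, ← h2, h1]
    have h := sum_le_dim hgeo.nd hn ρ ψ hψ ((Finset.univ.filter fun x : W => x ≠ 0 ∧ Q x = Q w) ∪
      (Finset.univ.filter fun x : W => x ≠ 0 ∧ Q x = Q (t • w))) (d := 1) (fun x hx => by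
        simp only [Finset.mem_union, Finset.mem_filter, Finset.mem_univ, true_and] at hx
        rcases hx with ⟨hx0, hx⟩ | ⟨hx0, hx⟩
        · rw [mult_level hgeo.nd hn ρ ψ hx0 hw0 hx]; exact hw
        · rw [mult_level hgeo.nd hn ρ ψ hx0 htw hx]; exact hm2)
    rw [mul_one, Finset.card_union_of_disjoint hdis] at h
    have h' : ((Finset.univ.filter fun x : W => x ≠ 0 ∧ Q x = Q w).card : ℤ) +
        ((Finset.univ.filter fun x : W => x ≠ 0 ∧ Q x = Q (t • w)).card : ℤ) ≤ (finrank ℂ X : ℤ) := by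
      exact_mod_cast h
    linarith [hlev (Q w), hlev (Q (t • w))]
  push Not at hne
  have hv00 : Q v = 0 := by_contra fun h => by
    have := hne v hv0 h
    omega
  by_cases h2 : 2 ≤ mult hgeo.nd hn ρ ψ v
  · left
    have h := sum_le_dim hgeo.nd hn ρ ψ hψ (Finset.univ.filter fun x : W => x ≠ 0 ∧ Q x = 0) (d := 2) (fun x hx => by
      simp only [Finset.mem_filter, Finset.mem_univ, true_and] at hx
      rw [mult_level hgeo.nd hn ρ ψ hx.1 hv0 (hx.2.trans hv00.symm)]
      exact h2)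
    have h' : ((Finset.univ.filter fun x : W => x ≠ 0 ∧ Q x = 0).card : ℤ) * 2 ≤ (finrank ℂ X : ℤ) := by
      exact_mod_cast h
    linarith [hlev 0]
  · right
    intro x hx
    split_ifs with h
    · rw [mult_level hgeo.nd hn ρ ψ hx hv0 (h.trans hv00.symm)]
      omega
    · exact Nat.le_zero.1 (hne x hx h)

variable (hsingle : ∀ v, v ≠ 0 → mult hQ hn ρ ψ v = if Q v = 0 then 1 else 0) {u w : W} (hu : Q u = 0) (hw : Q w = 0)
  (huw : polar Q u w = 0) (hli : LinearIndependent F ![u, w]) {n : ℕ} (hdim : finrank F W = n + 3)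
  (hn5 : 5 ≤ finrank F W) (hsc : ∃ t : F, t ≠ 0 ∧ t * t ≠ 1)
include hsingle hu hw huw hli hdim hn5 hsc

/-- The trace of a Levi root element on the fixed space of the radical. -/
theorem trace_levi :
    LinearMap.trace ℂ X (ρ (liftC Q ⟨siegel Q u w, siegel_mem_commutator hQ hn5 hu huw⟩) *
        proj ρ (eHom hQ hn) 0) =
      (mult hQ hn ρ ψ 0 : ℂ) - (Fintype.card F : ℂ) ^ n := by
  classical
  have hu0 : u ≠ 0 := hli.ne_zero 0
  set h : oGroup Q := siegel Q u w with hh
  set g : OG Q := liftC Q ⟨h, siegel_mem_commutator hQ hn5 hu huw⟩ with hg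
  have hembli : LinearIndependent F ![(emb u : (F × F) × W), emb w] := by
    rw [LinearIndependent.pair_iff]
    intro s t hst
    exact LinearIndependent.pair_iff.1 hli s t (by simpa [emb] using congrArg Prod.snd hst)
  obtain ⟨k, hk, hka, hkb⟩ := exists_map_pair hQ hn hembli (by rw [hyp_emb, hu]) (by rw [hyp_emb, hw])
    (by rw [polar_emb, huw]) hu0 hu
  have hconj : (⟨k, hk⟩ : OG Q) * g * (⟨k, hk⟩ : OG Q)⁻¹ = eHom hQ hn (Multiplicative.ofAdd u) := Subtype.ext (by
    rw [Subgroup.coe_mul, Subgroup.coe_mul, Subgroup.coe_inv, eHom_val]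
    show k * oExtend Q (siegel Q u w) * k⁻¹ = _
    rw [oExtend_siegel hu huw,
      siegel_conj k (by rw [hyp_emb, hu]) (by rw [polar_emb, huw]), hka, hkb])
  have htr : LinearMap.trace ℂ X (ρ g) = LinearMap.trace ℂ X (ρ (eHom hQ hn (Multiplicative.ofAdd u))) := by
    rw [← hconj]
    exact (ρ.char_conj g ⟨k, hk⟩).symm
  have hfixv : ∀ v, h.1 v = v ↔ polar Q v u = 0 ∧ polar Q v w = 0 := by
    intro v
    rw [hh, siegel_apply hu huw, hw, zero_mul, add_zero]
    refine ⟨fun e => ?_, fun e => by rw [e.1, e.2]; simp⟩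
    have e' : (-polar Q v w) • u + polar Q v u • w = 0 := by
      rw [add_sub_assoc, add_eq_left] at e
      rw [neg_smul, neg_add_eq_sub, e]
    obtain ⟨e1, e2⟩ := LinearIndependent.pair_iff.1 hli _ _ e'
    exact ⟨e2, neg_eq_zero.1 e1⟩
  have hterm : ∀ v, v ≠ 0 → LinearMap.trace ℂ X (ρ g * proj ρ (eHom hQ hn) (chi Q ψ v)) =
      (mult hQ hn ρ ψ v : ℂ) * (if h.1 v = v then 1 else 0) := by
    intro v hv0
    split_ifs with hv
    · rw [mul_one]
      refine Eq.trans ?_ (trace_proj ρ (eHom hQ hn) (chi Q ψ v))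
      congr 1
      refine LinearMap.ext fun x => ?_
      rw [Module.End.mul_apply]
      by_cases hva : Q v = 0
      · exact line_id hQ hn ρ ψ 0 hsingle hu hw huw hli hn5 (Or.inr ⟨rfl, hn5, Or.inr hsc⟩) hv0 hva
          ((hfixv v).1 hv).1 ((hfixv v).1 hv).2 (proj_mem ρ _ _ x)
      · have h0 : weight ρ (eHom hQ hn) (chi Q ψ v) = ⊥ := by
          refine Submodule.finrank_eq_zero.1 ?_
          have := hsingle v hv0
          rwa [if_neg hva] at this
        have := proj_mem ρ (eHom hQ hn) (chi Q ψ v) x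
        rw [h0, Submodule.mem_bot] at this
        rw [this, map_zero]
    · rw [mul_zero]
      have h1 : ρ g * proj ρ (eHom hQ hn) (chi Q ψ v) =
          proj ρ (eHom hQ hn) (chi Q ψ (h.1 v)) * (ρ g * proj ρ (eHom hQ hn) (chi Q ψ v)) := by
        refine LinearMap.ext fun x => ?_
        have hm := mem_move hQ hn ρ ψ (g := g) (h := h) one_ne_zero
          (by rw [one_smul]; exact Prod.ext rfl (map_zero h.1)) (fun _ => rfl)
          (proj_mem ρ (eHom hQ hn) (chi Q ψ v) x)
        rw [inv_one, one_smul] at hm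
        rw [Module.End.mul_apply, Module.End.mul_apply, Module.End.mul_apply, proj_of_mem ρ _ hm, if_pos rfl]
      rw [h1, LinearMap.trace_mul_comm, mul_assoc, proj_mul_eq_zero hQ hn ρ
        (fun e => hv ((chi_bijective hQ ψ hψ).1 e).symm), mul_zero, map_zero]
  have hg' : LinearMap.trace ℂ X (ρ g) = LinearMap.trace ℂ X (ρ g * proj ρ (eHom hQ hn) 0) +
      ∑ v ∈ Finset.univ.filter (fun v => v ≠ 0 ∧ Q v = 0), (if h.1 v = v then (1 : ℂ) else 0) := by
    rw [trace_eq_sum hQ hn ρ ψ _ hψ, ← Finset.add_sum_erase _ _ (Finset.mem_univ (0 : W)), chi_zero,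
      show Finset.univ.filter (fun v : W => v ≠ 0 ∧ Q v = 0) = (Finset.univ.erase (0 : W)).filter (fun v => Q v = 0) from by
        ext v; simp, Finset.sum_filter]
    congr 1
    refine Finset.sum_congr rfl fun v hv => ?_
    rw [hterm v (Finset.mem_erase.1 hv).1, hsingle v (Finset.mem_erase.1 hv).1]
    split_ifs <;> simp
  rw [htr, tau_single hQ hn ρ ψ hψ 0 hsingle hu hw huw hli hdim, dim_single hQ hn ρ ψ hψ 0 hsingle] at hg'
  have hL := level_identities hQ hu hw huw hli hdim 0 ψ hψ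
  have h2 := sum_level (Q := Q) 0 fun _ : W => (1 : ℂ)
  have h3 := sum_level (Q := Q) 0 fun v : W => if h.1 v = v then (1 : ℂ) else 0
  simp only [Finset.sum_const, nsmul_eq_mul, mul_one, if_true] at h2
  rw [if_pos rfl, if_pos (map_zero h.1)] at h3
  have h4 : (∑ v ∈ Finset.univ.filter (fun v => Q v = 0), if h.1 v = v then (1 : ℂ) else 0) =
      (Nat.card {v // polar Q v u = 0 ∧ polar Q v w = 0 ∧ Q v = 0} : ℂ) := by
    rw [← Finset.sum_filter, Finset.sum_const, nsmul_eq_mul, mul_one, Finset.filter_filter, Nat.card_eq_fintype_card,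
      Fintype.card_subtype]
    congr 2
    exact Finset.filter_congr fun v _ => by rw [hfixv]; tauto
  linear_combination -hg' - h3 - h4 + h2 - hL.2 + hL.1

/-- The fixed space of the radical is not small. -/
theorem fixed_lower :
    ((Fintype.card F : ℤ) - 1) * (Fintype.card F : ℤ) ^ n ≤ (Fintype.card F : ℤ) * (mult hQ hn ρ ψ 0 : ℤ) := by
  classical
  let eA : Multiplicative F →* OG Q := MonoidHom.mk' (fun b => liftC Q ⟨siegel Q u (Multiplicative.toAdd b • w),
      siegel_mem_commutator hQ hn5 hu (by rw [polar_smul_right, huw, smul_zero])⟩) fun a b => by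
    rw [← map_mul]
    congr 1
    refine Subtype.ext ?_
    show siegel Q u _ = siegel Q u _ * siegel Q u _
    rw [siegel_mul hu (by rw [polar_smul_right, huw, smul_zero]) (by rw [polar_smul_right, huw, smul_zero]),
      toAdd_mul, add_smul]
  have hval : ∀ b : F, eA (Multiplicative.ofAdd b) = liftC Q ⟨siegel Q u (b • w),
      siegel_mem_commutator hQ hn5 hu (by rw [polar_smul_right, huw, smul_zero])⟩ := fun b => rfl
  set P := proj ρ (eHom hQ hn) 0 with hP
  have hcomm : proj ρ eA 0 * P = P * proj ρ eA 0 := by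
    rw [proj_zero_eq ρ eA, smul_mul_assoc, mul_smul_comm, Finset.sum_mul, Finset.mul_sum]
    congr 1
    exact Finset.sum_congr rfl fun b _ => stab_comm hQ hn ρ (liftC_fix _)
  have hidem : proj ρ eA 0 * P * (proj ρ eA 0 * P) = proj ρ eA 0 * P := by
    calc proj ρ eA 0 * P * (proj ρ eA 0 * P) = proj ρ eA 0 * (P * proj ρ eA 0) * P := by simp only [mul_assoc]
      _ = proj ρ eA 0 * proj ρ eA 0 * (P * P) := by rw [← hcomm]; simp only [mul_assoc]
      _ = proj ρ eA 0 * P := by rw [proj_idem, hP, proj_idem]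
  obtain ⟨r, hr⟩ := exists_trace_idem hidem
  have htr : ∀ b : F, LinearMap.trace ℂ X (ρ (eA (Multiplicative.ofAdd b)) * P) =
      (mult hQ hn ρ ψ 0 : ℂ) - if b = 0 then 0 else (Fintype.card F : ℂ) ^ n := by
    intro b
    split_ifs with hb
    · rw [hb, ofAdd_zero, map_one, map_one, one_mul, hP, trace_proj_zero hQ hn ρ ψ, sub_zero]
    · rw [hval]
      exact trace_levi hQ hn ρ ψ hψ hsingle hu (by rw [quad_smul, hw, mul_zero])
        (by rw [polar_smul_right, huw, smul_zero]) (by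
          have h := hli.units_smul ![1, Units.mk0 b hb]
          convert h using 1
          funext i
          fin_cases i <;> simp [Units.smul_def]) hdim hn5 hsc
  rw [proj_zero_eq ρ eA, smul_mul_assoc, Finset.sum_mul, map_smul, map_sum, Finset.sum_congr rfl fun b _ => htr b,
    Finset.sum_sub_distrib, Finset.sum_const, Finset.card_univ, nsmul_eq_mul,
    ← Finset.add_sum_erase _ _ (Finset.mem_univ (0 : F)), if_pos rfl, zero_add,
    Finset.sum_congr rfl (g := fun _ => (Fintype.card F : ℂ) ^ n) (fun b hb => if_neg (Finset.mem_erase.1 hb).1),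
    Finset.sum_const, Finset.card_erase_of_mem (Finset.mem_univ _), Finset.card_univ, nsmul_eq_mul,
    Nat.cast_sub Fintype.card_pos, Nat.cast_one, smul_eq_mul,
    inv_mul_eq_iff_eq_mul₀ (Nat.cast_ne_zero.2 Fintype.card_ne_zero)] at hr
  have h' : (Fintype.card F : ℤ) * (mult hQ hn ρ ψ 0 : ℤ) - ((Fintype.card F : ℤ) - 1) * (Fintype.card F : ℤ) ^ n =
      (Fintype.card F : ℤ) * (r : ℤ) := by
    apply Int.cast_injective (α := ℂ)
    push_cast
    exact hr
  have : (0 : ℤ) ≤ (Fintype.card F : ℤ) * (r : ℤ) := by positivity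
  linarith

omit hn5 in
/-- The Levi factor bounds the fixed space of the radical from below. -/
theorem fixed_ge_bound (hn5 : 5 ≤ finrank F W) {L : ℤ} (hIH : Bound Q L) : L ≤ (mult hQ hn ρ ψ 0 : ℤ) := by
  haveI : Finite W := Module.finite_of_finite F
  obtain ⟨h, y, hy, hne⟩ := exists_moved hQ hn ρ ψ hψ 0 hsingle hu hw huw hli hdim hn5
    (Or.inr ⟨rfl, hn5, Or.inr hsc⟩)
  have hinv : ∀ g, ∀ x ∈ weight ρ (eHom hQ hn) 0, ρ (liftC Q g) x ∈ weight ρ (eHom hQ hn) 0 := by
    intro g x hx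
    have h1 := mem_move hQ hn ρ ψ (g := liftC Q g) (h := g.1) (v := 0) one_ne_zero
      (by rw [one_smul]; exact Prod.ext rfl (map_zero g.1.1)) (fun _ => rfl) (by rwa [chi_zero])
    rwa [map_zero, smul_zero, chi_zero] at h1
  haveI : Finite (oGroup Q) := finite_oGroup Q
  obtain ⟨n', σ, hσ, h2n, hnle⟩ := exists_big_constituent (commutator_commutator_eq_top hQ hn5)
    (ρ.comp (liftC Q)) _ hinv ⟨h, y, hy, hne⟩
  refine (hIH n' σ hσ h2n).trans ?_
  rw [mult, chi_zero]
  exact_mod_cast hnle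

end CfsgLib.MinDeg.OmOdd
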