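import Cfsg.Agent.MinDeg.OmegaStep

/-!
The smallest case of the minus type over the field with two elements: six pseudo-reflections with a
non-singular Cartan matrix cannot act on five dimensions.
-/

set_option autoImplicit false
set_option linter.style.haveILetI false

namespace CfsgLib.MinDeg.Om

open QuadraticMap Module CfsgLib.Forms CfsgLib.Quad
open scoped Classical commutatorElement

universe u v w

/-- Three orthogonal pairs of pseudo-reflections of type `A₂` need six dimensions. -/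
theorem no_six {C : Type*} [AddCommGroup C] [Module ℂ C] [FiniteDimensional ℂ C] (hC : finrank ℂ C ≤ 5)
    (P : Fin 3 × Fin 2 → Module.End ℂ C) (hsq : ∀ p x, P p (P p x) = x)
    (hline : ∀ p, ∃ y : C, ∀ x, ∃ k : ℂ, x - P p x = k • y) (hne1 : ∀ p, P p ≠ 1) (hinj : Function.Injective P)
    (hcomm : ∀ p q, p.1 ≠ q.1 → ∀ x, P p (P q x) = P q (P p x))
    (hbraid : ∀ i x, P (i, 0) (P (i, 1) (P (i, 0) x)) = P (i, 1) (P (i, 0) (P (i, 1) x))) : False := by
  have hdata : ∀ p, ∃ (α : C) (f : Module.Dual ℂ C), α ≠ 0 ∧ f α = 2 ∧ ∀ x, P p x = x - f x • α := by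
    intro p
    obtain ⟨y, hy⟩ := hline p
    obtain ⟨z, hz⟩ : ∃ z, P p z ≠ z := by
      by_contra h
      push Not at h
      exact hne1 p (LinearMap.ext h)
    have hy0 : y ≠ 0 := fun e => hz (by
      obtain ⟨k, hk⟩ := hy z
      rw [e, smul_zero, sub_eq_zero] at hk
      exact hk.symm)
    obtain ⟨φ, hφ⟩ : ∃ φ : Module.Dual ℂ C, φ y ≠ 0 := by
      by_contra h
      push Not at h
      exact hy0 ((Module.forall_dual_apply_eq_zero_iff ℂ y).1 h)
    set f : Module.Dual ℂ C := (φ y)⁻¹ • φ.comp ((1 : Module.End ℂ C) - P p) with hf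
    have hform : ∀ x, P p x = x - f x • y := fun x => by
      obtain ⟨k, hk⟩ := hy x
      have hfx : f x = k := by
        rw [hf]
        simp only [LinearMap.smul_apply, LinearMap.comp_apply, LinearMap.sub_apply, Module.End.one_apply,
          smul_eq_mul, hk, map_smul]
        field_simp
      rw [hfx, ← hk, sub_sub_cancel]
    refine ⟨y, f, hy0, ?_, hform⟩
    have h := hsq p z
    rw [hform z, map_sub, map_smul, hform z, hform y] at h
    have h' : (f z * (f y - 2)) • y = 0 := by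
      have h2 := sub_eq_zero.2 h
      refine Eq.trans ?_ h2
      module
    refine sub_eq_zero.1 ((mul_eq_zero.1 ((smul_eq_zero.1 h').resolve_right hy0)).resolve_left fun e => hz ?_)
    rw [hform z, e, zero_smul, sub_zero]
  choose α f hα hfα hform using hdata
  have heq : ∀ p q, (∀ x, f p x • α p = f q x • α q) → p = q := fun p q h =>
    hinj (LinearMap.ext fun x => by rw [hform, hform, h])
  have horth : ∀ p q, p.1 ≠ q.1 → f p (α q) = 0 := by
    intro p q hpq
    by_contra hn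
    have h : ∀ x, (f q x * f p (α q)) • α p = (f p x * f q (α p)) • α q := fun x => by
      have h1 := sub_eq_zero.2 (hcomm p q hpq x)
      simp only [hform, map_sub, map_smul, smul_eq_mul, sub_smul, mul_smul] at h1
      rw [← sub_eq_zero]
      refine Eq.trans ?_ h1
      simp only [mul_smul]
      module
    set k := f q (α p) / 2 with hk
    have hαk : α p = k • α q := by
      refine smul_right_injective C (mul_ne_zero two_ne_zero hn) ?_
      show (2 * f p (α q)) • α p = (2 * f p (α q)) • k • α q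
      have h1 := h (α q)
      rw [hfα] at h1
      rw [h1, hk, smul_smul]
      congr 1
      ring
    have hk0 : k ≠ 0 := fun e => hα p (by rw [hαk, e, zero_smul])
    have hf' : ∀ x, f p x = f p (α q) / 2 * f q x := fun x => by
      have h1 := h x
      rw [show f q (α p) = 2 * k by rw [hk]; ring, hαk, smul_smul] at h1
      have h2 := smul_left_injective ℂ (hα q) h1
      refine mul_right_cancel₀ hk0 ?_
      linear_combination -(1 / 2 : ℂ) * h2
    have hone : f p (α q) / 2 * k = 1 := by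
      have h1 := hf' (α p)
      rw [hfα] at h1
      conv_rhs at h1 => rw [hαk, map_smul, hfα, smul_eq_mul]
      linear_combination -(1 / 2 : ℂ) * h1
    refine hpq (congrArg Prod.fst (heq p q fun x => ?_))
    rw [hf' x, hαk, smul_smul]
    congr 1
    linear_combination f q x * hone
  have hprod : ∀ i, f (i, 0) (α (i, 1)) * f (i, 1) (α (i, 0)) = 1 := by
    intro i
    by_contra hm
    have h01 : ((i, 0) : Fin 3 × Fin 2) ≠ (i, 1) := by simp
    refine h01 (heq _ _ fun x => ?_)
    have h1 := sub_eq_zero.2 (hbraid i x)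
    simp only [hform, map_sub, map_smul, smul_eq_mul, hfα] at h1
    refine smul_right_injective C (sub_ne_zero.2 (Ne.symm hm)) ?_
    rw [← sub_eq_zero]
    refine Eq.trans ?_ h1
    module
  have hli : LinearIndependent ℂ α := by
    rw [Fintype.linearIndependent_iff]
    intro g hg
    rw [Fintype.sum_prod_type] at hg
    simp only [Fin.sum_univ_three, Fin.sum_univ_two] at hg
    have hrow : ∀ i : Fin 3, 2 * g (i, 0) + f (i, 0) (α (i, 1)) * g (i, 1) = 0 ∧
        f (i, 1) (α (i, 0)) * g (i, 0) + 2 * g (i, 1) = 0 := fun i => by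
      constructor
      · have h := congrArg (f (i, 0)) hg
        fin_cases i <;> simp [map_add, map_smul, hfα, horth] at h ⊢ <;> linear_combination h
      · have h := congrArg (f (i, 1)) hg
        fin_cases i <;> simp [map_add, map_smul, hfα, horth] at h ⊢ <;> linear_combination h
    rintro ⟨i, j⟩
    obtain ⟨h0, h1⟩ := hrow i
    have h3 : g (i, 0) = 0 := by
      linear_combination (2 / 3 : ℂ) * h0 - (f (i, 0) (α (i, 1)) / 3) * h1 + (g (i, 0) / 3) * hprod i
    have h4 : g (i, 1) = 0 := by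
      linear_combination (2 / 3 : ℂ) * h1 - (f (i, 1) (α (i, 0)) / 3) * h0 + (g (i, 1) / 3) * hprod i
    fin_cases j
    · exact h3
    · exact h4
  have h6 := hli.fintype_card_le_finrank
  simp at h6
  omega

theorem rho_two {G : Type*} [Monoid G] {V : Type*} [AddCommGroup V] [Module ℂ V] (ρ : Representation ℂ G V)
    {a b c : G} (h : a * b = c) (x : V) : ρ a (ρ b x) = ρ c x := by
  rw [← h, map_mul, Module.End.mul_apply]

theorem rho_three {G : Type*} [Monoid G] {V : Type*} [AddCommGroup V] [Module ℂ V] (ρ : Representation ℂ G V)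
    {a b c d : G} (h : a * b * c = d) (x : V) : ρ a (ρ b (ρ c x)) = ρ d x := by
  rw [← h, map_mul, map_mul, Module.End.mul_apply, Module.End.mul_apply]

/-- Transport of projections. -/
theorem proj_move {G : Type*} [Monoid G] {V : Type*} [AddCommGroup V] [Module ℂ V] (ρ : Representation ℂ G V)
    {X : Type*} [AddCommGroup X] [Fintype X] (e : Multiplicative X →* G) (g : G) (φ : X ≃+ X)
    (hφ : ∀ x, g * e (Multiplicative.ofAdd x) = e (Multiplicative.ofAdd (φ x)) * g) {χ χ' : AddChar X ℂ}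
    (hχ : ∀ x, χ' (φ x) = χ x) (v : V) : proj ρ e χ' (ρ g v) = ρ g (proj ρ e χ v) := by
  rw [proj_apply, proj_apply, map_smul, map_sum]
  congr 1
  refine (Fintype.sum_equiv φ.toEquiv _ _ fun x => ?_).symm
  rw [map_smul, ← Module.End.mul_apply (ρ g), ← map_mul, hφ, map_mul, Module.End.mul_apply]
  congr 1
  rw [← hχ (-x), map_neg]
  rfl

variable {F : Type u} [Field F] [Fintype F]

section field

variable (hq : Fintype.card F = 2)
include hq

theorem two_cases (x : F) : x = 0 ∨ x = 1 := by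
  by_contra h
  push Not at h
  have := Finset.card_le_univ ({0, 1, x} : Finset F)
  rw [hq, Finset.card_insert_of_notMem (by simp [h.1.symm]), Finset.card_insert_of_notMem (by simp [h.2.symm]),
    Finset.card_singleton] at this
  omega

theorem two_add_self (x : F) : x + x = 0 := by
  rcases two_cases hq x with rfl | rfl
  · exact add_zero _
  · exact (two_cases hq ((1 : F) + 1)).resolve_right fun h => one_ne_zero (add_eq_left.1 h)

theorem two_neg (x : F) : -x = x := neg_eq_of_add_eq_zero_left (two_add_self hq x)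

end field

section general

variable {W : Type v} [AddCommGroup W] [Module F W] [FiniteDimensional F W] {Q : QuadraticForm F W}
  (hQ : (polarBilin Q).Nondegenerate) (hn : 5 ≤ finrank F W)
include hQ hn

/-- `Ω` is transitive on the non-zero vectors with a given value. -/
theorem exists_map_omega {v v' : W} (hv : v ≠ 0) (hv' : v' ≠ 0) (h : Q v = Q v') :
    ∃ g : ↥(commutator (oGroup Q)), g.1.1 v = v' := by
  obtain ⟨g₀, hg₀, hgv⟩ := quad_exists_map_family hQ ![v] ![v'] (LinearIndependent.of_subsingleton 0 hv)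
    (LinearIndependent.of_subsingleton 0 hv') (fun i => by fin_cases i; exact h)
    (fun i j => by fin_cases i; fin_cases j; simp [QuadraticMap.polar_self, h])
  obtain ⟨⟨a, ha, hQa⟩, h2⟩ := stab_data hQ (by omega) v'
  obtain ⟨k, hk, hkg⟩ := exists_fix_mul hQ (Or.inr (by omega)) ⟨g₀, hg₀⟩ (s := {v'})
    ⟨a, fun x hx => by rw [Set.mem_singleton_iff.1 hx, ha], hQa⟩ fun h' => by
      obtain ⟨b, c, hb, hc, hQb, hQc, hns⟩ := h2 h'
      exact ⟨b, c, fun x hx => by rw [Set.mem_singleton_iff.1 hx, hb],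
        fun x hx => by rw [Set.mem_singleton_iff.1 hx, hc], hQb, hQc, hns⟩
  refine ⟨⟨k * ⟨g₀, hg₀⟩, hkg⟩, ?_⟩
  show k.1 (g₀ v) = v'
  rw [show g₀ v = v' from hgv 0, hk v' rfl]

omit [Fintype F] hn in
/-- A product of two reflections with the same value. -/
theorem refl_mul_refl_mem [Finite F] (hgen : finrank F W ≠ 4) {d d' : W} (hd : Q d = 1) (hd' : Q d' = 1) :
    refl Q d * refl Q d' ∈ commutator (oGroup Q) := by
  have h := (reflProd_mem_commutator_iff hQ (Or.inr hgen) (vs := [d, d']) (by simp [hd, hd'])).2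
    ⟨by simp, by simp [hd, hd']⟩
  rwa [reflProd_cons, reflProd_cons, reflProd_nil, mul_one] at h

omit [Fintype F] [FiniteDimensional F W] hQ hn in
theorem oExtend_refl (d : W) : oExtend Q (refl Q d) = refl (hypSum Q) (emb d) :=
  Subtype.ext (LinearEquiv.ext fun x => by
    show (x.1, (refl Q d).1 x.2) = _
    rw [refl_apply, refl_apply, hyp_emb, hypSum_polar]
    simp [emb, Prod.ext_iff])

/-- The lift of a reflection into `Ω(H ⊕ W)`. -/
noncomputable def tw (d : {d : W // Q d = 1}) : OG Q :=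
  ⟨oExtend Q (refl Q d.1) * refl (hypSum Q) (e₀ + f₀), by
    rw [oExtend_refl]
    refine refl_mul_refl_mem (hypSum_nondeg hQ) (by rw [finrank_hyp]; omega) (by rw [hyp_emb]; exact d.2) ?_
    have h2 := quad_pair (hyp_e₀ (Q := Q)) hyp_f₀ hyp_ef (1 : F)
    rwa [one_smul] at h2⟩

omit hQ hn [Fintype F] [FiniteDimensional F W] in
theorem swap_comm (g : oGroup Q) :
    oExtend Q g * refl (hypSum Q) (e₀ + f₀) = refl (hypSum Q) (e₀ + f₀) * oExtend Q g := by
  have h := refl_conj (oExtend Q g) ((e₀ : (F × F) × W) + f₀)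
  rw [show (oExtend Q g).1 ((e₀ : (F × F) × W) + f₀) = e₀ + f₀ from
      Prod.ext rfl ((congrArg g.1 (add_zero (0 : W))).trans ((map_zero g.1).trans (add_zero (0 : W)).symm)),
    mul_inv_eq_iff_eq_mul] at h
  exact h

theorem tw_mul (d d' : {d : W // Q d = 1}) :
    tw hQ hn d * tw hQ hn d' = liftC Q ⟨refl Q d.1 * refl Q d'.1, refl_mul_refl_mem hQ (by omega) d.2 d'.2⟩ := by
  refine Subtype.ext ?_
  show oExtend Q (refl Q d.1) * refl (hypSum Q) (e₀ + f₀) * (oExtend Q (refl Q d'.1) * refl (hypSum Q) (e₀ + f₀)) =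
    oExtend Q (refl Q d.1 * refl Q d'.1)
  rw [map_mul, mul_assoc, ← mul_assoc (refl (hypSum Q) _), ← swap_comm, mul_assoc (oExtend Q (refl Q d'.1)),
    refl_mul_self, mul_one]

omit [Fintype F] in
/-- Reflections with the same action on a non-trivial module coincide. -/
theorem eq_of_trivial [Fintype F] (hq : Fintype.card F = 2) {Y : Type*} [AddCommGroup Y] [Module ℂ Y]
    (r : Representation ℂ ↥(commutator (oGroup Q)) Y) (hmove : ∃ g, r g ≠ 1) {d d' : W} (hd : Q d = 1) (hd' : Q d' = 1)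
    (htriv : r ⟨refl Q d * refl Q d', refl_mul_refl_mem hQ (by omega) hd hd'⟩ = 1) : d = d' := by
  haveI := isSimpleGroup_omega hQ hn
  set k : ↥(commutator (oGroup Q)) := ⟨refl Q d * refl Q d', refl_mul_refl_mem hQ (by omega) hd hd'⟩ with hk
  by_cases hkc : k ∈ Subgroup.center ↥(commutator (oGroup Q))
  swap
  · obtain ⟨g, hg⟩ := hmove
    exact absurd (rho_eq_one_of_not_central (commutator_commutator_eq_top hQ hn) r hkc htriv g) hg
  obtain ⟨c, hc1, hc⟩ := (center_iff hQ hn k).1 hkc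
  have h2 : ∀ x : F, x = 0 ∨ x = 1 := fun x => two_cases hq x
  obtain rfl : c = 1 := (h2 c).resolve_left fun h => by rw [h, mul_zero] at hc1; exact zero_ne_one hc1
  have hd0 : d ≠ 0 := fun e => one_ne_zero (by rw [← hd, e, QuadraticMap.map_zero])
  obtain ⟨x, hx⟩ := exists_polar_ne hQ hd0
  have h := congrArg (refl Q d).1 (hc x)
  rw [one_smul] at h
  have h' : (refl Q d').1 x = (refl Q d).1 x :=
    (congrArg (fun g : oGroup Q => g.1 ((refl Q d').1 x)) (refl_mul_self d)).symm.trans h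
  rw [refl_apply, refl_apply, hd, hd', polar_comm (⇑Q) x d, (h2 _).resolve_left hx] at h'
  have h3 := add_left_cancel h'
  rcases h2 (polar Q x d') with e | e <;> rw [e] at h3
  · simp at h3
    exact absurd h3 hd0
  · exact (smul_right_injective W (by simp) h3).symm

theorem tw_sq (d : {d : W // Q d = 1}) : tw hQ hn d * tw hQ hn d = 1 := by
  rw [tw_mul]
  refine Subtype.ext ?_
  show oExtend Q (refl Q d.1 * refl Q d.1) = 1
  rw [refl_mul_self, map_one]

theorem tw_conj (g : ↥(commutator (oGroup Q))) (d d' : {d : W // Q d = 1}) (h : g.1.1 d.1 = d'.1) :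
    liftC Q g * tw hQ hn d = tw hQ hn d' * liftC Q g := by
  refine Subtype.ext ?_
  show oExtend Q g.1 * (oExtend Q (refl Q d.1) * refl (hypSum Q) (e₀ + f₀)) =
    oExtend Q (refl Q d'.1) * refl (hypSum Q) (e₀ + f₀) * oExtend Q g.1
  rw [mul_assoc, ← swap_comm, ← mul_assoc, ← mul_assoc, ← map_mul, ← map_mul, ← h, ← refl_conj]
  simp

theorem tw_move (g : ↥(commutator (oGroup Q))) (d : {d : W // Q d = 1}) :
    liftC Q g * tw hQ hn d = tw hQ hn d *
      liftC Q ⟨refl Q d.1 * g.1 * (refl Q d.1)⁻¹, Subgroup.Normal.conj_mem inferInstance _ g.2 _⟩ := by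
  refine Subtype.ext ?_
  show oExtend Q g.1 * (oExtend Q (refl Q d.1) * refl (hypSum Q) (e₀ + f₀)) =
    oExtend Q (refl Q d.1) * refl (hypSum Q) (e₀ + f₀) * oExtend Q (refl Q d.1 * g.1 * (refl Q d.1)⁻¹)
  rw [mul_assoc (oExtend Q (refl Q d.1)), ← swap_comm, ← mul_assoc, ← mul_assoc, ← map_mul, ← map_mul, refl_inv,
    ← mul_assoc, ← mul_assoc, refl_mul_self, one_mul]

theorem tw_braid (d d' e : {d : W // Q d = 1}) (h : (refl Q d.1).1 d'.1 = e.1) :
    tw hQ hn d * tw hQ hn d' * tw hQ hn d = tw hQ hn e := by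
  rw [tw_mul]
  refine Subtype.ext ?_
  show oExtend Q (refl Q d.1 * refl Q d'.1) * (oExtend Q (refl Q d.1) * refl (hypSum Q) (e₀ + f₀)) =
    oExtend Q (refl Q e.1) * refl (hypSum Q) (e₀ + f₀)
  rw [← mul_assoc, ← map_mul, ← h, ← refl_conj, refl_inv]

theorem tw_commute (d d' : {d : W // Q d = 1}) (h : polar Q d'.1 d.1 = 0) :
    tw hQ hn d * tw hQ hn d' = tw hQ hn d' * tw hQ hn d := by
  rw [tw_mul, tw_mul]
  refine Subtype.ext (congrArg (oExtend Q) ?_)
  have h1 := refl_conj (refl Q d.1) d'.1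
  rwa [refl_fix h, mul_inv_eq_iff_eq_mul] at h1

end general

section two

variable (hq : Fintype.card F = 2)
include hq

variable {U : Type v} [AddCommGroup U] [Module F U] [FiniteDimensional F U] [Fintype U] {P : QuadraticForm F U}
  (hP : Geo P 2 (-1)) (hn4 : 4 ≤ finrank F U) (ψ : AddChar F ℂ) (hψ : ψ ≠ 0)
  {Y : Type w} [AddCommGroup Y] [Module ℂ Y] [FiniteDimensional ℂ Y] (r : Representation ℂ (OG P) Y)
include hP hψ

/-- The weights of the radical on a five dimensional module. -/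
theorem radical_free (hmove : ∃ g, r g ≠ 1) (h5 : finrank ℂ Y = 5) :
    mult hP.nd hn4 r ψ 0 = 0 ∧ ∀ v, v ≠ 0 → mult hP.nd hn4 r ψ v = if P v = 0 then 1 else 0 := by
  have hn' : 5 ≤ finrank F ((F × F) × U) := by rw [finrank_hyp]; omega
  obtain ⟨w, hw0, hw⟩ : ∃ w, w ≠ 0 ∧ 0 < mult hP.nd hn4 r ψ w := by
    by_contra hc
    push Not at hc
    haveI : Nontrivial U := Module.nontrivial_of_finrank_pos (R := F) (by omega)
    obtain ⟨x, hx⟩ := exists_ne (0 : U)
    haveI := isSimpleGroup_omega (hypSum_nondeg hP.nd) hn'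
    obtain ⟨g, hg⟩ := hmove
    refine hg (rho_eq_one_of_not_central (commutator_commutator_eq_top (hypSum_nondeg hP.nd) hn') r
      (a := eHom hP.nd hn4 (Multiplicative.ofAdd x)) ?_
      (rho_eq_one_of_weights r (eHom hP.nd hn4) (fun χ hχ => ?_) x) g)
    · rw [center_iff (hypSum_nondeg hP.nd) hn']
      rintro ⟨c, -, hc'⟩
      have h1 := congrArg Prod.snd (hc' f₀)
      rw [eHom_val, siegel_apply hyp_e₀ (polar_e₀_emb x), polar_comm (⇑(hypSum P)) f₀ e₀, hyp_ef] at h1
      simp [e₀, f₀, emb] at h1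
      exact hx h1
    · obtain ⟨v, rfl⟩ := (chi_bijective hP.nd ψ hψ).2 χ
      exact Submodule.finrank_eq_zero.1 (Nat.le_zero.1 (hc v fun e => hχ (by rw [e, chi_zero])))
  have hsum := sum_mult hP.nd hn4 r ψ hψ
  rw [h5] at hsum
  have hlev : ∀ v, v ≠ 0 → (mult hP.nd hn4 r ψ v : ℤ) * levelSize 2 (-1) (P v) ≤
      ∑ x ∈ Finset.univ.filter (fun x => x ≠ 0 ∧ P x = P v), (mult hP.nd hn4 r ψ x : ℤ) := fun v hv => by
    rw [Finset.sum_congr rfl (g := fun _ => (mult hP.nd hn4 r ψ v : ℤ)) fun x hx => ?_, Finset.sum_const,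
      nsmul_eq_mul, mul_comm, ← card_level hP (P v)]
    rw [Finset.mem_filter] at hx
    rw [mult_level hP.nd hn4 r ψ hx.2.1 hv hx.2.2]
  have hsz : ∀ c : F, levelSize (F := F) 2 (-1) c = if c = 0 then 5 else 10 := fun c => by
    simp only [levelSize, hq]
    split_ifs <;> norm_num
  have htot : ∀ s : Finset U, ∑ x ∈ s, (mult hP.nd hn4 r ψ x : ℤ) ≤ 5 := fun s => by
    refine (Finset.sum_le_univ_sum_of_nonneg fun x => Int.natCast_nonneg _).trans (le_of_eq ?_)
    exact_mod_cast hsum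
  have hbd : ∀ v, v ≠ 0 → (mult hP.nd hn4 r ψ v : ℤ) * levelSize 2 (-1) (P v) ≤ 5 := fun v hv =>
    (hlev v hv).trans (htot _)
  have hns : ∀ v, v ≠ 0 → P v ≠ 0 → mult hP.nd hn4 r ψ v = 0 := fun v hv hPv => by
    have := hbd v hv
    rw [hsz, if_neg hPv] at this
    omega
  have hw0' : P w = 0 := by
    by_contra h
    have := hns w hw0 h
    omega
  have hw1 : mult hP.nd hn4 r ψ w = 1 := by
    have := hbd w hw0
    rw [hw0', hsz, if_pos rfl] at this
    omega
  refine ⟨?_, fun v hv => ?_⟩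
  · have h1 := htot (insert 0 (Finset.univ.filter fun x => x ≠ 0 ∧ P x = P w))
    rw [Finset.sum_insert (by simp)] at h1
    have h2 := hlev w hw0
    rw [hw0', hsz, if_pos rfl, hw1] at h2
    rw [hw0'] at h1
    push_cast at h2
    omega
  · split_ifs with h
    · rw [mult_level hP.nd hn4 r ψ hv hw0 (h.trans hw0'.symm), hw1]
    · exact hns v hv h

omit hq in
/-- On an invariant line the radical acts trivially. -/
theorem radical_trivial_line (L : Submodule ℂ Y) (hL : finrank ℂ L = 1)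
    (he : ∀ u, ∀ x ∈ L, r (eHom hP.nd hn4 (Multiplicative.ofAdd u)) x ∈ L)
    (hh : ∀ h, ∀ x ∈ L, r (liftC P h) x ∈ L) (h2 : ∀ v : U, v ≠ 0 → ∃ h : ↥(commutator (oGroup P)), h.1.1 v ≠ v) :
    ∀ u, ∀ x ∈ L, r (eHom hP.nd hn4 (Multiplicative.ofAdd u)) x = x := by
  obtain ⟨⟨x₁, hx₁⟩, hx10, hspan⟩ := finrank_eq_one_iff'.1 hL
  have hx0 : x₁ ≠ 0 := fun e => hx10 (Subtype.ext e)
  have hline : ∀ x ∈ L, ∃ c : ℂ, x = c • x₁ := fun x hx => by
    obtain ⟨c, hc⟩ := hspan ⟨x, hx⟩
    exact ⟨c, (congrArg Subtype.val hc).symm⟩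
  choose c hc using fun u => hline _ (he u x₁ hx₁)
  let χ : AddChar U ℂ :=
    { toFun := c
      map_zero_eq_one' := smul_left_injective ℂ hx0 (by
        show c 0 • x₁ = (1 : ℂ) • x₁
        rw [← hc 0, ofAdd_zero, map_one, map_one, Module.End.one_apply, one_smul])
      map_add_eq_mul' := fun a b => smul_left_injective ℂ hx0 (by
        show c (a + b) • x₁ = (c a * c b) • x₁
        rw [← hc (a + b), ofAdd_add, map_mul, map_mul, Module.End.mul_apply, hc b, map_smul, hc a, smul_smul,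
          mul_comm]) }
  have hmem : x₁ ∈ weight r (eHom hP.nd hn4) χ := fun u => hc u
  obtain ⟨v, hv⟩ := (chi_bijective hP.nd ψ hψ).2 χ
  suffices hv0 : v = 0 by
    intro u x hx
    obtain ⟨k, rfl⟩ := hline x hx
    have h1 := hmem u
    rw [← hv, hv0, chi_zero, AddChar.zero_apply, one_smul] at h1
    rw [map_smul, h1]
  by_contra hv0
  obtain ⟨h, hne⟩ := h2 v hv0
  rw [← hv] at hmem
  have h1 := mem_move hP.nd hn4 r ψ (g := liftC P h) (h := h.1) one_ne_zero
    (by rw [one_smul]; exact Prod.ext rfl (map_zero h.1.1)) (fun _ => rfl) hmem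
  rw [inv_one, one_smul] at h1
  obtain ⟨k, hk⟩ := hline _ (hh h x₁ hx₁)
  have h3 : proj r (eHom hP.nd hn4) (chi P ψ v) (r (liftC P h) x₁) = r (liftC P h) x₁ := by
    rw [hk, map_smul, proj_of_mem r _ hmem, if_pos rfl]
  rw [proj_of_mem r _ h1, if_neg fun e => hne ((chi_bijective hP.nd ψ hψ).1 e)] at h3
  have h4 := congrArg (r (liftC P h)⁻¹) h3
  rw [map_zero, ← Module.End.mul_apply, ← map_mul, inv_mul_cancel, map_one] at h4
  exact hx0 h4.symm

omit hP hψ [FiniteDimensional F U] [Fintype U] in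
/-- A pair of reflections of order three moves what it sees. -/
theorem exists_moving (d d' v : U) (hd : P d = 1) (hd' : P d' = 1) (hdd : polar P d d' = 1)
    (hv : polar P v d ≠ 0 ∨ polar P v d' ≠ 0) : ∃ h : ↥(commutator (oGroup P)), h.1.1 v ≠ v := by
  refine ⟨⟨⁅refl P d, refl P d'⁆, Subgroup.commutator_mem_commutator (Subgroup.mem_top _) (Subgroup.mem_top _)⟩, fun h => ?_⟩
  have ht : ∀ e x, P e = 1 → (refl P e).1 x = x + polar P x e • e := fun e x he => by
    rw [refl_apply, he, inv_one, two_neg hq (1 : F), one_mul]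
  have h' : (refl P d).1 ((refl P d').1 ((refl P d).1 ((refl P d').1 v))) = v := by
    change (⁅refl P d, refl P d'⁆ : oGroup P).1 v = v at h
    rw [commutatorElement_def, refl_inv, refl_inv] at h
    exact h
  simp only [ht _ _ hd, ht _ _ hd'] at h'
  have hs : ∀ e, P e = 1 → polar P e e = 0 := fun e he => by
    rw [QuadraticMap.polar_self, he, two_nsmul, two_add_self hq]
  have h1 := congrArg (fun x => polar P x d) h'
  have h2 := congrArg (fun x => polar P x d') h'
  simp only [polar_add_left, polar_smul_left, smul_eq_mul, hs d hd, hs d' hd', hdd, polar_comm (⇑P) d' d] at h1 h2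
  rcases two_cases hq (polar P v d) with hx | hx <;> rcases two_cases hq (polar P v d') with hy | hy <;>
    simp [hx, hy, two_add_self hq] at h1 h2 hv

end two

omit [Fintype F] in
theorem ts_step {W : Type v} [AddCommGroup W] [Module F W] [FiniteDimensional F W] {Q : QuadraticForm F W} {k : ℕ}
    (h : ∀ U : Submodule F W, (∀ x ∈ U, Q x = 0) → finrank F U ≤ k) :
    ∀ U : Submodule F ((F × F) × W), (∀ x ∈ U, hypSum Q x = 0) → finrank F U ≤ k + 1 := by
  intro U hU
  let p : U →ₗ[F] F := ((LinearMap.fst F F F).comp (LinearMap.fst F (F × F) W)).comp U.subtype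
  let g : LinearMap.ker p →ₗ[F] W := (LinearMap.snd F (F × F) W).comp (U.subtype.comp (LinearMap.ker p).subtype)
  have hzero : ∀ x : LinearMap.ker p, x.1.1.1.1 = 0 := fun x => x.2
  have hr : finrank F (LinearMap.range g) ≤ k := h _ (by
    rintro _ ⟨x, rfl⟩
    have h1 := hU _ x.1.2
    rw [hypSum_apply, hzero x, zero_mul, zero_add] at h1
    exact h1)
  have h1 := p.finrank_range_add_finrank_ker
  have h2 := LinearMap.finrank_range_add_finrank_ker (V := ↥(LinearMap.ker p)) g
  by_cases hk : LinearMap.ker g = ⊥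
  · rw [hk, finrank_bot] at h2
    have h3 := Submodule.finrank_le (LinearMap.range p)
    rw [Module.finrank_self] at h3
    omega
  · obtain ⟨x, hx, hx0⟩ := Submodule.exists_mem_ne_zero_of_ne_bot hk
    have hxb : x.1.1.1.2 ≠ 0 := fun hb => hx0 (Subtype.ext (Subtype.ext (Prod.ext (Prod.ext (hzero x) hb) hx)))
    have hp : LinearMap.range p = ⊥ := by
      rw [LinearMap.range_eq_bot]
      refine LinearMap.ext fun y => ?_
      have h3 : polar (hypSum Q) y.1 x.1.1 = 0 := by
        rw [polar, hU _ (U.add_mem y.2 x.1.2), hU _ y.2, hU _ x.1.2]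
        ring
      have hx2 : x.1.1.2 = 0 := hx
      rw [hypSum_polar, hzero x, hx2, polar_zero_right] at h3
      show y.1.1.1 = 0
      simpa [hxb] using h3
    rw [hp, finrank_bot] at h1
    have h4 : finrank F (LinearMap.ker g) ≤ 1 := by
      let bc : LinearMap.ker g →ₗ[F] F := ((LinearMap.snd F F F).comp (LinearMap.fst F (F × F) W)).comp
        (U.subtype.comp ((LinearMap.ker p).subtype.comp (LinearMap.ker g).subtype))
      have hinj : Function.Injective bc := fun y z e => Subtype.ext (Subtype.ext (Subtype.ext (Prod.ext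
        (Prod.ext ((hzero y.1).trans (hzero z.1).symm) e) ((y.2 : g y.1 = 0).trans (z.2 : g z.1 = 0).symm))))
      have := LinearMap.finrank_le_finrank_of_injective hinj
      rwa [Module.finrank_self] at this
    omega

omit [Fintype F] in
theorem exists_moving_four [Fintype F] (hq : Fintype.card F = 2) {a b : F} (ha : a = 1) (hb : b = 1)
    {w : (F × F) × (F × F)} (hw : w ≠ 0) :
    ∃ h : ↥(commutator (oGroup (hypSum (planeQ a b)))), h.1.1 w ≠ w := by
  have h11 : (1 : F) + 1 = 0 := two_add_self hq 1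
  subst ha hb
  obtain ⟨⟨x, y⟩, ⟨z, z'⟩⟩ := w
  by_cases hz : z = 0 ∧ z' = 0
  · obtain ⟨rfl, rfl⟩ := hz
    refine exists_moving hq ((1, 1), (0, 0)) ((1, 0), (1, 0)) _ ?_ ?_ ?_ ?_
    any_goals simp [hypSum_apply, polar, planeQ_apply, h11]
    all_goals rcases two_cases hq x with rfl | rfl <;> rcases two_cases hq y with rfl | rfl <;>
      simp [h11, two_neg hq] at hw ⊢
  · refine exists_moving hq ((0, 0), (1, 0)) ((0, 0), (0, 1)) _ ?_ ?_ ?_ ?_
    any_goals simp [hypSum_apply, polar, planeQ_apply, h11]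
    all_goals rcases two_cases hq z with rfl | rfl <;> rcases two_cases hq z' with rfl | rfl <;>
      simp [h11, two_neg hq] at hz ⊢

set_option maxHeartbeats 4000000 in
/-- The exceptional configuration in degree `32` does not occur. -/
theorem special_false (hq : Fintype.card F = 2) {a b : F}
    (hab : ∀ z₁ z₂ : F, z₁ ^ 2 + a * z₁ * z₂ + b * z₂ ^ 2 = 0 → z₁ = 0 ∧ z₂ = 0)
    (hP : Geo (hypSum (planeQ a b)) 2 (-1)) {X : Type w} [AddCommGroup X] [Module ℂ X] [FiniteDimensional ℂ X]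
    (ρ : Representation ℂ (OG (hypSum (hypSum (planeQ a b)))) X) (hD : finrank ℂ X = 32)
    (hsingle : ∀ [Fintype ((F × F) × (F × F) × (F × F))] (hn : 4 ≤ finrank F ((F × F) × (F × F) × (F × F)))
      (ψ : AddChar F ℂ), ψ ≠ 0 → ∀ v, v ≠ 0 →
        mult hP.hyp.nd hn ρ ψ v = if hypSum (hypSum (planeQ a b)) v = 0 then 1 else 0) : False := by
  obtain ⟨ψ, hψ'⟩ := (AddChar.exists_apply_ne_zero (a := (1 : F))).2 one_ne_zero
  have hψ : ψ ≠ 0 := fun h => hψ' (by rw [h]; rfl)
  have hn4 : 4 ≤ finrank F ((F × F) × (F × F)) := le_of_eq hP.dim.symm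
  have hgeo : Geo (hypSum (hypSum (planeQ a b))) 3 (-1) := hP.hyp
  have hn5 : 5 ≤ finrank F ((F × F) × (F × F) × (F × F)) := by rw [hgeo.dim]; norm_num
  have hn : 4 ≤ finrank F ((F × F) × (F × F) × (F × F)) := by omega
  have hsingle' : ∀ v, v ≠ 0 → mult hgeo.nd hn ρ ψ v = if hypSum (hypSum (planeQ a b)) v = 0 then 1 else 0 :=
    hsingle hn ψ hψ
  obtain ⟨ha1, hb1⟩ : a = 1 ∧ b = 1 := by
    have hb : b = 1 := (two_cases hq b).resolve_left fun h =>
      one_ne_zero (hab 0 1 (by rw [h]; ring)).2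
    refine ⟨(two_cases hq a).resolve_left fun h => one_ne_zero (hab 1 1 (by
      rw [h, hb]; linear_combination two_add_self hq (1 : F))).1, hb⟩
  have h11 : (1 : F) + 1 = 0 := two_add_self hq 1
  have hts0 : ∀ S : Submodule F (F × F), (∀ x ∈ S, planeQ a b x = 0) → finrank F S ≤ 0 := fun S hS => by
    rw [show S = ⊥ from (Submodule.eq_bot_iff _).2 fun x hx => planeQ_eq_zero hab (hS x hx), finrank_bot]
  have hts1 := ts_step hts0
  have hts2 := ts_step hts1
  set C := weight ρ (eHom hgeo.nd hn) 0 with hCdef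
  have hC5 : finrank ℂ C = 5 := by
    have h := dim_single hgeo.nd hn ρ ψ hψ 0 hsingle'
    have h2 := card_level hgeo (0 : F)
    rw [levelSize, if_pos rfl, hq] at h2
    norm_num at h2
    rw [← Nat.cast_add, Nat.cast_inj, hD, mult, chi_zero, ← hCdef] at h
    have h3 : (Finset.univ.filter fun v : (F × F) × (F × F) × (F × F) =>
        v ≠ 0 ∧ hypSum (hypSum (planeQ a b)) v = 0).card + finrank ℂ C = 32 := by
      rw [add_comm]
      convert h.symm using 3
      ext; simp
    have h4 : ((Finset.univ.filter fun v : (F × F) × (F × F) × (F × F) =>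
        v ≠ 0 ∧ hypSum (hypSum (planeQ a b)) v = 0).card : ℤ) = 27 := by
      convert h2 using 4
    omega
  have hinv : ∀ g, ∀ x ∈ C, ρ (liftC _ g) x ∈ C := by
    intro g x hx
    have h1 := mem_move hgeo.nd hn ρ ψ (g := liftC _ g) (h := g.1) (v := 0) one_ne_zero
      (by rw [one_smul]; exact Prod.ext rfl (map_zero g.1.1)) (fun _ => rfl) (by rwa [chi_zero])
    rwa [map_zero, smul_zero, chi_zero] at h1
  obtain ⟨u₀, w₀, hu₀, hw₀, huw₀, hli₀⟩ := exists_ts_pair hgeo le_rfl
  obtain ⟨hg₀, y₀, hy₀, hne₀⟩ := exists_moved hgeo.nd hn ρ ψ hψ 0 hsingle' hu₀ hw₀ huw₀ hli₀ (n := 3)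
    (by rw [hgeo.dim]) hn5 (Or.inr ⟨rfl, by rw [hgeo.dim]; omega, Or.inl hts2⟩)
  let r : Representation ℂ (OG (hypSum (planeQ a b))) X := MonoidHom.comp ρ (liftC (hypSum (hypSum (planeQ a b))))
  let SC : Subrepresentation r := ⟨C, fun g x hx => hinv g x hx⟩
  let rC := SC.toRepresentation
  have hmoveC : ∃ g, rC g ≠ 1 :=
    ⟨hg₀, fun e => hne₀ (congrArg Subtype.val (LinearMap.congr_fun e (⟨y₀, hy₀⟩ : C)))⟩
  obtain ⟨hfree0, hfree⟩ := radical_free hq hP hn4 ψ hψ rC hmoveC hC5
  have hkey : ∀ x ∈ C, (∀ u, r (eHom hP.nd hn4 (Multiplicative.ofAdd u)) x = x) → x = 0 := by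
    intro x hx hfix
    have h1 : weight rC (eHom hP.nd hn4) (chi (hypSum (planeQ a b)) ψ 0) = ⊥ := Submodule.finrank_eq_zero.1 hfree0
    have h2 : (⟨x, hx⟩ : C) ∈ weight rC (eHom hP.nd hn4) (chi (hypSum (planeQ a b)) ψ 0) := fun u => Subtype.ext (by
      rw [chi_zero, AddChar.zero_apply, one_smul]
      exact hfix u)
    rw [h1] at h2
    exact congrArg Subtype.val ((Submodule.mem_bot ℂ).1 h2)
  have hPR : ∀ x ∈ C, proj r (eHom hP.nd hn4) 0 x = 0 := fun x hx => hkey _ (by
      rw [proj_apply]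
      exact C.smul_mem _ (C.sum_mem fun u _ => C.smul_mem _ (hinv _ x hx))) fun u => by
    rw [proj_mem r (eHom hP.nd hn4) 0 x u, AddChar.zero_apply, one_smul]
  let up : {d : (F × F) × (F × F) // hypSum (planeQ a b) d = 1} →
      {d : (F × F) × (F × F) × (F × F) // hypSum (hypSum (planeQ a b)) d = 1} :=
    fun d => ⟨emb d.1, by rw [hyp_emb, d.2]⟩
  have htwE : ∀ (d : {d : (F × F) × (F × F) // hypSum (planeQ a b) d = 1}) (u : (F × F) × (F × F)),
      tw hgeo.nd hn5 (up d) * liftC _ (eHom hP.nd hn4 (Multiplicative.ofAdd u)) =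
        liftC _ (eHom hP.nd hn4 (Multiplicative.ofAdd ((refl (hypSum (planeQ a b)) d.1).1 u))) *
          tw hgeo.nd hn5 (up d) := by
    intro d u
    rw [tw_move]
    congr 1
    refine congrArg (liftC _) (Subtype.ext ?_)
    show (eHom hP.nd hn4 (Multiplicative.ofAdd u)).1 = refl _ (emb d.1) * siegel _ e₀ _ * (refl _ (emb d.1))⁻¹
    rw [siegel_conj _ hyp_e₀ (polar_e₀_emb _), refl_fix (polar_e₀_emb d.1), eHom_val]
    congr 1
    rw [← oExtend_refl]
    exact congrArg emb (congrArg (fun g : oGroup _ => g.1 u) (refl_mul_self d.1)).symm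
  let d₀ : {d : (F × F) × (F × F) // hypSum (planeQ a b) d = 1} :=
    ⟨((1, 1), 0), by simp [hypSum_apply, QuadraticMap.map_zero]⟩
  let E : (F × F) × (F × F) × (F × F) := e₀
  have hE0 : E ≠ 0 := fun e => one_ne_zero (congrArg (fun p : (F × F) × (F × F) × (F × F) => p.1.1) e)
  have hCe : ∀ x ∈ C, ρ (tw hgeo.nd hn5 (up d₀)) x ∈ C := by
    intro x hx
    set y := ρ (tw hgeo.nd hn5 (up d₀)) x with hy
    suffices hz : ∀ v, v ≠ 0 → proj ρ (eHom hgeo.nd hn) (chi (hypSum (hypSum (planeQ a b))) ψ v) y = 0 by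
      have h1 := sum_proj ρ (eHom hgeo.nd hn) y
      rw [← Function.Bijective.sum_comp (chi_bijective hgeo.nd ψ hψ) fun χ => proj ρ (eHom hgeo.nd hn) χ y,
        Finset.sum_eq_single (0 : (F × F) × (F × F) × (F × F)) (fun v _ hv => hz v hv) (by simp)] at h1
      rw [← h1, hCdef, ← chi_zero (Q := hypSum (hypSum (planeQ a b))) ψ]
      exact proj_mem _ _ _ _
    intro v hv
    by_cases hv0 : hypSum (hypSum (planeQ a b)) v = 0
    swap
    · have h0 := hsingle' v hv
      rw [if_neg hv0] at h0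
      have h1 := proj_mem ρ (eHom hgeo.nd hn) (chi (hypSum (hypSum (planeQ a b))) ψ v) y
      rw [Submodule.finrank_eq_zero.1 h0] at h1
      exact (Submodule.mem_bot ℂ).1 h1
    obtain ⟨g, hg⟩ := exists_map_omega hgeo.nd hn5 hv hE0 (hv0.trans hyp_e₀.symm)
    have hmoveW : ∀ (k : ↥(commutator (oGroup (hypSum (hypSum (planeQ a b)))))) (s : (F × F) × (F × F) × (F × F))
        (z : X), proj ρ (eHom hgeo.nd hn) (chi (hypSum (hypSum (planeQ a b))) ψ (k.1.1 s)) (ρ (liftC _ k) z) =
          ρ (liftC _ k) (proj ρ (eHom hgeo.nd hn) (chi (hypSum (hypSum (planeQ a b))) ψ s) z) := by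
      intro k s z
      refine proj_move ρ _ _ k.1.1.toAddEquiv (fun u => ?_) (fun u => ?_) z
      · have h := eHom_move hgeo.nd hn (g := liftC _ k) (h := k.1) one_ne_zero
          (by rw [one_smul]; exact Prod.ext rfl (map_zero k.1.1)) (fun _ => rfl) (k.1.1 u)
        rw [inv_one, one_smul, LinearEquiv.symm_apply_apply] at h
        exact h.symm
      · show ψ (polar _ (k.1.1 u) (k.1.1 s)) = _
        rw [polar_oGroup]
        rfl
    obtain ⟨g', hgg⟩ : ∃ g', liftC _ g * tw hgeo.nd hn5 (up d₀) = tw hgeo.nd hn5 (up d₀) * liftC _ g' :=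
      ⟨_, tw_move hgeo.nd hn5 g (up d₀)⟩
    set z := ρ (liftC _ g) y with hz
    have hz' : z = ρ (tw hgeo.nd hn5 (up d₀)) (ρ (liftC _ g') x) := by
      rw [hz, hy, ← Module.End.mul_apply, ← map_mul, hgg, map_mul, Module.End.mul_apply]
    have hPRz : proj r (eHom hP.nd hn4) 0 z = 0 := by
      rw [hz']
      refine (proj_move ρ (MonoidHom.comp (liftC _) (eHom hP.nd hn4)) _ (refl _ d₀.1).1.toAddEquiv (htwE d₀)
        (χ := 0) (χ' := 0) (fun _ => rfl) _).trans ?_
      rw [show proj ρ (MonoidHom.comp (liftC _) (eHom hP.nd hn4)) 0 (ρ (liftC _ g') x) = 0 from hPR _ (hinv g' x hx),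
        map_zero]
    set p := proj ρ (eHom hgeo.nd hn) (chi (hypSum (hypSum (planeQ a b))) ψ E) z with hp
    have hfixE : ∀ u, (eHom hP.nd hn4 (Multiplicative.ofAdd u)).1.1 E = E := fun u => by
      rw [eHom_val, siegel_apply hyp_e₀ (polar_e₀_emb u), QuadraticMap.polar_self, hyp_e₀, polar_e₀_emb]
      simp
    have hcommE : ∀ u, proj ρ (eHom hgeo.nd hn) (chi (hypSum (hypSum (planeQ a b))) ψ E) (r (eHom hP.nd hn4 (Multiplicative.ofAdd u)) z) =
        r (eHom hP.nd hn4 (Multiplicative.ofAdd u)) p := fun u => by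
      have h := hmoveW (eHom hP.nd hn4 (Multiplicative.ofAdd u)) E z
      rw [hfixE u] at h
      exact h
    have hL1 : finrank ℂ (weight ρ (eHom hgeo.nd hn) (chi (hypSum (hypSum (planeQ a b))) ψ E)) = 1 := by
      have h := hsingle' E hE0
      rwa [if_pos hyp_e₀] at h
    have hstab : ∀ k : ↥(commutator (oGroup (hypSum (hypSum (planeQ a b))))), k.1.1 E = E →
        ∀ z ∈ weight ρ (eHom hgeo.nd hn) (chi (hypSum (hypSum (planeQ a b))) ψ E), r k z ∈ weight ρ (eHom hgeo.nd hn) (chi (hypSum (hypSum (planeQ a b))) ψ E) := by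
      intro k hk z hz
      have h1 := mem_move hgeo.nd hn ρ ψ (g := liftC _ k) (h := k.1) one_ne_zero
        (by rw [one_smul]; exact Prod.ext rfl (map_zero k.1.1)) (fun _ => rfl) hz
      rwa [hk, inv_one, one_smul] at h1
    have hp1 : ∀ u, r (eHom hP.nd hn4 (Multiplicative.ofAdd u)) p = p := fun u => by
      refine radical_trivial_line hP hn4 ψ hψ r _ hL1 (fun u => hstab _ (hfixE u))
        (fun h => hstab _ (Prod.ext rfl (map_zero h.1.1))) (fun w hw => exists_moving_four hq ha1 hb1 hw) u p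
        (proj_mem _ _ _ _)
    have hp0 : p = 0 := by
      have h1 : proj r (eHom hP.nd hn4) 0 p = p := by
        rw [proj_of_mem r (eHom hP.nd hn4) (χ' := 0) fun u => by rw [hp1 u, AddChar.zero_apply, one_smul], if_pos rfl]
      rw [← h1]
      have h2 : proj r (eHom hP.nd hn4) 0 p =
          proj ρ (eHom hgeo.nd hn) (chi (hypSum (hypSum (planeQ a b))) ψ E) (proj r (eHom hP.nd hn4) 0 z) := by
        rw [proj_apply r, proj_apply r, map_smul, map_sum]
        congr 1
        exact Finset.sum_congr rfl fun u _ => by rw [map_smul, hcommE u]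
      rw [h2, hPRz, map_zero]
    have h4 : ρ (liftC _ g) (proj ρ (eHom hgeo.nd hn) (chi (hypSum (hypSum (planeQ a b))) ψ v) y) = 0 := by
      rw [← hmoveW g v y, hg]
      exact hp0
    have h5 := congrArg (ρ (liftC _ g)⁻¹) h4
    rwa [map_zero, ← Module.End.mul_apply, ← map_mul, inv_mul_cancel, map_one] at h5
  have hCall : ∀ d, ∀ x ∈ C, ρ (tw hgeo.nd hn5 d) x ∈ C := by
    intro d x hx
    have h1 : tw hgeo.nd hn5 d = tw hgeo.nd hn5 (up d₀) * (tw hgeo.nd hn5 (up d₀) * tw hgeo.nd hn5 d) := by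
      rw [← mul_assoc, tw_sq, one_mul]
    rw [h1, tw_mul, map_mul, Module.End.mul_apply]
    exact hCe _ (hinv _ x hx)
  let B : {d // hypSum (hypSum (planeQ a b)) d = 1} → Module.End ℂ C := fun d =>
    (ρ (tw hgeo.nd hn5 d)).restrict (hCall d)
  have hBsq : ∀ d x, B d (B d x) = x := fun d x => Subtype.ext (by
    show ρ (tw hgeo.nd hn5 d) (ρ (tw hgeo.nd hn5 d) x.1) = x.1
    rw [← Module.End.mul_apply, ← map_mul, tw_sq, map_one, Module.End.one_apply])
  -- the action on the five lines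
  let Lw : (F × F) × (F × F) → Submodule ℂ C := fun w => weight rC (eHom hP.nd hn4) (chi (hypSum (planeQ a b)) ψ w)
  have hB : ∀ d w x, x ∈ Lw w → B (up d) x ∈ Lw ((refl (hypSum (planeQ a b)) d.1).1 w) := by
    intro d w x hx u
    refine Subtype.ext ?_
    show r _ (ρ (tw hgeo.nd hn5 (up d)) x.1) = chi (hypSum (planeQ a b)) ψ _ u • ρ (tw hgeo.nd hn5 (up d)) x.1
    have htt : (refl (hypSum (planeQ a b)) d.1).1 ((refl (hypSum (planeQ a b)) d.1).1 u) = u :=
      congrArg (fun g : oGroup _ => g.1 u) (refl_mul_self d.1)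
    have h1 := congrArg (fun g => ρ g x.1) (htwE d ((refl (hypSum (planeQ a b)) d.1).1 u))
    simp only [map_mul, Module.End.mul_apply, htt] at h1
    refine h1.symm.trans ?_
    rw [show ρ (liftC _ (eHom hP.nd hn4 (Multiplicative.ofAdd ((refl (hypSum (planeQ a b)) d.1).1 u)))) x.1 =
      chi (hypSum (planeQ a b)) ψ w ((refl (hypSum (planeQ a b)) d.1).1 u) • x.1 from
        congrArg Subtype.val (hx _), map_smul]
    congr 1
    rw [chi_apply, chi_apply, ← polar_oGroup (refl (hypSum (planeQ a b)) d.1) ((refl _ d.1).1 u) w, htt]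
  have hone : ∀ w, w ≠ 0 → hypSum (planeQ a b) w = 0 → finrank ℂ (Lw w) = 1 := fun w hw h => by
    have h1 := hfree w hw
    rwa [if_pos h] at h1
  let ws : (F × F) × (F × F) := ((1, 1), (1, 0))
  have hws : ws ≠ 0 ∧ hypSum (planeQ a b) ws = 0 ∧ polar (hypSum (planeQ a b)) ws d₀.1 = 0 := by
    refine ⟨fun e => one_ne_zero (congrArg (fun p : (F × F) × (F × F) => p.1.1) e), ?_, ?_⟩ <;>
      simp [ws, d₀, polar, hypSum_apply, planeQ_apply, h11]
  obtain ⟨σ, xs, hxs0, hxs, hσ⟩ : ∃ (σ : ℂ) (xs : C), xs ≠ 0 ∧ xs ∈ Lw ws ∧ B (up d₀) xs = σ • xs := by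
    obtain ⟨⟨x, hx⟩, hx0, hspan⟩ := finrank_eq_one_iff'.1 (hone ws hws.1 hws.2.1)
    have h := hB d₀ ws x hx
    rw [refl_fix hws.2.2] at h
    obtain ⟨c, hc⟩ := hspan ⟨_, h⟩
    exact ⟨c, x, fun e => hx0 (Subtype.ext e), hx, (congrArg Subtype.val hc).symm⟩
  have hσ2 : σ * σ = 1 := smul_left_injective ℂ hxs0 (by
    show (σ * σ) • xs = (1 : ℂ) • xs
    rw [one_smul, mul_smul, ← hσ, ← map_smul, ← hσ, hBsq])
  have hfixed : ∀ w, w ≠ 0 → hypSum (planeQ a b) w = 0 → polar (hypSum (planeQ a b)) w d₀.1 = 0 →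
      ∀ x ∈ Lw w, B (up d₀) x = σ • x := by
    intro w hw hw0 hwd x hx
    have hstar : ∀ y ∈ Lw ws, B (up d₀) y = σ • y := fun y hy => by
      obtain ⟨c, hc⟩ := (finrank_eq_one_iff_of_nonzero' (⟨xs, hxs⟩ : Lw ws) (fun e => hxs0 (congrArg Subtype.val e))).1
        (hone ws hws.1 hws.2.1) ⟨y, hy⟩
      have hc' : c • xs = y := congrArg Subtype.val hc
      rw [← hc', map_smul, hσ, smul_comm]
    by_cases hww : w = ws
    · exact hstar x (hww ▸ hx)
    have hbw : polar (hypSum (planeQ a b)) w ws = 1 := (two_cases hq _).resolve_left fun h0 => by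
      have hli : LinearIndependent F ![w, ws] := LinearIndependent.pair_iff.2 fun s t hst => by
        rcases two_cases hq s with rfl | rfl <;> rcases two_cases hq t with rfl | rfl
        · exact ⟨rfl, rfl⟩
        · exact absurd (by simpa using hst) hws.1
        · exact absurd (by simpa using hst) hw
        · exfalso
          simp only [one_smul] at hst
          exact hww ((eq_neg_of_add_eq_zero_left hst).trans (by rw [← neg_one_smul F ws, two_neg hq, one_smul]))
      have h := hts1 (Submodule.span F (Set.range ![w, ws])) fun z hz => by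
        obtain ⟨c, rfl⟩ := (Submodule.mem_span_range_iff_exists_fun F).1 hz
        rw [Fin.sum_univ_two]
        simp [quad_add, quad_smul, polar_smul_left, polar_smul_right, hw0, hws.2.1, h0]
      rw [finrank_span_eq_card hli, Fintype.card_fin] at h
      omega
    let d : {d : (F × F) × (F × F) // hypSum (planeQ a b) d = 1} :=
      ⟨w + ws, by rw [quad_add, hw0, hws.2.1, hbw, zero_add, zero_add]⟩
    have hdd : polar (hypSum (planeQ a b)) d.1 d₀.1 = 0 := by
      show polar _ (w + ws) _ = _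
      rw [polar_add_left, hwd, hws.2.2, add_zero]
    have hdw : (refl (hypSum (planeQ a b)) d.1).1 w = ws := by
      rw [refl_apply, d.2, inv_one, show polar (hypSum (planeQ a b)) w d.1 = 1 by
        show polar _ w (w + ws) = 1
        rw [polar_add_right, QuadraticMap.polar_self, hw0, smul_zero, hbw, zero_add], two_neg hq, one_mul, one_smul]
      show w + (w + ws) = ws
      rw [← add_assoc, ← two_smul F w, show (2 : F) = 0 by linear_combination h11, zero_smul, zero_add]
    have h1 := hB d w x hx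
    rw [hdw] at h1
    have hcomm : B (up d₀) (B (up d) x) = B (up d) (B (up d₀) x) := Subtype.ext (by
      show ρ (tw hgeo.nd hn5 (up d₀)) (ρ (tw hgeo.nd hn5 (up d)) x.1) = ρ (tw hgeo.nd hn5 (up d)) (ρ (tw hgeo.nd hn5 (up d₀)) x.1)
      rw [← Module.End.mul_apply, ← map_mul, tw_commute hgeo.nd hn5 (up d₀) (up d) (by rw [polar_emb, hdd]), map_mul,
        Module.End.mul_apply])
    have h2 := congrArg (B (up d)) (hcomm.symm.trans (hstar _ h1))
    rwa [hBsq, map_smul, hBsq] at h2
  obtain ⟨xe, hxe0, hxe⟩ : ∃ xe : C, xe ≠ 0 ∧ xe ∈ Lw e₀ := by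
    obtain ⟨⟨x, hx⟩, hx0, -⟩ := finrank_eq_one_iff'.1 (hone e₀
      (fun e => one_ne_zero (congrArg (fun p : (F × F) × (F × F) => p.1.1) e)) hyp_e₀)
    exact ⟨x, fun e => hx0 (Subtype.ext e), hx⟩
  have hde : (refl (hypSum (planeQ a b)) d₀.1).1 e₀ = f₀ := by
    rw [refl_apply, d₀.2]
    simp [d₀, e₀, f₀, hypSum_polar, two_neg hq, h11, Prod.ext_iff]
  have hdf : (refl (hypSum (planeQ a b)) d₀.1).1 f₀ = e₀ := by
    rw [← hde]
    exact congrArg (fun g : oGroup _ => g.1 e₀) (refl_mul_self d₀.1)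
  set ye := B (up d₀) xe - σ • xe with hye
  have hrange : ∀ x, ∃ k : ℂ, B (up d₀) x - σ • x = k • ye := by
    let K : Submodule ℂ C := (Submodule.span ℂ {ye}).comap (B (up d₀) - σ • LinearMap.id)
    suffices h : ∀ w, Lw w ≤ K by
      intro x
      have hx : x ∈ K := by
        rw [← sum_proj rC (eHom hP.nd hn4) x,
          ← Function.Bijective.sum_comp (chi_bijective hP.nd ψ hψ) fun χ => proj rC (eHom hP.nd hn4) χ x]
        exact K.sum_mem fun w _ => h w (proj_mem _ _ _ _)
      obtain ⟨k, hk⟩ := Submodule.mem_span_singleton.1 hx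
      exact ⟨k, hk.symm⟩
    intro w x hx
    show B (up d₀) x - σ • x ∈ Submodule.span ℂ {ye}
    by_cases hzero : w ≠ 0 ∧ hypSum (planeQ a b) w = 0
    swap
    · have h0 : Lw w = ⊥ := Submodule.finrank_eq_zero.1 (by
        rcases eq_or_ne w 0 with rfl | hw
        · exact hfree0
        · exact (hfree w hw).trans (if_neg fun h => hzero ⟨hw, h⟩))
      rw [h0, Submodule.mem_bot] at hx
      rw [hx, map_zero, smul_zero, sub_zero]
      exact zero_mem _
    obtain ⟨hw, hw0⟩ := hzero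
    rcases eq_or_ne (polar (hypSum (planeQ a b)) w d₀.1) 0 with hd | hd
    · rw [hfixed w hw hw0 hd x hx, sub_self]
      exact zero_mem _
    have hex : ∀ z ∈ Lw (e₀ : (F × F) × (F × F)), ∃ c : ℂ, c • xe = z := fun z hz => by
      obtain ⟨c, hc⟩ := (finrank_eq_one_iff_of_nonzero' (⟨xe, hxe⟩ : Lw e₀) (fun e => hxe0 (congrArg Subtype.val e))).1
        (hone e₀ (fun e => one_ne_zero (congrArg (fun p : (F × F) × (F × F) => p.1.1) e)) hyp_e₀) ⟨z, hz⟩
      exact ⟨c, congrArg Subtype.val hc⟩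
    obtain ⟨⟨x1, x2⟩, z⟩ := w
    have hsum : x1 + x2 = 1 := (two_cases hq _).resolve_left fun h => hd (by
      rw [← h]
      simp [d₀, hypSum_polar, add_comm])
    rcases two_cases hq x1 with rfl | rfl
    · rw [zero_add] at hsum
      subst hsum
      obtain rfl : z = 0 := planeQ_eq_zero hab (by simpa [hypSum_apply] using hw0)
      have h1 := hB d₀ _ x hx
      rw [show (((0 : F), (1 : F)), (0 : F × F)) = f₀ from rfl, hdf] at h1
      obtain ⟨c, hc⟩ := hex _ h1
      have hxx : x = c • B (up d₀) xe := by rw [← map_smul, hc, hBsq]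
      have h2 : xe - σ • B (up d₀) xe = (-σ) • ye := by
        rw [hye, smul_sub, smul_smul, neg_mul, hσ2, neg_smul, neg_smul, one_smul]
        abel
      rw [hxx, map_smul, hBsq, smul_comm σ c, ← smul_sub, h2]
      exact Submodule.smul_mem _ _ (Submodule.smul_mem _ _ (Submodule.mem_span_singleton_self _))
    · obtain rfl : x2 = 0 := add_eq_left.1 hsum
      obtain rfl : z = 0 := planeQ_eq_zero hab (by simpa [hypSum_apply] using hw0)
      obtain ⟨c, rfl⟩ := hex x hx
      rw [map_smul, smul_comm σ c, ← smul_sub, ← hye]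
      exact Submodule.smul_mem _ _ (Submodule.mem_span_singleton_self _)
  have hnot : B (up d₀) ≠ σ • 1 := fun e => hxe0 (by
    have h1 : B (up d₀) xe = σ • xe := LinearMap.congr_fun e xe
    have h2 := hB d₀ _ xe hxe
    rw [hde, h1] at h2
    have h3 : proj rC (eHom hP.nd hn4) (chi (hypSum (planeQ a b)) ψ f₀) (σ • xe) = σ • xe := by
      rw [proj_of_mem rC _ h2, if_pos rfl]
    rw [map_smul, proj_of_mem rC _ hxe, if_neg fun h => one_ne_zero
      (congrArg (fun p : (F × F) × (F × F) => p.1.1) ((chi_bijective hP.nd ψ hψ).1 h)), smul_zero] at h3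
    exact (smul_eq_zero.1 h3.symm).resolve_left (left_ne_zero_of_mul (hσ2.trans_ne one_ne_zero)))
  -- six roots
  let root : Fin 3 × Fin 2 → (F × F) × (F × F) × (F × F) := fun p =>
    ![![((1, 1), ((0, 0), (0, 0))), ((1, 0), ((1, 1), (0, 0)))],
      ![((1, 1), ((1, 0), (0, 0))), ((1, 1), ((0, 1), (0, 0)))],
      ![((0, 0), ((0, 0), (1, 0))), ((0, 0), ((0, 0), (0, 1)))]] p.1 p.2
  have hroot : ∀ p, hypSum (hypSum (planeQ a b)) (root p) = 1 := by
    rintro ⟨i, j⟩
    fin_cases i <;> fin_cases j <;> simp [root, hypSum_apply, planeQ_apply, hb1]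
  have htab : ∀ p q, polar (hypSum (hypSum (planeQ a b))) (root p) (root q) =
      if p.1 = q.1 ∧ p.2 ≠ q.2 then 1 else 0 := by
    rintro ⟨i, j⟩ ⟨k, l⟩
    fin_cases i <;> fin_cases j <;> fin_cases k <;> fin_cases l <;>
      simp [root, hypSum_polar, hypSum_apply, polar, planeQ_apply, ha1, hb1, h11, two_neg hq]
  let dd : Fin 3 × Fin 2 → {d // hypSum (hypSum (planeQ a b)) d = 1} := fun p => ⟨root p, hroot p⟩
  refine no_six hC5.le (fun p => σ • B (dd p)) (fun p x => ?_) (fun p => ?_) (fun p => ?_) ?_ (fun p q hpq x => ?_)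
    (fun i x => ?_)
  · show σ • B _ (σ • B _ x) = x
    rw [map_smul, smul_smul, hσ2, one_smul, hBsq]
  · obtain ⟨g, hg⟩ := exists_map_omega hgeo.nd hn5 (v := (up d₀).1) (v' := (dd p).1)
      (fun e => one_ne_zero (by rw [← (up d₀).2, e, QuadraticMap.map_zero]))
      (fun e => one_ne_zero (by rw [← (dd p).2, e, QuadraticMap.map_zero])) ((up d₀).2.trans (dd p).2.symm)
    refine ⟨⟨_, hinv g ye.1 ye.2⟩, fun x => ?_⟩
    obtain ⟨k, hk⟩ := hrange ⟨_, hinv g⁻¹ x.1 x.2⟩
    refine ⟨-σ * k, Subtype.ext ?_⟩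
    have h1 := congrArg (fun z : C => ρ (liftC _ g) z.1) hk
    change ρ (liftC _ g) (ρ (tw hgeo.nd hn5 (up d₀)) (ρ (liftC _ g⁻¹) x.1) - σ • ρ (liftC _ g⁻¹) x.1) =
      ρ (liftC _ g) (k • ye.1) at h1
    simp only [map_sub, map_smul] at h1
    have e1 : liftC _ g * tw hgeo.nd hn5 (up d₀) * liftC _ g⁻¹ = tw hgeo.nd hn5 (dd p) := by
      rw [tw_conj hgeo.nd hn5 g _ _ hg, map_inv, mul_inv_cancel_right]
    have e2 : liftC _ g * liftC _ g⁻¹ = (1 : OG (hypSum (hypSum (planeQ a b)))) := by rw [map_inv, mul_inv_cancel]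
    rw [rho_three ρ e1, rho_two ρ e2, map_one, Module.End.one_apply] at h1
    show x.1 - σ • ρ (tw hgeo.nd hn5 (dd p)) x.1 = (-σ * k) • ρ (liftC _ g) ye.1
    rw [mul_smul, ← h1, smul_sub, smul_smul, neg_mul, hσ2, neg_smul, neg_smul, one_smul]
    abel
  · intro e
    obtain ⟨g, hg⟩ := exists_map_omega hgeo.nd hn5 (v := (up d₀).1) (v' := (dd p).1)
      (fun e => one_ne_zero (by rw [← (up d₀).2, e, QuadraticMap.map_zero]))
      (fun e => one_ne_zero (by rw [← (dd p).2, e, QuadraticMap.map_zero])) ((up d₀).2.trans (dd p).2.symm)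
    refine hnot (LinearMap.ext fun x => ?_)
    have h0 := congrArg Subtype.val (LinearMap.congr_fun e ⟨_, hinv g x.1 x.2⟩)
    change σ • ρ (tw hgeo.nd hn5 (dd p)) (ρ (liftC _ g) x.1) = ρ (liftC _ g) x.1 at h0
    rw [← Module.End.mul_apply, ← map_mul, ← tw_conj hgeo.nd hn5 g _ _ hg, map_mul, Module.End.mul_apply] at h0
    have h1 := congrArg (fun z => σ • ρ (liftC _ g)⁻¹ z) h0
    simp only [map_smul, smul_smul, hσ2, one_smul] at h1
    simp only [← Module.End.mul_apply, ← map_mul, inv_mul_cancel_left, inv_mul_cancel, map_one, Module.End.one_apply] at h1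
    exact Subtype.ext h1
  · intro p q hpq
    have hB' : B (dd p) = B (dd q) := smul_right_injective _ (left_ne_zero_of_mul (hσ2.trans_ne one_ne_zero)) hpq
    have heq : root p = root q := eq_of_trivial hgeo.nd hn5 hq rC hmoveC (hroot p) (hroot q) (LinearMap.ext fun x => Subtype.ext (by
      show ρ (liftC _ ⟨_, _⟩) x.1 = x.1
      rw [← tw_mul hgeo.nd hn5 (dd p) (dd q), map_mul, Module.End.mul_apply]
      have h := congrArg Subtype.val (LinearMap.congr_fun hB' (B (dd q) x))
      rw [hBsq] at h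
      exact h))
    have h := congrArg (fun v => polar (hypSum (hypSum (planeQ a b))) v (root (p.1, p.2 + 1))) heq
    simp only [htab] at h
    obtain ⟨i, j⟩ := p
    obtain ⟨k, l⟩ := q
    fin_cases j <;> fin_cases l <;> simp at h ⊢ <;> first | exact h | exact h.symm
  · show σ • B _ (σ • B _ x) = σ • B _ (σ • B _ x)
    simp only [map_smul]
    congr 2
    refine Subtype.ext ?_
    show ρ (tw hgeo.nd hn5 (dd p)) (ρ (tw hgeo.nd hn5 (dd q)) x.1) = ρ (tw hgeo.nd hn5 (dd q)) (ρ (tw hgeo.nd hn5 (dd p)) x.1)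
    rw [← Module.End.mul_apply, ← map_mul, tw_commute hgeo.nd hn5 (dd p) (dd q)
      (by rw [htab, if_neg fun h => hpq h.1.symm]), map_mul, Module.End.mul_apply]
  · show σ • B _ (σ • B _ (σ • B _ x)) = σ • B _ (σ • B _ (σ • B _ x))
    simp only [map_smul]
    congr 3
    refine Subtype.ext ?_
    show ρ (tw hgeo.nd hn5 _) (ρ (tw hgeo.nd hn5 _) (ρ (tw hgeo.nd hn5 _) x.1)) =
      ρ (tw hgeo.nd hn5 _) (ρ (tw hgeo.nd hn5 _) (ρ (tw hgeo.nd hn5 _) x.1))
    simp only [← Module.End.mul_apply, ← map_mul, ← mul_assoc]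
    have he : hypSum (hypSum (planeQ a b)) (root (i, 0) + root (i, 1)) = 1 := by
      rw [quad_add, hroot, hroot, htab, if_pos ⟨rfl, by simp⟩, h11, zero_add]
    rw [tw_braid hgeo.nd hn5 (dd (i, 0)) (dd (i, 1)) ⟨_, he⟩ (by
        rw [refl_apply, hroot, htab, if_pos ⟨rfl, by simp⟩, inv_one, two_neg hq, one_mul, one_smul, add_comm]),
      tw_braid hgeo.nd hn5 (dd (i, 1)) (dd (i, 0)) ⟨_, he⟩ (by
        rw [refl_apply, hroot, htab, if_pos ⟨rfl, by simp⟩, inv_one, two_neg hq, one_mul, one_smul])]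

end CfsgLib.MinDeg.Om
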