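import Cfsg.Agent.MinDeg.OmegaBound

/-!
Excluding the degrees just below the bound by the integrality of class sums; the inductive step.
-/

set_option autoImplicit false
set_option linter.style.haveILetI false

namespace CfsgLib.MinDeg.Om

open QuadraticMap Module CfsgLib.Forms CfsgLib.Quad
open scoped Classical

universe u v w

variable {F : Type u} [Field F] [Fintype F] {W : Type v} [AddCommGroup W] [Module F W] [FiniteDimensional F W]
  {Q : QuadraticForm F W}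

/-- The numerator of the bound. -/
def num (q : ℤ) (m : ℕ) (ε : ℤ) : ℤ := (q ^ m - ε) * (q ^ (m - 1) + ε * q)

theorem num_succ (q : ℤ) {m : ℕ} (hm : 1 ≤ m) {ε : ℤ} (hε : ε = 1 ∨ ε = -1) {T : ℤ}
    (hT : T * (q ^ 2 - 1) = num q m ε) :
    (T + (q ^ m - ε) * (q ^ (m - 1) + ε) + 1) * (q ^ 2 - 1) = num q (m + 1) ε := by
  obtain ⟨k, rfl⟩ : ∃ k, m = k + 1 := ⟨m - 1, by omega⟩
  rw [add_mul, add_mul, hT, num, num]
  simp only [Nat.add_sub_cancel]
  rcases hε with rfl | rfl <;> ring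

theorem dvd_num (q : ℤ) {m : ℕ} (hm : 2 ≤ m) (ε : ℤ) {T : ℤ} (hT : T * (q ^ 2 - 1) = num q m ε) : q ∣ T := by
  obtain ⟨k, rfl⟩ : ∃ k, m = k + 2 := ⟨m - 2, by omega⟩
  refine ⟨T * q - (q ^ (k + 2) - ε) * (q ^ k + ε), ?_⟩
  rw [num, show k + 2 - 1 = k + 1 from rfl] at hT
  linear_combination (-1 : ℤ) * hT

variable {m : ℕ} {ε : ℤ} (hgeo : Geo Q m ε)
include hgeo

variable {X : Type w} [AddCommGroup X] [Module ℂ X] [FiniteDimensional ℂ X] (ρ : Representation ℂ (OG Q) X)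
  (hρ : ρ.IsIrreducible)
include hρ

/-- The degree divides the integer coming from the class of root elements. -/
theorem dvd_class (hm : 3 ≤ m) [Fintype W] (hn : 4 ≤ finrank F W) (ψ : AddChar F ℂ) (hψ : ψ ≠ 0)
    (hsingle : ∀ v, v ≠ 0 → mult hgeo.nd hn ρ ψ v = if Q v = 0 then 1 else 0) {T : ℤ}
    (hT : T * ((Fintype.card F : ℤ) ^ 2 - 1) = num (Fintype.card F : ℤ) (m + 1) ε) :
    (finrank ℂ X : ℤ) ∣ T * ((Fintype.card F : ℤ) ^ (2 * m) - 1) *
      ((finrank ℂ X : ℤ) - (Fintype.card F : ℤ) ^ (2 * m - 1)) := by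
  haveI := hρ
  haveI : Finite (oGroup (hypSum Q)) := finite_oGroup _
  obtain ⟨u, w, hu, hw, huw, hli⟩ := exists_ts_pair hgeo hm
  have hu0 : u ≠ 0 := hli.ne_zero 0
  obtain ⟨n, hn'⟩ : ∃ n, 2 * m = n + 3 := ⟨2 * m - 3, by omega⟩
  have hτ := tau_single hgeo.nd hn ρ ψ hψ 0 hsingle hu hw huw hli (n := n) (by rw [hgeo.dim, hn'])
  have hint := CfsgLib.Char.isIntegral_class_mul_char_div ρ (eHom hgeo.nd hn (Multiplicative.ofAdd u))
  rw [show ρ.character (eHom hgeo.nd hn (Multiplicative.ofAdd u)) = _ from hτ] at hint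
  set K := Nat.card {x // IsConj (eHom hgeo.nd hn (Multiplicative.ofAdd u)) x} with hK
  obtain ⟨z, hz, -⟩ := CfsgLib.Char.exists_int_of_isIntegral_rat
    ((((K : ℤ) * ((finrank ℂ X : ℤ) - (Fintype.card F : ℤ) ^ (n + 2)) : ℤ) : ℚ) / ((finrank ℂ X : ℕ) : ℚ)) hint
    (by push_cast; ring)
  rw [div_eq_iff (Nat.cast_ne_zero.2 (CfsgLib.Char.finrank_pos_of_isIrreducible ρ).ne')] at hz
  have hz' : (K : ℤ) * ((finrank ℂ X : ℤ) - (Fintype.card F : ℤ) ^ (n + 2)) = z * (finrank ℂ X : ℤ) := by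
    apply Int.cast_injective (α := ℂ)
    push_cast
    exact hz
  have hcount := (card_root_class hgeo.nd hn hu0 hu).trans (card_pairs hgeo.nd)
  rw [← hK] at hcount
  have hq1 : 1 ≤ Fintype.card F ^ 2 := Nat.one_le_pow _ _ Fintype.card_pos
  have hcountZ : (K : ℤ) * ((Fintype.card F : ℤ) * ((Fintype.card F : ℤ) ^ 2 - 1)) =
      (((Fintype.card F : ℤ) ^ (m + 1) - ε) * ((Fintype.card F : ℤ) ^ m + ε)) * ((Fintype.card F : ℤ) *
        (((Fintype.card F : ℤ) ^ m - ε) * ((Fintype.card F : ℤ) ^ (m - 1) + ε))) := by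
    have h1 := congrArg (fun x : ℕ => (x : ℤ)) hcount
    push_cast [hq1] at h1
    rw [card_zero_nz hgeo, card_zero_nz hgeo.hyp] at h1
    simpa using h1
  set q : ℤ := (Fintype.card F : ℤ) with hq
  have hq2 : 2 ≤ q := by rw [hq]; exact_mod_cast Fintype.one_lt_card
  have hne : q ^ 2 - 1 ≠ 0 := by nlinarith
  have hKT : q * (K : ℤ) = T * (q ^ (2 * m) - 1) := by
    refine mul_right_cancel₀ hne ?_
    obtain ⟨k, rfl⟩ : ∃ k, m = k + 1 := ⟨m - 1, by omega⟩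
    simp only [Nat.add_sub_cancel] at hcountZ
    rw [num] at hT
    simp only [Nat.add_sub_cancel] at hT
    rcases hgeo.sgn with rfl | rfl <;> linear_combination hcountZ - (q ^ (2 * (k + 1)) - 1) * hT
  rw [show 2 * m - 1 = n + 2 by omega, ← hKT]
  exact ⟨q * z, by linear_combination q * hz'⟩

omit [Fintype F] hgeo hρ in
theorem not_dvd_one {q T : ℤ} {m : ℕ} (hm : 3 ≤ m) (hq : 2 ≤ q) (hdvd : q ∣ T) (hlo : q ^ (2 * m) ≤ (q + 1) * (T - 1))
    (hhi : T < q ^ (2 * m)) : ¬ (T - 1) ∣ T * (q ^ (2 * m) - 1) * (T - 1 - q ^ (2 * m - 1)) := by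
  intro h
  have h1 : (T - 1) ∣ (q ^ (2 * m) - 1) * q ^ (2 * m - 1) := by
    have h2 := dvd_sub ((dvd_refl (T - 1)).mul_right ((q ^ (2 * m) - 1) * (T - q ^ (2 * m - 1)))) h
    obtain ⟨c, hc⟩ := h2
    exact ⟨c, by linear_combination hc⟩
  have hcop : IsCoprime (T - 1) (q ^ (2 * m - 1)) := by
    refine IsCoprime.pow_right ?_
    obtain ⟨t, rfl⟩ := hdvd
    exact ⟨-1, t, by ring⟩
  obtain ⟨k, hk⟩ := hcop.dvd_of_dvd_mul_right h1
  obtain ⟨t, ht⟩ := hdvd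
  obtain ⟨p, hp⟩ : q ∣ q ^ (2 * m) := dvd_pow_self q (by omega)
  have hqk : q ∣ k - 1 := ⟨t * k - p, by rw [ht] at hk; linear_combination hk - hp⟩
  have hT1 : 0 < T - 1 := by
    by_contra hc
    push Not at hc
    have := pow_pos (show 0 < q by omega) (2 * m)
    nlinarith
  have hk0 : 0 < k := by
    by_contra hc
    push Not at hc
    have h2 : (2 : ℤ) ≤ q ^ (2 * m) := le_trans hq (le_self_pow₀ (by omega) (by omega))
    nlinarith
  rcases eq_or_lt_of_le (show 1 ≤ k by omega) with h3 | h3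
  · rw [← h3] at hk
    omega
  · have := Int.le_of_dvd (by omega) hqk
    nlinarith

omit [Fintype F] hgeo hρ in
theorem not_dvd_two {r : ℤ} (hr : 2 ≤ r) (hr2 : 2 ∣ r) :
    ¬ (32 * r ^ 5 + 2 * r - 2) ∣ 2 * (2 * r - 1) ^ 2 * (32 * r ^ 5) := by
  intro h
  have h1 : (16 * r ^ 5 + r - 1) ∣ (2 * r - 1) ^ 2 * (32 * r ^ 5) := by
    obtain ⟨c, hc⟩ := h
    exact ⟨c, by linarith⟩
  have hcop : IsCoprime (16 * r ^ 5 + r - 1) (32 * r ^ 5) := by
    refine IsCoprime.mul_right ?_ (IsCoprime.pow_right ⟨-1, 16 * r ^ 4 + 1, by ring⟩)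
    obtain ⟨s, rfl⟩ := hr2
    have h2 : IsCoprime (16 * (2 * s) ^ 5 + 2 * s - 1) 2 := ⟨-1, 256 * s ^ 5 + s, by ring⟩
    simpa using (h2.pow_right (n := 5))
  have h2 := Int.le_of_dvd (by nlinarith) (hcop.dvd_of_dvd_mul_right h1)
  have h5 : r ^ 2 ≤ r ^ 5 := pow_le_pow_right₀ (by omega) (by norm_num)
  nlinarith

omit [Fintype F] hgeo hρ in
/-- The case of degree two below the bound in the smallest minus type. -/
theorem not_dvd_small {q : ℤ} (hq : 3 ≤ q) (hpar : Odd q ∨ 4 ∣ q) :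
    ¬ (q ^ 5 + q - 2) ∣ (q ^ 5 + q) * (q ^ 6 - 1) * (q ^ 5 + q - 2 - q ^ 5) := by
  intro h
  have h1 : (q ^ 5 + q - 2) ∣ 2 * (q - 1) ^ 2 * q ^ 5 := by
    obtain ⟨c, hc⟩ := h
    exact ⟨c - (q ^ 6 - 1) * (q ^ 5 + q - q ^ 5) + 2 * q * q ^ 5, by linear_combination hc⟩
  rcases hpar with ⟨t, ht⟩ | ⟨s, hs⟩
  · have hcop : IsCoprime (q ^ 5 + q - 2) (q ^ 5) := by
      refine IsCoprime.pow_right ?_
      subst ht
      exact ⟨t, 1 - t * ((2 * t + 1) ^ 4 + 1), by ring⟩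
    have h2 := Int.le_of_dvd (by nlinarith) (hcop.dvd_of_dvd_mul_right h1)
    nlinarith [pow_le_pow_left₀ (by omega) hq 3, sq_nonneg q]
  · refine not_dvd_two (r := 2 * s) (by omega) ⟨s, rfl⟩ ?_
    rw [hs] at h1
    convert h1 using 1 <;> ring

/-- The inductive step. -/
theorem step (h2X : 2 ≤ finrank ℂ X) (hm : 3 ≤ m)
    (hroom : 4 ≤ m ∨ (∀ U : Submodule F W, (∀ x ∈ U, Q x = 0) → finrank F U ≤ 2) ∨
      ∃ α : F, α ≠ 0 ∧ α * α ≠ 1) (hscale : ε = -1 ∨ ∃ t : F, t ≠ 0 ∧ t * t ≠ 1) {T e : ℤ}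
    (hT : T * ((Fintype.card F : ℤ) ^ 2 - 1) = num (Fintype.card F : ℤ) m ε)
    (he0 : 0 ≤ e) (he1 : e ≤ 1) (he : e = 0 ∨ m = 3 ∧ ε = -1) (hIH : Bound Q (T - e)) :
    let T₁ := T + ((Fintype.card F : ℤ) ^ m - ε) * ((Fintype.card F : ℤ) ^ (m - 1) + ε) + 1
    T₁ ≤ (finrank ℂ X : ℤ) ∨ (Fintype.card F = 2 ∧ m = 3 ∧ ε = -1 ∧ finrank ℂ X = 32 ∧
      ∀ [Fintype W] (hn : 4 ≤ finrank F W) (ψ : AddChar F ℂ),
        ψ ≠ 0 → ∀ v, v ≠ 0 → mult hgeo.nd hn ρ ψ v = if Q v = 0 then 1 else 0) := by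
  intro T₁
  haveI : Finite W := Module.finite_of_finite F
  haveI := Fintype.ofFinite W
  obtain ⟨hlow, hshape⟩ := core hgeo ρ hρ h2X hm hroom hscale hT he0 he hIH
  by_cases hge : T₁ ≤ (finrank ℂ X : ℤ)
  · exact Or.inl hge
  push Not at hge
  have hn : 4 ≤ finrank F W := by rw [hgeo.dim]; omega
  obtain ⟨ψ, hψ⟩ := (AddChar.exists_apply_ne_zero (a := (1 : F))).2 one_ne_zero
  have hψ0 : ψ ≠ 0 := fun h => hψ (by rw [h]; rfl)
  have hsingle := hshape hge hn ψ hψ0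
  have hT₁ : T₁ * ((Fintype.card F : ℤ) ^ 2 - 1) = num (Fintype.card F : ℤ) (m + 1) ε :=
    num_succ _ (by omega) hgeo.sgn hT
  have hdiv := dvd_class hgeo ρ hρ hm hn ψ hψ0 hsingle hT₁
  have hdvdT := dvd_num _ (by omega) ε hT₁
  change T₁ - 1 - e ≤ _ at hlow
  rcases eq_or_lt_of_le (show (finrank ℂ X : ℤ) ≤ T₁ - 1 by omega) with hD | hD
  · exfalso
    rw [hD] at hdiv
    set q : ℤ := (Fintype.card F : ℤ) with hq
    have hq2 : 2 ≤ q := by rw [hq]; exact_mod_cast Fintype.one_lt_card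
    obtain ⟨k, rfl⟩ : ∃ k, m = k + 3 := ⟨m - 3, by omega⟩
    have hT' : 0 ≤ T ∧ 3 * T ≤ num q (k + 3) ε := zero_le_of_mul hq2 hT (by
      have hB4 : q ^ 2 ≤ q ^ (k + 2) := pow_le_pow_right₀ (by omega) (by omega)
      have hA4 : (1 : ℤ) ≤ q ^ (k + 3) := one_le_pow₀ (by omega)
      rw [num, show k + 3 - 1 = k + 2 from rfl]
      rcases hgeo.sgn with rfl | rfl <;> apply mul_nonneg <;> nlinarith)
    have hA : q ^ (k + 3) = q * q ^ (k + 2) := by ring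
    have hY : q ^ (2 * (k + 3) - 1) = q ^ (k + 3) * q ^ (k + 2) := by rw [← pow_add]; congr 1; omega
    have hP : q ^ (2 * (k + 3)) = q * (q ^ (k + 3) * q ^ (k + 2)) := by ring
    have hB4 : q ^ 2 ≤ q ^ (k + 2) := pow_le_pow_right₀ (by omega) (by omega)
    have hT'2 := hT'.2
    rw [num, show k + 3 - 1 = k + 2 from rfl, hA] at hT'2
    set B := q ^ (k + 2) with hB
    have hT1v : T₁ = T + (q * B - ε) * (B + ε) + 1 := by
      show T + (q ^ (k + 3) - ε) * (q ^ (k + 2) + ε) + 1 = _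
      rw [hA]
    refine not_dvd_one hm hq2 hdvdT ?_ ?_ hdiv
    · rw [hP, hA, hT1v]
      have hB0 : 4 ≤ B := by nlinarith
      have hBq : 0 ≤ q * B * (B - q - 1) := mul_nonneg (by positivity) (by nlinarith)
      have hmain : q * (q * B * B) ≤ (q + 1) * ((q * B - ε) * (B + ε)) := by
        rcases hgeo.sgn with rfl | rfl <;> nlinarith
      nlinarith [mul_nonneg (show (0 : ℤ) ≤ q + 1 by omega) hT'.1]
    · rw [hP, hA, hT1v]
      have hB0 : 4 ≤ B := by nlinarith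
      have e1 : 0 ≤ q * B * (B - q) := mul_nonneg (by positivity) (by nlinarith)
      have e2 : 0 ≤ q * B * (B - 4) := mul_nonneg (by positivity) (by linarith)
      have e3 : 0 ≤ (q - 2) * (q * B * B) := mul_nonneg (by linarith) (by positivity)
      rcases hgeo.sgn with rfl | rfl <;> nlinarith
  obtain rfl : e = 1 := by omega
  obtain ⟨rfl, rfl⟩ := he.resolve_left one_ne_zero
  have hD2 : (finrank ℂ X : ℤ) = T₁ - 2 := by omega
  have hq2 : (2 : ℤ) ≤ Fintype.card F := by exact_mod_cast Fintype.one_lt_card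
  have hT1v : T₁ = (Fintype.card F : ℤ) ^ 5 + Fintype.card F := by
    refine mul_right_cancel₀ (show (Fintype.card F : ℤ) ^ 2 - 1 ≠ 0 by nlinarith) ?_
    rw [hT₁, num]
    ring
  by_cases hq : Fintype.card F = 2
  · refine Or.inr ⟨hq, rfl, rfl, ?_, fun {_} hn' ψ' hψ' => hshape hge hn' ψ' hψ'⟩
    rw [hT1v, hq] at hD2
    norm_num at hD2
    omega
  exfalso
  rw [hD2, hT1v, show 2 * 3 = 6 from rfl, show 6 - 1 = 5 from rfl] at hdiv
  refine not_dvd_small (q := (Fintype.card F : ℤ)) (by omega) ?_ hdiv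
  obtain ⟨p, -, ⟨n, hn0⟩, hp, hpn⟩ := FiniteField.card' F
  rcases hp.eq_two_or_odd' with rfl | hodd
  · refine Or.inr ?_
    have h2n : 2 ≤ n := by
      by_contra hc
      have : n = 1 := by omega
      subst this
      exact hq hpn
    rw [hpn, PNat.mk_coe]
    exact_mod_cast (pow_dvd_pow 2 h2n)
  · refine Or.inl ?_
    rw [hpn, PNat.mk_coe]
    exact_mod_cast hodd.pow

end CfsgLib.MinDeg.Om
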