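import Cfsg.Agent.MinDeg.OmegaWeight
import Cfsg.Agent.MinDeg.OmegaCount

/-!
A single level of simple weights forces the fixed space of the radical to be moved by `Ω(W)`.
-/

set_option autoImplicit false
set_option linter.style.haveILetI false

namespace CfsgLib.MinDeg.Om

open QuadraticMap Module CfsgLib.Forms CfsgLib.Quad
open scoped Classical

variable {F : Type*} [Field F] [Fintype F] {W : Type*} [AddCommGroup W] [Module F W] [FiniteDimensional F W]
  {Q : QuadraticForm F W}

omit [Fintype F] [FiniteDimensional F W] in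
/-- Transformations attached to a totally singular pair are bilinear alternating. -/
theorem siegel_det {a b : W} (ha : Q a = 0) (hb : Q b = 0) (hab : polar Q a b = 0) (p r s t : F) :
    siegel Q (p • a + r • b) (s • a + t • b) = siegel Q a ((p * t - r * s) • b) := by
  have h1 : ∀ x y : F, Q (x • a + y • b) = 0 := fun x y => by
    rw [quad_add, quad_smul, quad_smul, ha, hb, polar_smul_left, polar_smul_right, hab]
    simp
  refine Subtype.ext (LinearEquiv.ext fun x => ?_)
  rw [siegel_apply (h1 p r) (polar_zero_pair a b ha hb hab p r s t),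
    siegel_apply ha (by rw [polar_smul_right, hab, smul_zero]), h1, quad_smul, hb]
  simp only [polar_add_right, polar_smul_right, smul_eq_mul]
  match_scalars <;> ring

variable (hQ : (polarBilin Q).Nondegenerate)
include hQ

/-- A pair with value one orthogonal to a small subspace. -/
theorem exists_pair_perp {U : Submodule F W} (h : 2 * finrank F U < finrank F W) :
    ∃ y z, (∀ x ∈ U, polar Q x y = 0 ∧ polar Q x z = 0) ∧ polar Q y z = 1 := by
  obtain ⟨y, hy, z, hz, hne⟩ : ∃ y ∈ perpS Q U, ∃ z ∈ perpS Q U, polar Q y z ≠ 0 := by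
    by_contra hc
    push Not at hc
    have hle : perpS Q U ≤ perpS Q (perpS Q U) := fun a ha b hb => hc b hb a ha
    rw [perpS_perpS hQ] at hle
    have h1 := Submodule.finrank_mono hle
    have h2 := finrank_perpS hQ U
    omega
  refine ⟨y, (polar Q y z)⁻¹ • z, fun x hx => ⟨hy x hx, ?_⟩, ?_⟩
  · rw [polar_smul_right, hz x hx, smul_zero]
  · rw [polar_smul_right, smul_eq_mul, inv_mul_cancel₀ hne]

variable (hn : 4 ≤ finrank F W) [Fintype W]
variable {X : Type*} [AddCommGroup X] [Module ℂ X] [FiniteDimensional ℂ X] (ρ : Representation ℂ (OG Q) X)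
  (ψ : AddChar F ℂ) (hψ : ψ ≠ 0) (a : F)
  (hsingle : ∀ v, v ≠ 0 → mult hQ hn ρ ψ v = if Q v = a then 1 else 0)

omit hQ [FiniteDimensional F W] in
theorem sum_level (f : W → ℂ) :
    (∑ v ∈ Finset.univ.filter (fun v => v ≠ 0 ∧ Q v = a), f v) + (if a = 0 then f 0 else 0) =
      ∑ v ∈ Finset.univ.filter (fun v => Q v = a), f v := by
  split_ifs with h
  · rw [show Finset.univ.filter (fun v => v ≠ 0 ∧ Q v = a) = (Finset.univ.filter (fun v => Q v = a)).erase 0 from by
      ext v; simp, Finset.sum_erase_add _ _ (by simp [h])]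
  · rw [add_zero, show Finset.univ.filter (fun v => v ≠ 0 ∧ Q v = a) = Finset.univ.filter (fun v => Q v = a) from
      Finset.filter_congr fun v _ => ⟨fun hv => hv.2, fun hv => ⟨fun e => h (by rw [← hv, e, QuadraticMap.map_zero]), hv⟩⟩]

include hsingle

theorem sum_single (f : W → ℂ) :
    ∑ v, (mult hQ hn ρ ψ v : ℂ) * f v =
      (mult hQ hn ρ ψ 0 : ℂ) * f 0 + ∑ v ∈ Finset.univ.filter (fun v => v ≠ 0 ∧ Q v = a), f v := by
  rw [← Finset.add_sum_erase _ _ (Finset.mem_univ (0 : W))]
  congr 1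
  rw [show Finset.univ.filter (fun v => v ≠ 0 ∧ Q v = a) = (Finset.univ.erase (0 : W)).filter (fun v => Q v = a) from by
    ext v; simp, Finset.sum_filter]
  refine Finset.sum_congr rfl fun v hv => ?_
  rw [hsingle v (Finset.mem_erase.1 hv).1]
  split_ifs <;> simp

include hψ in
theorem dim_single : (finrank ℂ X : ℂ) =
    mult hQ hn ρ ψ 0 + ((Finset.univ.filter (fun v => v ≠ 0 ∧ Q v = a)).card : ℂ) := by
  have h := sum_single hQ hn ρ ψ a hsingle fun _ => 1
  simp only [mul_one, Finset.sum_const, nsmul_eq_mul] at h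
  rw [← h, ← Nat.cast_sum, sum_mult hQ hn ρ ψ hψ]

variable {u w : W} (hu : Q u = 0) (hw : Q w = 0) (huw : polar Q u w = 0) (hli : LinearIndependent F ![u, w]) {n : ℕ}
  (hdim : finrank F W = n + 3)
include hu hw huw hli hdim hψ

/-- The character at a root element of the radical. -/
theorem tau_single : LinearMap.trace ℂ X (ρ (eHom hQ hn (Multiplicative.ofAdd u))) =
    (finrank ℂ X : ℂ) - (Fintype.card F : ℂ) ^ (n + 2) := by
  have h1 := (level_identities hQ hu hw huw hli hdim a ψ hψ).2
  have h2 := sum_level (Q := Q) a fun v => ψ (polar Q v u)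
  have h3 := sum_level (Q := Q) a fun _ : W => (1 : ℂ)
  simp only [Finset.sum_const, nsmul_eq_mul, mul_one] at h3
  rw [trace_eHom hQ hn ρ ψ hψ, sum_single hQ hn ρ ψ a hsingle, dim_single hQ hn ρ ψ hψ a hsingle,
    polar_zero_right, AddChar.map_zero_eq_one, mul_one]
  simp only [polar_comm (⇑Q) u]
  rw [polar_zero_left, AddChar.map_zero_eq_one] at h2
  linear_combination h2 + h1 - h3

omit hψ hdim in
/-- The root element fixes the weight lines of the vectors it fixes. -/
theorem line_id (hn5 : 5 ≤ finrank F W)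
    (hroom : 7 ≤ finrank F W ∨ (a = 0 ∧ 5 ≤ finrank F W ∧ ((∀ U : Submodule F W, (∀ x ∈ U, Q x = 0) → finrank F U ≤ 2) ∨
      ∃ α : F, α ≠ 0 ∧ α * α ≠ 1))) {v : W} (hv0 : v ≠ 0) (hva : Q v = a) (hvu : polar Q v u = 0)
    (hvw : polar Q v w = 0) {x : X} (hx : x ∈ weight ρ (eHom hQ hn) (chi Q ψ v)) :
    ρ (liftC Q ⟨siegel Q u w, siegel_mem_commutator hQ hn5 hu huw⟩) x = x := by
  have hinj : ∀ (g : OG Q) (y z : X), ρ g y = ρ g z → y = z := fun g y z h => by
    have h' := congrArg (ρ g⁻¹) h
    rwa [← Module.End.mul_apply, ← Module.End.mul_apply, ← map_mul, inv_mul_cancel, map_one] at h'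
  rcases eq_or_ne x 0 with rfl | hx0
  · rw [map_zero]
  have hfin : finrank ℂ (weight ρ (eHom hQ hn) (chi Q ψ v)) = 1 := by
    have h := hsingle v hv0
    rw [if_pos hva] at h
    exact h
  obtain ⟨⟨x₁, hx₁⟩, hx10, hspan⟩ := finrank_eq_one_iff'.1 hfin
  have hline : ∀ y ∈ weight ρ (eHom hQ hn) (chi Q ψ v), ∃ l : ℂ, y = l • x := by
    intro y hy
    obtain ⟨c, hc⟩ := hspan ⟨y, hy⟩
    obtain ⟨d, hd⟩ := hspan ⟨x, hx⟩
    have hd' : d • x₁ = x := congrArg Subtype.val hd
    have hd0 : d ≠ 0 := fun e => hx0 (by rw [← hd', e, zero_smul])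
    exact ⟨c / d, by rw [← hd', smul_smul, div_mul_cancel₀ _ hd0]; exact (congrArg Subtype.val hc).symm⟩
  have hfix : ∀ (g : ↥(commutator (oGroup Q))), g.1.1 v = v → ∃ l : ℂ, l ≠ 0 ∧ ρ (liftC Q g) x = l • x := by
    intro g hg
    have h1 := mem_move hQ hn ρ ψ (g := liftC Q g) (h := g.1) one_ne_zero
      (by rw [one_smul]; exact Prod.ext rfl (map_zero g.1.1)) (fun _ => rfl) hx
    rw [hg, inv_one, one_smul] at h1
    obtain ⟨l, hl⟩ := hline _ h1
    refine ⟨l, fun e => hx0 ?_, hl⟩
    rw [e, zero_smul] at hl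
    have h2 := congrArg (ρ (liftC Q g)⁻¹) hl
    rwa [← Module.End.mul_apply, ← map_mul, inv_mul_cancel, map_one, map_zero] at h2
  set U := Submodule.span F (Set.range ![u, w, v]) with hU
  have hU3 : finrank F U ≤ 3 := (finrank_range_le_card _).trans (by simp)
  have huU : u ∈ U := Submodule.subset_span ⟨0, rfl⟩
  have hwU : w ∈ U := Submodule.subset_span ⟨1, rfl⟩
  have hvU : v ∈ U := Submodule.subset_span ⟨2, rfl⟩
  by_cases hroom2 : 2 * finrank F U < finrank F W
  · -- a commutator inside the stabiliser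
    obtain ⟨y, z, hperp, hyz⟩ := exists_pair_perp hQ hroom2
    obtain ⟨huy, huz⟩ := hperp u huU
    obtain ⟨hwy, hwz⟩ := hperp w hwU
    obtain ⟨hvy, hvz⟩ := hperp v hvU
    set A : ↥(commutator (oGroup Q)) := ⟨siegel Q u y, siegel_mem_commutator hQ hn5 hu huy⟩
    set B : ↥(commutator (oGroup Q)) := ⟨siegel Q w z, siegel_mem_commutator hQ hn5 hw hwz⟩
    obtain ⟨α, hα, hAx⟩ := hfix A (by
      show (siegel Q u y).1 v = v
      rw [siegel_apply hu huy, hvu, hvy]
      simp)
    obtain ⟨β, hβ, hBx⟩ := hfix B (by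
      show (siegel Q w z).1 v = v
      rw [siegel_apply hw hwz, hvw, hvz]
      simp)
    have hAB : A * B = B * ⟨siegel Q u w, siegel_mem_commutator hQ hn5 hu huw⟩ * A := by
      refine Subtype.ext ?_
      show siegel Q u y * siegel Q w z = siegel Q w z * siegel Q u w * siegel Q u y
      rw [← mul_inv_eq_iff_eq_mul]
      have h1 := siegel_conj (siegel Q u y) hw hwz
      have hAw : (siegel Q u y).1 w = w := by
        rw [siegel_apply hu huy, polar_comm (⇑Q) w u, huw, hwy]
        simp
      have hAz : (siegel Q u y).1 z = z + (-1 : F) • u := by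
        rw [siegel_apply hu huy, polar_comm (⇑Q) z u, huz, polar_comm (⇑Q) z y, hyz]
        module
      rw [h1, hAw, hAz, ← siegel_mul hw hwz (by rw [polar_smul_right, polar_comm (⇑Q) w u, huw, smul_zero])]
      congr 1
      have h2 := siegel_det hu hw huw 0 1 (-1) 0
      simpa using h2
    have h3 := congrArg (fun g => ρ (liftC Q g) x) hAB
    simp only [map_mul, Module.End.mul_apply] at h3
    rw [hBx, map_smul, hAx, map_smul, map_smul, smul_smul] at h3
    set gx := ρ (liftC Q ⟨siegel Q u w, siegel_mem_commutator hQ hn5 hu huw⟩) x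
    have h4 : ρ (liftC Q B) gx = ρ (liftC Q B) x := by
      rw [hBx]
      refine smul_right_injective X hα ?_
      show α • ρ (liftC Q B) gx = α • β • x
      rw [← h3, smul_smul, mul_comm]
    exact hinj _ _ _ h4
  -- a torus in the stabiliser
  obtain ⟨ha0, -, hscale⟩ := hroom.resolve_left fun h7 => hroom2 (by omega)
  have hli3 : LinearIndependent F ![u, w, v] := by
    by_contra hdep
    rw [linearIndependent_iff_card_le_finrank_span, Fintype.card_fin, not_le] at hdep
    exact hroom2 (by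
      have : finrank F U < 3 := hdep
      omega)
  have hQv : Q v = 0 := hva.trans ha0
  obtain ⟨α, hα0, hα⟩ := hscale.resolve_left fun hts => by
    have h := hts U fun x hx => by
      obtain ⟨c, rfl⟩ := (Submodule.mem_span_range_iff_exists_fun F).1 hx
      rw [Fin.sum_univ_three]
      simp [quad_add, quad_smul, polar_add_left, polar_smul_left, polar_smul_right, hu, hw, hQv, huw,
        polar_comm (⇑Q) u v, polar_comm (⇑Q) w v, hvu, hvw]
    rw [hU, finrank_span_eq_card hli3, Fintype.card_fin] at h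
    omega
  have hli' : LinearIndependent F ![u, α • w, v] := by
    have h := hli3.units_smul ![1, Units.mk0 α hα0, 1]
    convert h using 1
    funext i
    fin_cases i <;> simp [Units.smul_def]
  obtain ⟨k₁, hk₁, hk₁v⟩ := quad_exists_map_family hQ ![u, w, v] ![u, α • w, v] hli3 hli'
    (fun i => by fin_cases i <;> simp [quad_smul, hu, hw, hQv])
    (fun i j => by
      fin_cases i <;> fin_cases j <;>
        simp [QuadraticMap.polar_self, QuadraticMap.map_smul, quad_smul, polar_smul_left, polar_smul_right, hu, hw, hQv, huw, hvu, hvw,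
          polar_comm (⇑Q) w u, polar_comm (⇑Q) u v, polar_comm (⇑Q) w v])
  set k₂ : oGroup Q := ⟨k₁, hk₁⟩ * ⟨k₁, hk₁⟩ with hk₂
  have hk2u : k₂.1 u = u := by
    show k₁ (k₁ u) = u
    rw [show k₁ u = u from hk₁v 0, show k₁ u = u from hk₁v 0]
  have hk2w : k₂.1 w = (α * α) • w := by
    show k₁ (k₁ w) = _
    rw [show k₁ w = α • w from hk₁v 1, map_smul, show k₁ w = α • w from hk₁v 1, smul_smul]
  have hk2v : k₂.1 v = v := by
    show k₁ (k₁ v) = v
    rw [show k₁ v = v from hk₁v 2, show k₁ v = v from hk₁v 2]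
  set k : OG Q := ⟨oExtend Q k₂, by rw [hk₂, map_mul]; exact sq_mem hQ hn _⟩
  have hkx := mem_move hQ hn ρ ψ (g := k) (h := k₂) one_ne_zero
    (by rw [one_smul]; exact Prod.ext rfl (map_zero k₂.1)) (fun _ => rfl) hx
  rw [hk2v, inv_one, one_smul] at hkx
  obtain ⟨l, hl⟩ := hline _ hkx
  have hl0 : l ≠ 0 := fun e => hx0 (by
    rw [e, zero_smul] at hl
    have h2 := congrArg (ρ k⁻¹) hl
    rwa [← Module.End.mul_apply, ← map_mul, inv_mul_cancel, map_one, map_zero] at h2)
  let R : F → ↥(commutator (oGroup Q)) := fun c =>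
    ⟨siegel Q u (c • w), siegel_mem_commutator hQ hn5 hu (by rw [polar_smul_right, huw, smul_zero])⟩
  have hRfix : ∀ c : F, (R c).1.1 v = v := fun c => by
    show (siegel Q u (c • w)).1 v = v
    rw [siegel_apply hu (by rw [polar_smul_right, huw, smul_zero]), hvu, polar_smul_right, hvw]
    simp
  have hR : ∀ c : F, k * liftC Q (R c) = liftC Q (R (α * α * c)) * k := fun c => by
    refine Subtype.ext ?_
    show oExtend Q k₂ * oExtend Q (R c).1 = oExtend Q (R (α * α * c)).1 * oExtend Q k₂
    rw [← map_mul, ← map_mul]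
    congr 1
    rw [← mul_inv_eq_iff_eq_mul]
    show k₂ * siegel Q u (c • w) * k₂⁻¹ = siegel Q u ((α * α * c) • w)
    rw [siegel_conj k₂ hu (by rw [polar_smul_right, huw, smul_zero]), hk2u, map_smul, hk2w, smul_smul, mul_comm]
  set c := (α * α - 1)⁻¹ with hc
  obtain ⟨μ, hμ0, hμ⟩ := hfix (R c) (hRfix c)
  have h3 := congrArg (fun g => ρ g x) (hR c)
  simp only [map_mul, Module.End.mul_apply] at h3
  rw [hμ, map_smul, hl, map_smul, smul_comm] at h3
  have h4 : ρ (liftC Q (R (α * α * c))) x = μ • x := (smul_right_injective X hl0 h3).symm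
  have h5 : R (α * α * c) = R c * ⟨siegel Q u w, siegel_mem_commutator hQ hn5 hu huw⟩ := Subtype.ext (by
    show siegel Q u ((α * α * c) • w) = siegel Q u (c • w) * siegel Q u w
    rw [siegel_mul hu (by rw [polar_smul_right, huw, smul_zero]) huw]
    congr 1
    rw [show α * α * c = c + 1 by linear_combination mul_inv_cancel₀ (sub_ne_zero.2 hα), add_smul, one_smul])
  rw [h5, map_mul, map_mul, Module.End.mul_apply, ← hμ] at h4
  exact hinj _ _ _ h4

/-- The Levi factor moves the fixed space of the radical. -/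
theorem exists_moved (hn5 : 5 ≤ finrank F W)
    (hroom : 7 ≤ finrank F W ∨ (a = 0 ∧ 5 ≤ finrank F W ∧ ((∀ U : Submodule F W, (∀ x ∈ U, Q x = 0) → finrank F U ≤ 2) ∨
      ∃ α : F, α ≠ 0 ∧ α * α ≠ 1))) :
    ∃ h, ∃ y ∈ weight ρ (eHom hQ hn) 0, ρ (liftC Q h) y ≠ y := by
  by_contra hC
  push Not at hC
  have hu0 : u ≠ 0 := hli.ne_zero 0
  set h : oGroup Q := siegel Q u w with hh
  set g : OG Q := liftC Q ⟨h, siegel_mem_commutator hQ hn5 hu huw⟩ with hg
  -- `g` is conjugate to a root element of the radical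
  have hembli : LinearIndependent F ![(emb u : (F × F) × W), emb w] := by
    rw [LinearIndependent.pair_iff]
    intro s t hst
    exact LinearIndependent.pair_iff.1 hli s t (by simpa [emb] using congrArg Prod.snd hst)
  obtain ⟨k, hk, hka, hkb⟩ := exists_map_pair hQ hn hembli (by rw [hyp_emb, hu]) (by rw [hyp_emb, hw])
    (by rw [polar_emb, huw]) hu0 hu
  have hconj : (⟨k, hk⟩ : OG Q) * g * (⟨k, hk⟩ : OG Q)⁻¹ = eHom hQ hn (Multiplicative.ofAdd u) := Subtype.ext (by
    rw [Subgroup.coe_mul, Subgroup.coe_mul, Subgroup.coe_inv, eHom_val]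
    show k * oExtend Q (siegel Q u w) * k⁻¹ = _
    rw [oExtend_siegel hu huw,
      siegel_conj k (by rw [hyp_emb, hu]) (by rw [polar_emb, huw]), hka, hkb])
  have htr : LinearMap.trace ℂ X (ρ g) = LinearMap.trace ℂ X (ρ (eHom hQ hn (Multiplicative.ofAdd u))) := by
    rw [← hconj]
    exact (ρ.char_conj g ⟨k, hk⟩).symm
  -- the trace of `g` by weights
  have hfixv : ∀ v, h.1 v = v ↔ polar Q v u = 0 ∧ polar Q v w = 0 := by
    intro v
    rw [hh, siegel_apply hu huw, hw, zero_mul, add_zero]
    refine ⟨fun e => ?_, fun e => by rw [e.1, e.2]; simp⟩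
    have e' : (-polar Q v w) • u + polar Q v u • w = 0 := by
      rw [add_sub_assoc, add_eq_left] at e
      rw [neg_smul, neg_add_eq_sub, e]
    obtain ⟨e1, e2⟩ := LinearIndependent.pair_iff.1 hli _ _ e'
    exact ⟨e2, neg_eq_zero.1 e1⟩
  have hterm : ∀ v, LinearMap.trace ℂ X (ρ g * proj ρ (eHom hQ hn) (chi Q ψ v)) =
      (mult hQ hn ρ ψ v : ℂ) * (if h.1 v = v then 1 else 0) := by
    intro v
    split_ifs with hv
    · rw [mul_one]
      refine Eq.trans ?_ (trace_proj ρ (eHom hQ hn) (chi Q ψ v))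
      congr 1
      refine LinearMap.ext fun x => ?_
      rw [Module.End.mul_apply]
      rcases eq_or_ne v 0 with rfl | hv0
      · have hm : proj ρ (eHom hQ hn) (chi Q ψ 0) x ∈ weight ρ (eHom hQ hn) 0 := by
          have := proj_mem ρ (eHom hQ hn) (chi Q ψ 0) x
          rw [chi_zero] at this ⊢
          exact this
        exact hC _ _ hm
      · by_cases hva : Q v = a
        · exact line_id hQ hn ρ ψ a hsingle hu hw huw hli hn5 hroom hv0 hva ((hfixv v).1 hv).1 ((hfixv v).1 hv).2
            (proj_mem ρ _ _ x)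
        · have h0 : weight ρ (eHom hQ hn) (chi Q ψ v) = ⊥ := by
            refine Submodule.finrank_eq_zero.1 ?_
            have := hsingle v hv0
            rwa [if_neg hva] at this
          have := proj_mem ρ (eHom hQ hn) (chi Q ψ v) x
          rw [h0, Submodule.mem_bot] at this
          rw [this, map_zero]
    · rw [mul_zero]
      have h1 : ρ g * proj ρ (eHom hQ hn) (chi Q ψ v) =
          proj ρ (eHom hQ hn) (chi Q ψ (h.1 v)) * (ρ g * proj ρ (eHom hQ hn) (chi Q ψ v)) := by
        classical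
        refine LinearMap.ext fun x => ?_
        have hm := mem_move hQ hn ρ ψ (g := g) (h := h) one_ne_zero
          (by rw [one_smul]; exact Prod.ext rfl (map_zero h.1)) (fun _ => rfl)
          (proj_mem ρ (eHom hQ hn) (chi Q ψ v) x)
        rw [inv_one, one_smul] at hm
        rw [Module.End.mul_apply, Module.End.mul_apply, Module.End.mul_apply, proj_of_mem ρ _ hm, if_pos rfl]
      rw [h1, LinearMap.trace_mul_comm, mul_assoc, proj_mul_eq_zero hQ hn ρ
        (fun e => hv ((chi_bijective hQ ψ hψ).1 e).symm), mul_zero, map_zero]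
  have hg' : LinearMap.trace ℂ X (ρ g) = ∑ v, (mult hQ hn ρ ψ v : ℂ) * (if h.1 v = v then 1 else 0) := by
    rw [trace_eq_sum hQ hn ρ ψ _ hψ]
    exact Finset.sum_congr rfl fun v _ => hterm v
  rw [htr, trace_eHom hQ hn ρ ψ hψ, sum_single hQ hn ρ ψ a hsingle, sum_single hQ hn ρ ψ a hsingle,
    polar_zero_right, AddChar.map_zero_eq_one, if_pos (map_zero h.1)] at hg'
  have h1 := (level_identities hQ hu hw huw hli hdim a ψ hψ).1
  have h2 := sum_level (Q := Q) a fun v => ψ (polar Q v u)
  have h3 := sum_level (Q := Q) a fun v : W => if h.1 v = v then (1 : ℂ) else 0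
  simp only [polar_comm (⇑Q) u] at hg'
  rw [polar_zero_left, AddChar.map_zero_eq_one] at h2
  rw [if_pos (map_zero h.1)] at h3
  have h4 : (∑ v ∈ Finset.univ.filter (fun v => Q v = a), if h.1 v = v then (1 : ℂ) else 0) =
      (Nat.card {v // polar Q v u = 0 ∧ polar Q v w = 0 ∧ Q v = a} : ℂ) := by
    rw [← Finset.sum_filter, Finset.sum_const, nsmul_eq_mul, mul_one, Finset.filter_filter, Nat.card_eq_fintype_card,
      Fintype.card_subtype]
    congr 2
    exact Finset.filter_congr fun v _ => by rw [hfixv]; tauto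
  have h0 : (Fintype.card F : ℂ) ^ n = 0 := by linear_combination h2 + h1 - h3 - h4 - hg'
  exact pow_ne_zero n (Nat.cast_ne_zero.2 Fintype.card_ne_zero) h0

end CfsgLib.MinDeg.Om
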