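import Cfsg.Agent.MinDeg.OmegaModel
import Cfsg.Agent.MinDeg.ConstTrace
import Cfsg.Agent.MinDeg.Faithful
import Cfsg.Agent.MinDeg.Irreducible
import Cfsg.Agent.Char.Central

/-!
The weights of the abelian radical of a point stabiliser in `Ω(H ⊕ W)`.
-/

set_option autoImplicit false
set_option linter.style.haveILetI false

namespace CfsgLib.MinDeg.Om

open QuadraticMap Module CfsgLib.Forms CfsgLib.Quad

variable {F : Type*} [Field F] [Fintype F] {W : Type*} [AddCommGroup W] [Module F W] [FiniteDimensional F W]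
  {Q : QuadraticForm F W}

/-- `Ω(H ⊕ W)`. -/
abbrev OG (Q : QuadraticForm F W) : Type _ := ↥(commutator (oGroup (hypSum Q)))

/-- The Levi embedding of `Ω(W)`. -/
def liftC (Q : QuadraticForm F W) : ↥(commutator (oGroup Q)) →* OG Q :=
  ((oExtend Q).comp (commutator (oGroup Q)).subtype).codRestrict _ fun g => by
    have h : (commutator (oGroup Q)).map (oExtend Q) ≤ commutator (oGroup (hypSum Q)) := by
      rw [_root_.commutator_def, Subgroup.map_commutator, _root_.commutator_def]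
      exact Subgroup.commutator_mono le_top le_top
    exact h ⟨g.1, g.2, rfl⟩

omit [Fintype F] [FiniteDimensional F W] in
theorem liftC_val (g : ↥(commutator (oGroup Q))) : (liftC Q g).1 = oExtend Q g.1 := rfl

variable (hQ : (polarBilin Q).Nondegenerate) (hn : 4 ≤ finrank F W)

/-- The radical of the stabiliser of the first hyperbolic vector. -/
noncomputable def eHom : Multiplicative W →* OG Q :=
  MonoidHom.mk' (fun w => ⟨siegel (hypSum Q) e₀ (emb (Multiplicative.toAdd w)),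
      siegel_mem_commutator (hypSum_nondeg hQ) (by rw [finrank_hyp]; omega) hyp_e₀ (polar_e₀_emb _)⟩)
    fun x y => Subtype.ext (by
      show siegel (hypSum Q) e₀ (emb (Multiplicative.toAdd (x * y))) = siegel (hypSum Q) e₀ _ * siegel (hypSum Q) e₀ _
      rw [siegel_mul hyp_e₀ (polar_e₀_emb _) (polar_e₀_emb _), toAdd_mul]
      congr 1
      simp [emb])

theorem eHom_val (w : W) : (eHom hQ hn (Multiplicative.ofAdd w)).1 = siegel (hypSum Q) e₀ (emb w) := rfl

theorem eHom_move {g : OG Q} {h : oGroup Q} {c : F} (hc : c ≠ 0) (hge : g.1.1 e₀ = c • e₀)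
    (hgw : ∀ w, g.1.1 (emb w) = emb (h.1 w)) (x : W) :
    eHom hQ hn (Multiplicative.ofAdd x) * g = g * eHom hQ hn (Multiplicative.ofAdd (c⁻¹ • h.1.symm x)) := by
  refine Subtype.ext ?_
  rw [Subgroup.coe_mul, Subgroup.coe_mul, eHom_val, eHom_val]
  have h1 := siegel_conj g.1 (hyp_e₀ (Q := Q)) (polar_e₀_emb (c⁻¹ • h.1.symm x))
  rw [hge, hgw, siegel_smul hyp_e₀ (polar_e₀_emb _)] at h1
  have h2 : c • emb (h.1 (c⁻¹ • h.1.symm x)) = (emb x : (F × F) × W) := by
    rw [map_smul, LinearEquiv.apply_symm_apply]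
    simp [emb, smul_smul, hc]
  rw [h2, mul_inv_eq_iff_eq_mul] at h1
  exact h1.symm

variable {X : Type*} [AddCommGroup X] [Module ℂ X] [FiniteDimensional ℂ X] (ρ : Representation ℂ (OG Q) X)
  (ψ : AddChar F ℂ)

/-- The character of the radical attached to a vector. -/
noncomputable def chi (Q : QuadraticForm F W) (ψ : AddChar F ℂ) (v : W) : AddChar W ℂ :=
  ψ.compAddMonoidHom (polarFun Q v).toAddMonoidHom

omit [FiniteDimensional F W] [Fintype F] in
theorem chi_apply (v w : W) : chi Q ψ v w = ψ (polar Q w v) := rfl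

omit [FiniteDimensional F W] [Fintype F] in
theorem chi_zero : chi Q ψ 0 = 0 := by
  refine DFunLike.ext _ _ fun w => ?_
  rw [chi_apply, polar_zero_right, AddChar.map_zero_eq_one]
  rfl

/-- The multiplicity of a weight. -/
noncomputable def mult (v : W) : ℕ := finrank ℂ (weight ρ (eHom hQ hn) (chi Q ψ v))

theorem mem_move {g : OG Q} {h : oGroup Q} {c : F} (hc : c ≠ 0) (hge : g.1.1 e₀ = c • e₀)
    (hgw : ∀ w, g.1.1 (emb w) = emb (h.1 w)) {v : W} {y : X} (hy : y ∈ weight ρ (eHom hQ hn) (chi Q ψ v)) :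
    ρ g y ∈ weight ρ (eHom hQ hn) (chi Q ψ (c⁻¹ • h.1 v)) := by
  intro x
  rw [← Module.End.mul_apply, ← map_mul, eHom_move hQ hn hc hge hgw, map_mul, Module.End.mul_apply,
    hy _, map_smul]
  congr 1
  rw [chi_apply, chi_apply, polar_smul_left, polar_smul_right]
  congr 1
  congr 1
  rw [← polar_oGroup h (h.1.symm x) v, LinearEquiv.apply_symm_apply]

theorem mult_move_le {g : OG Q} {h : oGroup Q} {c : F} (hc : c ≠ 0) (hge : g.1.1 e₀ = c • e₀)
    (hgw : ∀ w, g.1.1 (emb w) = emb (h.1 w)) (v : W) :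
    mult hQ hn ρ ψ v ≤ mult hQ hn ρ ψ (c⁻¹ • h.1 v) := by
  refine LinearMap.finrank_le_finrank_of_injective
    (f := ((ρ g).comp (weight ρ (eHom hQ hn) (chi Q ψ v)).subtype).codRestrict _
      fun y => mem_move hQ hn ρ ψ hc hge hgw y.2) fun y z e => Subtype.ext ?_
  have h1 := congrArg (fun z : weight ρ (eHom hQ hn) (chi Q ψ (c⁻¹ • h.1 v)) => ρ g⁻¹ (z : X)) e
  change ρ g⁻¹ (ρ g y) = ρ g⁻¹ (ρ g z) at h1
  rwa [← Module.End.mul_apply, ← Module.End.mul_apply, ← map_mul, inv_mul_cancel, map_one] at h1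

theorem mult_level {v v' : W} (hv : v ≠ 0) (hv' : v' ≠ 0) (h : Q v = Q v') :
    mult hQ hn ρ ψ v = mult hQ hn ρ ψ v' := by
  suffices key : ∀ v v' : W, v ≠ 0 → v' ≠ 0 → Q v = Q v' → mult hQ hn ρ ψ v ≤ mult hQ hn ρ ψ v' from
    le_antisymm (key v v' hv hv' h) (key v' v hv' hv h.symm)
  intro v v' hv hv' h
  obtain ⟨g, hg, hgv⟩ := exists_map_vec hQ hn hv hv' h
  have h1 := mult_move_le hQ hn ρ ψ (g := ⟨oExtend Q g, hg⟩) (h := g) one_ne_zero (by
    rw [one_smul]; exact Prod.ext rfl (map_zero g.1)) (fun w => rfl) v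
  rwa [hgv, inv_one, one_smul] at h1

theorem mult_scale {t : F} (ht : t ≠ 0) {v v' : W} (hv : v ≠ 0) (hv' : v' ≠ 0) (h : Q v' = t * t * Q v) :
    mult hQ hn ρ ψ v ≤ mult hQ hn ρ ψ v' := by
  obtain ⟨k, hk, g, hke, hkw⟩ := exists_scaling hQ hn (inv_ne_zero ht)
  refine (mult_move_le hQ hn ρ ψ (g := ⟨k, hk⟩) (h := g) (inv_ne_zero ht) hke hkw v).trans
    (le_of_eq (mult_level hQ hn ρ ψ ?_ hv' ?_))
  · rw [inv_inv]
    exact smul_ne_zero ht fun e => hv (g.1.injective (e.trans (map_zero g.1).symm))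
  · rw [inv_inv, quad_smul, g.2, h]

variable [Fintype W]

include hQ in
theorem chi_bijective (hψ : ψ ≠ 0) : Function.Bijective (chi Q ψ) := by
  classical
  rw [Fintype.bijective_iff_injective_and_card]
  refine ⟨fun v v' h => ?_, AddChar.card_eq.symm⟩
  by_contra hne
  obtain ⟨y, hy⟩ := exists_polar_ne hQ (sub_ne_zero.2 hne)
  obtain ⟨b, hb⟩ : ∃ b, ψ b ≠ 1 := by
    by_contra hc
    push Not at hc
    exact hψ (DFunLike.ext _ _ fun x => by rw [hc]; rfl)
  have h1 := DFunLike.congr_fun h ((b / polar Q (v - v') y) • y)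
  rw [chi_apply, chi_apply] at h1
  have h2 : polar Q ((b / polar Q (v - v') y) • y) v = polar Q ((b / polar Q (v - v') y) • y) v' + b := by
    have h3 : b / polar Q (v - v') y * polar Q y (v - v') = b := by
      rw [polar_comm (⇑Q) y, div_mul_cancel₀ _ hy]
    rw [polar_smul_left, polar_smul_left, smul_eq_mul, smul_eq_mul]
    rw [polar_sub_right] at h3
    linear_combination h3
  rw [h2, AddChar.map_add_eq_mul] at h1
  exact hb ((mul_right_eq_self₀.1 h1).resolve_right (fun e => by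
    have := AddChar.val_isUnit ψ (polar Q ((b / polar Q (v - v') y) • y) v')
    rw [e] at this
    exact not_isUnit_zero this))

theorem proj_mul_eq_zero {χ χ' : AddChar W ℂ} (h : χ ≠ χ') :
    proj ρ (eHom hQ hn) χ * proj ρ (eHom hQ hn) χ' = 0 := by
  classical
  refine LinearMap.ext fun x => ?_
  rw [Module.End.mul_apply, proj_of_mem ρ (eHom hQ hn) (proj_mem ρ (eHom hQ hn) χ' x), if_neg (Ne.symm h)]
  rfl

theorem trace_eq_sum (g : Module.End ℂ X) (hψ : ψ ≠ 0) :
    LinearMap.trace ℂ X g = ∑ v, LinearMap.trace ℂ X (g * proj ρ (eHom hQ hn) (chi Q ψ v)) := by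
  rw [Function.Bijective.sum_comp (chi_bijective hQ ψ hψ) fun χ => LinearMap.trace ℂ X (g * proj ρ (eHom hQ hn) χ),
    ← map_sum]
  congr 1
  refine LinearMap.ext fun x => ?_
  rw [← Finset.mul_sum, Module.End.mul_apply, LinearMap.sum_apply, sum_proj]

theorem trace_eHom (hψ : ψ ≠ 0) (u : W) :
    LinearMap.trace ℂ X (ρ (eHom hQ hn (Multiplicative.ofAdd u))) =
      ∑ v, (mult hQ hn ρ ψ v : ℂ) * ψ (polar Q u v) := by
  rw [trace_eq_sum hQ hn ρ ψ _ hψ]
  refine Finset.sum_congr rfl fun v _ => ?_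
  rw [show ρ (eHom hQ hn (Multiplicative.ofAdd u)) * proj ρ (eHom hQ hn) (chi Q ψ v) =
      (ψ (polar Q u v)) • proj ρ (eHom hQ hn) (chi Q ψ v) from LinearMap.ext fun x =>
        proj_mem ρ (eHom hQ hn) (chi Q ψ v) x u,
    map_smul, trace_proj, smul_eq_mul, mul_comm]
  rfl

theorem sum_mult (hψ : ψ ≠ 0) : ∑ v, mult hQ hn ρ ψ v = finrank ℂ X := by
  apply Nat.cast_injective (R := ℂ)
  rw [← LinearMap.trace_one ℂ X, trace_eq_sum hQ hn ρ ψ 1 hψ, Nat.cast_sum]
  refine Finset.sum_congr rfl fun v _ => ?_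
  rw [one_mul, trace_proj]
  rfl

theorem exists_mult (hψ : ψ ≠ 0) (hρ : ρ.IsIrreducible) (h2 : 2 ≤ finrank ℂ X) :
    ∃ v, v ≠ 0 ∧ 0 < mult hQ hn ρ ψ v := by
  by_contra hc
  push Not at hc
  haveI : Nontrivial W := Module.nontrivial_of_finrank_pos (R := F) (by omega)
  obtain ⟨w, hw⟩ := exists_ne (0 : W)
  have hn' : 5 ≤ finrank F ((F × F) × W) := by rw [finrank_hyp]; omega
  haveI := isSimpleGroup_omega (hypSum_nondeg hQ) hn'
  have hperf := commutator_commutator_eq_top (hypSum_nondeg hQ) hn'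
  refine rho_ne_one hperf hρ h2 (a := eHom hQ hn (Multiplicative.ofAdd w)) ?_
    (rho_eq_one_of_weights ρ (eHom hQ hn) (fun χ hχ => ?_) w)
  · rw [center_iff (hypSum_nondeg hQ) hn']
    rintro ⟨c, -, hc'⟩
    have h1 := congrArg Prod.snd (hc' f₀)
    rw [eHom_val, siegel_apply hyp_e₀ (polar_e₀_emb w), polar_comm (⇑(hypSum Q)) f₀ e₀, hyp_ef] at h1
    simp [e₀, f₀, emb] at h1
    exact hw h1
  · obtain ⟨v, rfl⟩ := (chi_bijective hQ ψ hψ).2 χ
    exact Submodule.finrank_eq_zero.1 (Nat.le_zero.1 (hc v fun e => hχ (by rw [e, chi_zero])))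

/-- A constituent of degree at least two. -/
theorem exists_big_constituent {H : Type*} [Group H] [Finite H] (hperf : commutator H = ⊤) {Y : Type*}
    [AddCommGroup Y] [Module ℂ Y] [FiniteDimensional ℂ Y] (r : Representation ℂ H Y) (C : Submodule ℂ Y)
    (hC : ∀ h, ∀ y ∈ C, r h y ∈ C) (hmove : ∃ h, ∃ y ∈ C, r h y ≠ y) :
    ∃ (k : ℕ) (σ : Representation ℂ H (Fin k → ℂ)), σ.IsIrreducible ∧ 2 ≤ k ∧ k ≤ finrank ℂ C := by
  let C₀ : Submodule ℂ Y :=
    { carrier := {y | y ∈ C ∧ ∀ h, r h y = y}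
      add_mem' := fun hx hy => ⟨C.add_mem hx.1 hy.1, fun h => by rw [map_add, hx.2, hy.2]⟩
      zero_mem' := ⟨C.zero_mem, fun h => map_zero _⟩
      smul_mem' := fun c x hx => ⟨C.smul_mem c hx.1, fun h => by rw [map_smul, hx.2]⟩ }
  obtain ⟨ε, hε1, hε2, hε3⟩ := exists_equivariant r C₀ fun h y hy => by rw [hy.2]; exact hy
  have hinv : ∀ h, ∀ y ∈ C ⊓ LinearMap.ker ε, r h y ∈ C ⊓ LinearMap.ker ε := fun h y hy =>
    ⟨hC h y hy.1, by
      rw [SetLike.mem_coe, LinearMap.mem_ker, ← LinearMap.comp_apply, hε3, LinearMap.comp_apply,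
        LinearMap.mem_ker.1 hy.2, map_zero]⟩
  have hne : C ⊓ LinearMap.ker ε ≠ ⊥ := fun h0 => by
    obtain ⟨h, y, hy, hne⟩ := hmove
    have h1 : y - ε y ∈ C ⊓ LinearMap.ker ε := ⟨C.sub_mem hy (hε1 y).1, by
      rw [SetLike.mem_coe, LinearMap.mem_ker, map_sub, hε2 _ (hε1 y), sub_self]⟩
    rw [h0, Submodule.mem_bot, sub_eq_zero] at h1
    rw [h1, (hε1 y).2 h] at hne
    exact hne rfl
  obtain ⟨S, hS, hS0, hSi⟩ := exists_irreducible_sub r hinv hne
  haveI := hSi
  obtain ⟨k, σ, hσ, hσc⟩ := CfsgLib.Char.isIrrCharacter_character S.toRepresentation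
  have hk : k = finrank ℂ S.toSubmodule := by
    have h1 := congrFun hσc 1
    rw [Representation.char_one, Representation.char_one, Module.finrank_fin_fun] at h1
    exact_mod_cast h1
  refine ⟨k, σ, hσ, ?_, hk ▸ Submodule.finrank_mono (hS.trans inf_le_left)⟩
  by_contra hlt
  obtain ⟨y, hy, hy0⟩ := Submodule.exists_mem_ne_zero_of_ne_bot hS0
  have h1 := Submodule.one_le_finrank_iff.2 hS0
  obtain ⟨v, hv, hspan⟩ := finrank_eq_one_iff'.1 (show finrank ℂ S.toSubmodule = 1 by omega)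
  have hker : ∀ h, S.toRepresentation h = 1 := by
    have hle : commutator H ≤ S.toRepresentation.toHomUnits.ker := by
      rw [_root_.commutator_def, Subgroup.commutator_le]
      intro g _ h _
      rw [MonoidHom.mem_ker, map_commutatorElement, commutatorElement_eq_one_iff_mul_comm, Units.ext_iff]
      refine LinearMap.ext fun w => ?_
      obtain ⟨a, ha⟩ := hspan (S.toRepresentation g v)
      obtain ⟨b, hb⟩ := hspan (S.toRepresentation h v)
      obtain ⟨c, rfl⟩ := hspan w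
      show S.toRepresentation g (S.toRepresentation h _) = S.toRepresentation h (S.toRepresentation g _)
      rw [map_smul, map_smul, map_smul, map_smul, ← hb, ← ha, map_smul, map_smul, ← ha, ← hb, smul_comm a b]
    intro h
    have h2 := hle (hperf ▸ Subgroup.mem_top h)
    rw [MonoidHom.mem_ker, Units.ext_iff] at h2
    exact h2
  have h2 : y ∈ C₀ := ⟨(hS hy).1, fun h =>
    congrArg Subtype.val (LinearMap.congr_fun (hker h) ⟨y, hy⟩)⟩
  exact hy0 ((hε2 y h2).symm.trans (LinearMap.mem_ker.1 (hS hy).2))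

end CfsgLib.MinDeg.Om
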