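import Mathlib

/-!
Quadratic forms in characteristic two with a given polarisation, congruent to a given one.
-/

set_option autoImplicit false
set_option linter.style.haveILetI false

namespace CfsgLib.MinDeg

variable {F : Type*} [Field F] [Fintype F] [CharP F 2] {V : Type*} [AddCommGroup V] [Module F V]

/-- A quadratic map with its polarisation. -/
structure IsQuad (Q : V → F) (B : V →ₗ[F] V →ₗ[F] F) : Prop where
  smul : ∀ (a : F) (v), Q (a • v) = a ^ 2 * Q v
  add : ∀ u v, Q (u + v) = Q u + Q v + B u v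

variable {Q : V → F} {B : V →ₗ[F] V →ₗ[F] F}

omit [Fintype F] in
theorem IsQuad.self (h : IsQuad Q B) (v : V) : B v v = 0 := by
  have h1 := h.add v v
  rw [← two_smul F v, CharTwo.two_eq_zero, h.smul, CharTwo.add_self_eq_zero] at h1
  simpa using h1.symm

omit [Fintype F] in
theorem IsQuad.symm (h : IsQuad Q B) (u v : V) : B u v = B v u := by
  have h1 := h.add u v
  rw [add_comm u v, h.add] at h1
  linear_combination -h1

/-- The square root. -/
noncomputable def sqrtC (a : F) : F := Classical.choose (FiniteField.isSquare_of_char_two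
  (CharP.ringChar_of_prime_eq_zero Nat.prime_two (CharP.cast_eq_zero F 2)) a)

omit [Fintype F] in
theorem sq_inj {a b : F} (h : a ^ 2 = b ^ 2) : a = b := by
  have h1 : (a + b) ^ 2 = 0 := by rw [CharTwo.add_sq, h, CharTwo.add_self_eq_zero]
  exact CharTwo.add_eq_zero.1 (pow_eq_zero_iff two_ne_zero |>.1 h1)

theorem sqrtC_sq (a : F) : sqrtC a ^ 2 = a := by
  rw [sq]
  exact (Classical.choose_spec (FiniteField.isSquare_of_char_two
    (CharP.ringChar_of_prime_eq_zero Nat.prime_two (CharP.cast_eq_zero F 2)) a)).symm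

omit [Fintype F] in
theorem root_two (a k : F) {x y : F} (hx : x + x ^ 2 * a = k) (hy : y + y ^ 2 * a = k) (hxy : x ≠ y) :
    (x + y) * a = 1 := by
  refine mul_left_cancel₀ (sub_ne_zero.2 hxy) ?_
  rw [mul_one, ← CharTwo.sub_eq_add, CharTwo.sub_eq_add x y]
  have h2 : (2 : F) = 0 := CharTwo.two_eq_zero
  linear_combination hx - hy + h2 * (x * y * a - x + y ^ 2 * a)

theorem card_roots_le (a k : F) [DecidableEq F] :
    (Finset.univ.filter fun x : F => x + x ^ 2 * a = k).card ≤ 2 := by
  rcases (Finset.univ.filter fun x : F => x + x ^ 2 * a = k).eq_empty_or_nonempty with h | ⟨x, hx⟩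
  · simp [h]
  · refine (Finset.card_le_card (t := {x, x + a⁻¹}) fun y hy => ?_).trans Finset.card_le_two
    rw [Finset.mem_filter] at hx hy
    rw [Finset.mem_insert, Finset.mem_singleton]
    by_cases hxy : x = y
    · exact Or.inl hxy.symm
    · refine Or.inr ?_
      have h1 := root_two a k hx.2 hy.2 hxy
      have ha : a ≠ 0 := fun ha => by simp [ha] at h1
      rw [← eq_inv_of_mul_eq_one_left h1, ← add_assoc, CharTwo.add_self_eq_zero, zero_add]

omit [Fintype F] in
/-- A transvection of the polar form. -/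
def transv (B : V →ₗ[F] V →ₗ[F] F) (h : IsQuad Q B) (w : V) (c : F) : V ≃ₗ[F] V :=
  LinearEquiv.ofInvolutive (LinearMap.id + (c • B w).smulRight w) fun x => by
    simp only [LinearMap.add_apply, LinearMap.id_coe, id_eq, LinearMap.smulRight_apply, LinearMap.smul_apply,
      map_add, map_smul, smul_eq_mul, h.self, mul_zero, zero_smul, add_zero]
    rw [add_assoc, ← add_smul, CharTwo.add_self_eq_zero, zero_smul, add_zero]

omit [Fintype F] in
theorem transv_form (h : IsQuad Q B) (w x : V) (c : F) :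
    Q (transv B h w c x) = Q x + (c + c ^ 2 * Q w) * B w x ^ 2 := by
  show Q (x + (c * B w x) • w) = _
  rw [h.add, h.smul, map_smul, smul_eq_mul, h.symm x w]
  ring

/-- The functionals whose squares can be added to the form. -/
def Addable (Q : V → F) (l : V →ₗ[F] F) : Prop := ∃ g : V ≃ₗ[F] V, ∀ x, Q x + l x ^ 2 = Q (g x)

theorem addable_transv (h : IsQuad Q B) (w : V) (c : F) : Addable Q (sqrtC (c + c ^ 2 * Q w) • B w) :=
  ⟨transv B h w c, fun x => by rw [transv_form h, LinearMap.smul_apply, smul_eq_mul, mul_pow, sqrtC_sq]⟩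

variable [Finite V]

/-- Number of addable functionals. -/
noncomputable def fibre (Q : V → F) : ℕ := Nat.card {l : V →ₗ[F] F // Addable Q l}

theorem fibre_ge (h : IsQuad Q B) {u v : V} (huv : B u v = 1) :
    Fintype.card F * (Fintype.card F - 1) ≤ 2 * fibre Q ∧
    ((∃ y z : V, B y u = 0 ∧ B y v = 0 ∧ B z u = 0 ∧ B z v = 0 ∧ B y z ≠ 0) →
      Fintype.card F * (Fintype.card F - 1) + 2 ≤ 2 * fibre Q) := by
  classical
  haveI := Fintype.ofFinite V
  haveI : Finite (V →ₗ[F] F) := Module.finite_of_finite F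
  haveI := Fintype.ofFinite (V →ₗ[F] F)
  set q := Fintype.card F with hq
  have hq2 : 2 ≤ q := Fintype.one_lt_card
  let fn : (F × F) × F → V →ₗ[F] F := fun s =>
    sqrtC (s.2 + s.2 ^ 2 * Q (s.1.1 • u + s.1.2 • v)) • B (s.1.1 • u + s.1.2 • v)
  set S : Finset ((F × F) × F) := (Finset.univ.erase (0 : F × F)) ×ˢ Finset.univ with hS
  set L := S.image fn with hL
  have hBv : ∀ (a b : F), B (a • u + b • v) v = a := fun a b => by simp [h.self, huv]
  have hBu : ∀ (a b : F), B (a • u + b • v) u = b := fun a b => by simp [h.self, h.symm v u, huv]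
  have hmem : ∀ l ∈ L, Addable Q l := by
    intro l hl
    obtain ⟨s, -, rfl⟩ := Finset.mem_image.1 hl
    exact addable_transv h _ _
  have hScard : S.card = (q * q - 1) * q := by
    rw [hS, Finset.card_product, Finset.card_erase_of_mem (Finset.mem_univ _), Finset.card_univ,
      Finset.card_univ, Fintype.card_prod]
  have hzero : (0 : V →ₗ[F] F) ∈ L := by
    refine Finset.mem_image.2 ⟨((1, 0), 0), by simp [hS], ?_⟩
    have : sqrtC (0 : F) = 0 := pow_eq_zero_iff two_ne_zero |>.1 (sqrtC_sq 0)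
    simp [fn, this]
  have hfib0 : (S.filter fun s => fn s = 0).card ≤ 2 * (q * q - 1) := by
    refine (Finset.card_le_mul_card_image (f := Prod.fst) _ 2 fun w hw => ?_).trans
      (Nat.mul_le_mul_left _ ?_)
    · refine (Finset.card_le_card_of_injOn Prod.snd
        (t := Finset.univ.filter fun x : F => x + x ^ 2 * Q (w.1 • u + w.2 • v) = 0) (fun s hs => ?_) ?_).trans
        (card_roots_le _ _)
      · rw [Finset.mem_coe, Finset.mem_filter, Finset.mem_filter] at hs
        obtain ⟨⟨hsS, hs0⟩, rfl⟩ := hs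
        rw [Finset.mem_coe, Finset.mem_filter]
        refine ⟨Finset.mem_univ _, ?_⟩
        have hne : B (s.1.1 • u + s.1.2 • v) ≠ 0 := fun e => by
          have h1 := hBv s.1.1 s.1.2
          have h2 := hBu s.1.1 s.1.2
          rw [e, LinearMap.zero_apply] at h1 h2
          simp only [hS, Finset.mem_product, Finset.mem_erase] at hsS
          exact hsS.1.1 (Prod.ext h1.symm h2.symm)
        have h3 := (smul_eq_zero.1 hs0).resolve_right hne
        rw [← sqrtC_sq (s.2 + _), h3]
        simp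
      · intro s hs s' hs' e
        rw [Finset.mem_coe, Finset.mem_filter] at hs hs'
        exact Prod.ext (hs.2.trans hs'.2.symm) e
    · refine (Finset.card_le_card (t := Finset.univ.erase (0 : F × F)) ?_).trans ?_
      · intro w hw
        obtain ⟨s, hs, rfl⟩ := Finset.mem_image.1 hw
        rw [Finset.mem_filter, hS, Finset.mem_product] at hs
        exact hs.1.1
      · rw [Finset.card_erase_of_mem (Finset.mem_univ _), Finset.card_univ, Fintype.card_prod]
  have hfib : ∀ l : V →ₗ[F] F, l ≠ 0 → (S.filter fun s => fn s = l).card ≤ 2 * (q - 1) := by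
    intro l hl
    have hr : ∀ s ∈ S.filter (fun s => fn s = l), sqrtC (s.2 + s.2 ^ 2 * Q (s.1.1 • u + s.1.2 • v)) ≠ 0 ∧
        l v = sqrtC (s.2 + s.2 ^ 2 * Q (s.1.1 • u + s.1.2 • v)) * s.1.1 ∧
        l u = sqrtC (s.2 + s.2 ^ 2 * Q (s.1.1 • u + s.1.2 • v)) * s.1.2 := by
      intro s hs
      rw [Finset.mem_filter] at hs
      rw [← hs.2]
      refine ⟨fun e => hl (by rw [← hs.2]; simp only [fn, e, zero_smul]), ?_, ?_⟩
      · simp only [fn, LinearMap.smul_apply, hBv, smul_eq_mul]
      · simp only [fn, LinearMap.smul_apply, hBu, smul_eq_mul]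
    refine (Finset.card_le_mul_card_image (f := Prod.fst) _ 2 fun w hw => ?_).trans
      (Nat.mul_le_mul_left _ ?_)
    · obtain ⟨s₀, hs₀, rfl⟩ := Finset.mem_image.1 hw
      refine (Finset.card_le_card_of_injOn Prod.snd
        (t := Finset.univ.filter fun x : F => x + x ^ 2 * Q (s₀.1.1 • u + s₀.1.2 • v) =
          s₀.2 + s₀.2 ^ 2 * Q (s₀.1.1 • u + s₀.1.2 • v)) (fun s hs => ?_) ?_).trans (card_roots_le _ _)
      · rw [Finset.mem_coe, Finset.mem_filter] at hs
        rw [Finset.mem_coe, Finset.mem_filter]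
        refine ⟨Finset.mem_univ _, ?_⟩
        obtain ⟨hrs, e1, e2⟩ := hr s hs.1
        obtain ⟨hr₀, f1, f2⟩ := hr s₀ hs₀
        rw [hs.2] at hrs e1 e2
        rw [← sqrtC_sq (s.2 + _), ← sqrtC_sq (s₀.2 + _)]
        congr 1
        by_cases ha : s₀.1.1 = 0
        · have hb : s₀.1.2 ≠ 0 := fun hb => by
            have hS0 := (Finset.mem_filter.1 hs₀).1
            simp only [hS, Finset.mem_product, Finset.mem_erase] at hS0
            exact hS0.1.1 (Prod.ext ha hb)
          exact mul_right_cancel₀ hb (e2.symm.trans f2)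
        · exact mul_right_cancel₀ ha (e1.symm.trans f1)
      · intro s hs s' hs' e
        rw [Finset.mem_coe, Finset.mem_filter] at hs hs'
        exact Prod.ext (hs.2.trans hs'.2.symm) e
    · refine (Finset.card_le_card (t := (Finset.univ.erase (0 : F)).image fun c => (c * l v, c * l u)) ?_).trans
        (Finset.card_image_le.trans ?_)
      · intro w hw
        obtain ⟨s, hs, rfl⟩ := Finset.mem_image.1 hw
        obtain ⟨hrs, e1, e2⟩ := hr s hs
        refine Finset.mem_image.2 ⟨(sqrtC (s.2 + s.2 ^ 2 * Q (s.1.1 • u + s.1.2 • v)))⁻¹, ?_, ?_⟩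
        · exact Finset.mem_erase.2 ⟨inv_ne_zero hrs, Finset.mem_univ _⟩
        · rw [e1, e2, inv_mul_cancel_left₀ hrs, inv_mul_cancel_left₀ hrs]
      · rw [Finset.card_erase_of_mem (Finset.mem_univ _), Finset.card_univ]
  have hsum : (q * q - 1) * q ≤ 2 * (q * q - 1) + (L.card - 1) * (2 * (q - 1)) := by
    rw [← hScard, Finset.card_eq_sum_card_image fn S, ← hL, ← Finset.add_sum_erase _ _ hzero]
    refine add_le_add hfib0 ?_
    rw [← Finset.card_erase_of_mem hzero, ← smul_eq_mul]
    exact Finset.sum_le_card_nsmul _ _ _ fun l hl => hfib l (Finset.mem_erase.1 hl).1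
  have hLq : q * (q - 1) ≤ 2 * L.card := by
    obtain ⟨r, hr⟩ : ∃ r, q = r + 2 := ⟨q - 2, by omega⟩
    obtain ⟨M, hM⟩ : ∃ M, L.card = M + 1 := ⟨L.card - 1, by have := Finset.card_pos.2 ⟨0, hzero⟩; omega⟩
    rw [hr, hM, show (r + 2) * (r + 2) - 1 = (r + 1) * (r + 3) by
      rw [Nat.sub_eq_of_eq_add]; ring, show r + 2 - 1 = r + 1 by omega, show M + 1 - 1 = M by omega] at hsum
    rw [hr, hM, show r + 2 - 1 = r + 1 by omega]
    have h1 : (r + 1) * ((r + 3) * (r + 2)) ≤ (r + 1) * (2 * (r + 3) + 2 * M) := by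
      calc (r + 1) * ((r + 3) * (r + 2)) = (r + 1) * (r + 3) * (r + 2) := by ring
        _ ≤ 2 * ((r + 1) * (r + 3)) + M * (2 * (r + 1)) := hsum
        _ = (r + 1) * (2 * (r + 3) + 2 * M) := by ring
    have h2 := Nat.le_of_mul_le_mul_left h1 (Nat.succ_pos r)
    nlinarith
  have hfibre : fibre Q = (Finset.univ.filter fun l : V →ₗ[F] F => Addable Q l).card := by
    rw [fibre, Nat.card_eq_fintype_card, Fintype.card_subtype]
  have hsub : L ⊆ Finset.univ.filter fun l : V →ₗ[F] F => Addable Q l := fun l hl =>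
    Finset.mem_filter.2 ⟨Finset.mem_univ _, hmem l hl⟩
  refine ⟨hLq.trans (by rw [hfibre]; exact Nat.mul_le_mul_left _ (Finset.card_le_card hsub)), ?_⟩
  rintro ⟨y, z, hyu, hyv, hzu, hzv, hyz⟩
  -- one further functional
  obtain ⟨w, hwz, hw1⟩ : ∃ w, B w z ≠ 0 ∧ Q w ≠ 1 := by
    by_cases hy1 : Q y = 1
    · obtain ⟨t, ht, htq⟩ : ∃ t, B t z = 0 ∧ Q t ≠ 0 ∧ B y t = 0 := by
        by_cases hu0 : Q u = 0
        · by_cases hv0 : Q v = 0
          · refine ⟨u + v, by simp [h.symm u z, h.symm v z, hzu, hzv], ?_, by simp [hyu, hyv]⟩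
            rw [h.add, hu0, hv0, huv]; simp
          · exact ⟨v, by rw [h.symm v z, hzv], hv0, hyv⟩
        · exact ⟨u, by rw [h.symm u z, hzu], hu0, hyu⟩
      refine ⟨y + t, by simp [ht, hyz], ?_⟩
      rw [h.add, hy1, htq.2, add_zero]
      simpa using htq.1
    · exact ⟨y, hyz, hy1⟩
  set l := sqrtC (1 + Q w) • B w with hl
  have hla : Addable Q l := by
    have h1 := addable_transv h w (1 : F)
    rwa [one_pow, one_mul] at h1
  have hlL : l ∉ L := by
    intro hlL
    obtain ⟨s, -, hs⟩ := Finset.mem_image.1 hlL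
    have h1 := congrArg (fun k : V →ₗ[F] F => k z) hs
    simp only [fn, hl, LinearMap.smul_apply, smul_eq_mul, map_add, map_smul, LinearMap.add_apply,
      h.symm u z, h.symm v z, hzu, hzv, mul_zero, add_zero] at h1
    rcases mul_eq_zero.1 h1.symm with h2 | h2
    · have h3 := sqrtC_sq (1 + Q w)
      rw [h2, zero_pow two_ne_zero, eq_comm, CharTwo.add_eq_zero] at h3
      exact hw1 h3.symm
    · exact hwz h2
  have h3 : L.card + 1 ≤ fibre Q := by
    rw [hfibre, ← Finset.card_insert_of_notMem hlL]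
    exact Finset.card_le_card (Finset.insert_subset (Finset.mem_filter.2 ⟨Finset.mem_univ _, hla⟩) hsub)
  omega

end CfsgLib.MinDeg
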