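import Cfsg.Agent.MinDeg.QuadOrbit

/-!
A lower bound for the orbit of a symmetric bilinear form of rank at least two, odd characteristic.
-/

set_option autoImplicit false
set_option linter.style.haveILetI false

namespace CfsgLib.MinDeg.SymmOrbit

open Module

variable {F : Type*} [Field F] [Fintype F] {V : Type*} [AddCommGroup V] [Module F V] [Fintype V]

local notation "q" => Fintype.card F

theorem card_fibre [DecidableEq F] [DecidableEq V] (L : V →ₗ[F] F × F) (hL : Function.Surjective L) (c : F × F) :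
    (Finset.univ.filter fun x => L x = c).card = q ^ (finrank F V - 2) := by
  classical
  obtain ⟨x₀, hx₀⟩ := hL c
  let e : LinearMap.ker L ≃ {x : V // L x = c} :=
    { toFun := fun k => ⟨(k : V) + x₀, by rw [map_add, LinearMap.mem_ker.1 k.2, zero_add, hx₀]⟩
      invFun := fun x => ⟨(x : V) - x₀, by rw [LinearMap.mem_ker, map_sub, x.2, hx₀, sub_self]⟩
      left_inv := fun k => Subtype.ext (add_sub_cancel_right _ _)
      right_inv := fun x => Subtype.ext (sub_add_cancel _ _) }
  have h := LinearMap.finrank_range_add_finrank_ker L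
  rw [LinearMap.range_eq_top.2 hL, finrank_top, Module.finrank_prod, Module.finrank_self] at h
  rw [← Fintype.card_subtype, ← Fintype.card_congr e, Module.card_eq_pow_finrank (K := F) (V := LinearMap.ker L)]
  congr 1
  omega

variable {B : V →ₗ[F] V →ₗ[F] F}

theorem surj_pair (hs : ∀ x y, B x y = B y x) {u v : V} (h : B u v = 0) (hu : B u u ≠ 0) (hv : B v v ≠ 0) :
    Function.Surjective ((B u).prod (B v)) := fun c =>
  ⟨(c.1 / B u u) • u + (c.2 / B v v) • v, Prod.ext (by simp [h, div_mul_cancel₀ _ hu])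
    (by simp [hs v u, h, div_mul_cancel₀ _ hv])⟩

/-- Binary forms represent every nonzero value, with an orthogonal partner. -/
theorem exists_partner (hodd : Odd q) (hs : ∀ x y, B x y = B y x) {u v : V} (h : B u v = 0) (hu : B u u ≠ 0)
    (hv : B v v ≠ 0) {a : F} (ha : a ≠ 0) : ∃ u' v', B u' v' = 0 ∧ B u' u' = a ∧ B v' v' ≠ 0 := by
  obtain ⟨x, y, hxy⟩ := FiniteField.exists_root_sum_quadratic
    (f := Polynomial.C (B u u) * Polynomial.X ^ 2) (g := Polynomial.C (B v v) * Polynomial.X ^ 2 - Polynomial.C a)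
    (by rw [Polynomial.degree_C_mul hu, Polynomial.degree_X_pow]; rfl)
    (by
      rw [Polynomial.degree_sub_eq_left_of_degree_lt, Polynomial.degree_C_mul hv, Polynomial.degree_X_pow]
      · rfl
      · rw [Polynomial.degree_C_mul hv, Polynomial.degree_X_pow]
        exact lt_of_le_of_lt Polynomial.degree_C_le (by norm_num))
    (Nat.odd_iff.1 hodd)
  simp only [Polynomial.eval_mul, Polynomial.eval_C, Polynomial.eval_pow, Polynomial.eval_X,
    Polynomial.eval_sub] at hxy
  refine ⟨x • u + y • v, (-(B v v * y)) • u + (B u u * x) • v, ?_, ?_, ?_⟩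
  · simp [hs v u, h]; ring
  · simp [hs v u, h]; linear_combination hxy
  · have e : B ((-(B v v * y)) • u + (B u u * x) • v) ((-(B v v * y)) • u + (B u u * x) • v) =
        B u u * B v v * a := by
      simp [hs v u, h]; linear_combination (B u u * B v v) * hxy
    rw [e]
    exact mul_ne_zero (mul_ne_zero hu hv) ha

/-- There are many isotropic vectors. -/
theorem card_zeros (hodd : Odd q) (h2 : (2 : F) ≠ 0) [DecidableEq F] (hs : ∀ x y, B x y = B y x) {u v : V}
    (h : B u v = 0) (hu : B u u ≠ 0) (hv : B v v ≠ 0) :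
    q ^ (finrank F V - 2) ≤ (Finset.univ.filter fun x => B x x = 0).card := by
  classical
  by_cases hW : ∀ w, B u w = 0 → B v w = 0 → B w w = 0
  · rw [← card_fibre _ (surj_pair hs h hu hv) 0]
    refine Finset.card_le_card fun x hx => ?_
    rw [Finset.mem_filter] at hx ⊢
    exact ⟨hx.1, hW x (congrArg Prod.fst hx.2) (congrArg Prod.snd hx.2)⟩
  push_neg at hW
  obtain ⟨w, hw1, hw2, hw3⟩ := hW
  obtain ⟨x, y, hxy⟩ := FiniteField.exists_root_sum_quadratic
    (f := Polynomial.C (B u u) * Polynomial.X ^ 2) (g := Polynomial.C (B v v) * Polynomial.X ^ 2 + Polynomial.C (B w w))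
    (by rw [Polynomial.degree_C_mul hu, Polynomial.degree_X_pow]; rfl)
    (by
      rw [Polynomial.degree_add_eq_left_of_degree_lt, Polynomial.degree_C_mul hv, Polynomial.degree_X_pow]
      · rfl
      · rw [Polynomial.degree_C_mul hv, Polynomial.degree_X_pow]
        exact lt_of_le_of_lt Polynomial.degree_C_le (by norm_num))
    (Nat.odd_iff.1 hodd)
  simp only [Polynomial.eval_mul, Polynomial.eval_C, Polynomial.eval_pow, Polynomial.eval_X,
    Polynomial.eval_add] at hxy
  set z := x • u + y • v + w with hz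
  have hzz : B z z = 0 := by
    simp [hz, hs v u, h, hs w u, hs w v, hw1, hw2]; linear_combination hxy
  set φ := (B z) with hφ
  set f2 := (B w w)⁻¹ • B w with hf2
  have hφw : φ w = B w w := by simp [hφ, hz, hw1, hw2]
  have hfz : f2 z = 1 := by
    simp [hf2, hz, hs w u, hs w v, hw1, hw2, hw3]
  have hL : Function.Surjective (φ.prod f2) := fun c => by
    refine ⟨(c.1 / B w w) • w + (c.2 - c.1 / B w w * f2 w) • z, Prod.ext ?_ ?_⟩
    · show φ _ = _
      rw [map_add, map_smul, map_smul, hφw, hφ, hzz, smul_zero, add_zero, smul_eq_mul, div_mul_cancel₀ _ hw3]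
    · show f2 _ = _
      rw [map_add, map_smul, map_smul, hfz, smul_eq_mul, smul_eq_mul, mul_one, add_sub_cancel]
  rw [← card_fibre _ hL (1, 0)]
  refine Finset.card_le_card_of_injOn (fun r => r - ((2 : F)⁻¹ * B r r) • z) ?_ ?_
  · intro r hr
    rw [Finset.mem_coe, Finset.mem_filter] at hr
    rw [Finset.mem_coe, Finset.mem_filter]
    refine ⟨Finset.mem_univ _, ?_⟩
    have h1 : B z r = 1 := congrArg Prod.fst hr.2
    have h5 : B r z = 1 := by rw [hs, h1]
    simp [map_sub, map_smul, LinearMap.sub_apply, LinearMap.smul_apply, h1, h5, hzz]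
    field_simp
    linear_combination (B r r) ^ 2 * hzz
  · intro r hr r' hr' e
    rw [Finset.mem_coe, Finset.mem_filter] at hr hr'
    have e1 := congrArg f2 e
    simp only [map_sub, map_smul, hfz, smul_eq_mul, mul_one, show f2 r = 0 from congrArg Prod.snd hr.2,
      show f2 r' = 0 from congrArg Prod.snd hr'.2, zero_sub, neg_inj] at e1
    simp only [e1] at e
    exact sub_left_injective e

/-- The orbit of a form of rank at least two. -/
theorem card_sym_orbit_ge (hodd : Odd q) (B : V →ₗ[F] V →ₗ[F] F) (hs : ∀ x y, B x y = B y x) {u₀ v₀ : V}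
    (h₀ : B u₀ v₀ = 0) (hu₀ : B u₀ u₀ ≠ 0) (hv₀ : B v₀ v₀ ≠ 0) :
    (q ^ finrank F V - 1) * (q ^ finrank F V - q) ≤
      2 * (q + 1) * Nat.card (Set.range fun g : V ≃ₗ[F] V => fun x y => B (g x) (g y)) := by
  classical
  have h2 : (2 : F) ≠ 0 := Ring.two_ne_zero fun h => by
    have := FiniteField.even_card_iff_char_two.1 h
    rw [Nat.odd_iff] at hodd
    omega
  have hq : 2 ≤ q := Fintype.one_lt_card
  set n := finrank F V with hn
  set w := q ^ (n - 2) with hw
  -- a least represented value
  let A : F → ℕ := fun a => (Finset.univ.filter fun x => B x x = a).card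
  obtain ⟨a, ha, hmin⟩ := Finset.exists_min_image (Finset.univ.erase (0 : F)) A
    ⟨1, Finset.mem_erase.2 ⟨one_ne_zero, Finset.mem_univ _⟩⟩
  have ha0 : a ≠ 0 := (Finset.mem_erase.1 ha).1
  obtain ⟨u, v, huv, huu, hvv⟩ := exists_partner hodd hs h₀ hu₀ hv₀ ha0
  have hu : B u u ≠ 0 := huu ▸ ha0
  set b := B v v with hb
  have hind : LinearIndependent F ![u, v] := by
    rw [LinearIndependent.pair_iff]
    intro s r hsr
    have h1 := congrArg (B u) hsr
    have h3 := congrArg (B v) hsr
    simp [huv] at h1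
    simp [hs v u, huv] at h3
    exact ⟨h1.resolve_right hu, h3.resolve_right hvv⟩
  have hn2 : 2 ≤ n := by simpa using hind.fintype_card_le_finrank
  have hcardV : Fintype.card V = q ^ n := Module.card_eq_pow_finrank
  have hwn : w * (q * q) = q ^ n := by rw [hw, ← pow_two, ← pow_add, Nat.sub_add_cancel hn2]
  have hA : A a ≤ (q + 1) * w := by
    have hsum : ∑ c, A c = q ^ n := by
      rw [← hcardV, ← Finset.card_univ]
      exact (Finset.card_eq_sum_card_fiberwise (f := fun x => B x x) fun x _ => Finset.mem_univ _).symm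
    rw [← Finset.add_sum_erase _ _ (Finset.mem_univ (0 : F))] at hsum
    have hz : w ≤ A 0 := card_zeros hodd h2 hs huv hu hvv
    have hl : (Finset.univ.erase (0 : F)).card • A a ≤ ∑ c ∈ Finset.univ.erase (0 : F), A c :=
      Finset.card_nsmul_le_sum _ _ _ hmin
    rw [Finset.card_erase_of_mem (Finset.mem_univ _), Finset.card_univ, smul_eq_mul] at hl
    refine Nat.le_of_mul_le_mul_left ?_ (show 0 < q - 1 by omega)
    calc (q - 1) * A a ≤ w * (q * q) - w := by omega
      _ = (q - 1) * ((q + 1) * w) := by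
        rw [← Nat.mul_sub_one, ← Nat.mul_assoc, show q * q - 1 = (q + 1) * (q - 1) by
          rw [← Nat.mul_self_sub_mul_self_eq q 1, mul_one]]
        ring
  -- the orbit
  haveI : Finite (V ≃ₗ[F] V) := Finite.of_injective _ DFunLike.coe_injective
  haveI := Fintype.ofFinite (V ≃ₗ[F] V)
  set O := Finset.univ.image fun g : V ≃ₗ[F] V => fun x y => B (g x) (g y) with hO
  have hOc : Nat.card (Set.range fun g : V ≃ₗ[F] V => fun x y => B (g x) (g y)) = O.card := by
    rw [Nat.card_coe_set_eq, ← Set.image_univ, ← Finset.coe_univ, ← Finset.coe_image, Set.ncard_coe_finset]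
  rw [hOc]
  set P := Finset.univ.filter fun p : Fin 2 → V => LinearIndependent F p with hP
  have hPc : P.card = (q ^ n - 1) * (q ^ n - q) := by
    have h1 := card_linearIndependent (K := F) (V := V) (k := 2) hn2
    rw [Nat.card_eq_fintype_card, Fintype.card_subtype, Fin.prod_univ_two, Fin.val_zero, Fin.val_one,
      pow_zero, pow_one] at h1
    exact h1
  let R : (Fin 2 → V) → (V → V → F) → Prop := fun p T =>
    T (p 0) (p 0) = a ∧ T (p 0) (p 1) = 0 ∧ T (p 1) (p 1) = b
  have hlow : ∀ p ∈ P, w * w ≤ (Finset.bipartiteAbove R O p).card := by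
    intro p hp
    obtain ⟨g, hg⟩ := exists_equiv_tuple (Finset.mem_filter.1 hp).2 hind
    have hg0 : g (p 0) = u := hg 0
    have hg1 : g (p 1) = v := hg 1
    let L : Module.Dual F V →ₗ[F] F × F := ((LinearMap.applyₗ u).prod (LinearMap.applyₗ v))
    have hL : Function.Surjective L := fun c =>
      ⟨(c.1 / B u u) • B u + (c.2 / B v v) • B v, Prod.ext (by simp [L, hs v u, huv, div_mul_cancel₀ _ hu])
        (by simp [L, huv, ← hb, div_mul_cancel₀ _ hvv])⟩
    haveI : Finite (Module.Dual F V) := Finite.of_injective _ DFunLike.coe_injective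
    haveI := Fintype.ofFinite (Module.Dual F V)
    set K := Finset.univ.filter fun f : Module.Dual F V => L f = 0 with hK
    have hKc : K.card = w := by rw [hK, card_fibre L hL 0, hw, hn, Subspace.dual_finrank_eq]
    have hKm : ∀ f ∈ K, f u = 0 ∧ f v = 0 := fun f hf =>
      ⟨congrArg Prod.fst (Finset.mem_filter.1 hf).2, congrArg Prod.snd (Finset.mem_filter.1 hf).2⟩
    rw [← hKc, ← Finset.card_product]
    let s : Module.Dual F V × Module.Dual F V → V → V := fun f x => x + f.1 x • u + f.2 x • v
    refine Finset.card_le_card_of_injOn (fun f => fun x y => B (s f (g x)) (s f (g y))) ?_ ?_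
    · rintro ⟨f1, f2⟩ hf
      rw [Finset.mem_coe, Finset.mem_product] at hf
      obtain ⟨a1, b1⟩ := hKm _ hf.1
      obtain ⟨a2, b2⟩ := hKm _ hf.2
      let M : V →ₗ[F] V := LinearMap.id + f1.smulRight u + f2.smulRight v
      have hM : Function.Injective M := fun x y e => by
        have e1 := congrArg f1 e
        have e2 := congrArg f2 e
        simp [M, a1, a2, b1, b2] at e1 e2
        simp [M, e1, e2] at e
        exact e
      rw [Finset.mem_coe, Finset.mem_bipartiteAbove]
      refine ⟨Finset.mem_image.2 ⟨g.trans (LinearEquiv.ofBijective M ⟨hM, LinearMap.surjective_of_injective hM⟩),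
        Finset.mem_univ _, ?_⟩, ?_⟩
      · rfl
      · simp [R, s, hg0, hg1, a1, b1, a2, b2, huu, huv, ← hb]
    · rintro ⟨f1, f2⟩ hf ⟨f1', f2'⟩ hf' e
      rw [Finset.mem_coe, Finset.mem_product] at hf hf'
      obtain ⟨a1, b1⟩ := hKm _ hf.1
      obtain ⟨a2, b2⟩ := hKm _ hf.2
      obtain ⟨a1', b1'⟩ := hKm _ hf'.1
      obtain ⟨a2', b2'⟩ := hKm _ hf'.2
      refine Prod.ext (LinearMap.ext fun x => ?_) (LinearMap.ext fun x => ?_)
      · have h1 := congrFun (congrFun e (g.symm x)) (g.symm u)
        simpa [s, a1, a2, a1', a2', hs v u, huv, hu] using h1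
      · have h1 := congrFun (congrFun e (g.symm x)) (g.symm v)
        simpa [s, b1, b2, b1', b2', huv, hvv, ← hb] using h1
  have hup : ∀ T ∈ O, (Finset.bipartiteBelow R P T).card ≤ (q + 1) * w * (2 * w) := by
    intro T hT
    obtain ⟨g, -, rfl⟩ := Finset.mem_image.1 hT
    set N := Finset.univ.filter fun z : V × V => B z.1 z.1 = a ∧ B z.1 z.2 = 0 ∧ B z.2 z.2 = b with hN
    have h1 : (Finset.bipartiteBelow R P fun x y => B (g x) (g y)).card ≤ N.card := by
      refine Finset.card_le_card_of_injOn (fun p => (g (p 0), g (p 1))) (fun p hp => ?_) fun p _ p' _ e => ?_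
      · rw [Finset.mem_coe, Finset.mem_bipartiteBelow] at hp
        rw [Finset.mem_coe, hN, Finset.mem_filter]
        exact ⟨Finset.mem_univ _, hp.2⟩
      · funext i
        fin_cases i
        · exact g.injective (congrArg Prod.fst e)
        · exact g.injective (congrArg Prod.snd e)
    refine h1.trans ?_
    have h3 : N.card ≤ 2 * w * (N.image Prod.fst).card := by
      refine Finset.card_le_mul_card_image _ _ fun x hx => ?_
      obtain ⟨⟨x', d⟩, hd, rfl⟩ := Finset.mem_image.1 hx
      rw [hN, Finset.mem_filter] at hd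
      obtain ⟨-, hxx, hxd, hdd⟩ := hd
      simp only at hxx hxd hdd ⊢
      have hxx0 : B x' x' ≠ 0 := hxx ▸ ha0
      have hdd0 : B d d ≠ 0 := hdd ▸ hvv
      let f : V × V → V := fun z => z.2 - (B d z.2 / b) • d
      refine le_trans (Finset.card_le_mul_card_image (f := f) _ 2 fun y₀ hy₀ => ?_)
        (Nat.mul_le_mul_left _ ?_)
      · rcases Finset.eq_empty_or_nonempty ((N.filter fun z => z.1 = x').filter fun z => f z = y₀) with he | ⟨z₀, hz₀⟩
        · rw [he]; simp
        have hmem : ∀ z ∈ (N.filter fun z => z.1 = x').filter fun z => f z = y₀,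
            z.1 = x' ∧ z.2 = y₀ + (B d z.2 / b) • d ∧ B d z.2 / b * (B d z.2 / b) = (b - B y₀ y₀) / b := by
          intro z hz
          simp only [hN, Finset.mem_filter, Finset.mem_univ, true_and] at hz
          obtain ⟨⟨⟨hz1, hz2, hz3⟩, hzx⟩, hzf⟩ := hz
          refine ⟨hzx, by rw [← hzf]; simp [f], ?_⟩
          rw [← hzf]
          simp only [f, map_sub, map_smul, LinearMap.sub_apply, LinearMap.smul_apply, smul_eq_mul, hdd, hz3,
            hs z.2 d]
          field_simp
          ring
        obtain ⟨k1, k2, k3⟩ := hmem z₀ hz₀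
        have hcard : ((Finset.univ.filter fun r : F => r * r = (b - B y₀ y₀) / b)).card ≤ 2 := by
          refine (Finset.card_le_card (t := {B d z₀.2 / b, -(B d z₀.2 / b)}) fun r hr => ?_).trans Finset.card_le_two
          rw [Finset.mem_filter] at hr
          rcases mul_self_eq_mul_self_iff.1 (hr.2.trans k3.symm) with e | e <;> simp [e]
        refine le_trans (Finset.card_le_card_of_injOn (fun z => B d z.2 / b) (fun z hz => ?_) ?_) hcard
        · rw [Finset.mem_coe, Finset.mem_filter]
          exact ⟨Finset.mem_univ _, (hmem z hz).2.2⟩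
        · intro z hz z' hz' e
          obtain ⟨l1, l2, -⟩ := hmem z hz
          obtain ⟨l1', l2', -⟩ := hmem z' hz'
          simp only at e
          exact Prod.ext (l1.trans l1'.symm) (by rw [l2, l2', e])
      · rw [hw, ← card_fibre _ (surj_pair hs hxd hxx0 hdd0) 0]
        refine Finset.card_le_card fun r hr => ?_
        obtain ⟨z, hz, rfl⟩ := Finset.mem_image.1 hr
        simp only [hN, Finset.mem_filter, Finset.mem_univ, true_and] at hz
        obtain ⟨⟨hz1, hz2, hz3⟩, hzx⟩ := hz
        rw [hzx] at hz2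
        refine Finset.mem_filter.2 ⟨Finset.mem_univ _, Prod.ext ?_ ?_⟩
        · simp [f, hz2, hxd]
        · simp [f, hdd, hvv]
    have h4 : (N.image Prod.fst).card ≤ A a := by
      refine Finset.card_le_card fun x hx => ?_
      obtain ⟨z, hz, rfl⟩ := Finset.mem_image.1 hx
      rw [hN, Finset.mem_filter] at hz
      exact Finset.mem_filter.2 ⟨Finset.mem_univ _, hz.2.1⟩
    calc N.card ≤ 2 * w * (N.image Prod.fst).card := h3
      _ ≤ 2 * w * ((q + 1) * w) := Nat.mul_le_mul_left _ (h4.trans hA)
      _ = (q + 1) * w * (2 * w) := by ring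
  have key := Finset.card_mul_le_card_mul R hlow hup
  rw [hPc] at key
  refine Nat.le_of_mul_le_mul_right ?_ (show 0 < w * w from Nat.mul_pos (pow_pos (by omega) _) (pow_pos (by omega) _))
  calc (q ^ n - 1) * (q ^ n - q) * (w * w) ≤ O.card * ((q + 1) * w * (2 * w)) := key
    _ = 2 * (q + 1) * O.card * (w * w) := by ring

end CfsgLib.MinDeg.SymmOrbit
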