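import Cfsg.Agent.MinDeg.SympBound
import Cfsg.Agent.MinDeg.WeightTools

/-!
Characters of rank one of the Siegel radical of `Sp_{2m}(q)`, `q` odd, and the elements moving them.
-/

set_option autoImplicit false
set_option linter.style.haveILetI false

namespace CfsgLib.MinDeg.SpLow

open Matrix CfsgLib.MinDeg CfsgLib.Symp

universe u v

variable {F : Type u} [Field F] {m : ℕ}

theorem psi_inj [Fintype F] {ψ : AddChar F ℂ} (hψ : ψ.IsPrimitive) {a b : F}
    (h : ∀ c, ψ (c * a) = ψ (c * b)) : a = b := by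
  refine AddChar.to_mulShift_inj_of_isPrimitive hψ ?_
  ext c
  rw [AddChar.mulShift_apply, AddChar.mulShift_apply, mul_comm a, mul_comm b, h]

/-- The quadratic functional of a vector. -/
def quadHom (t : F) (v : Fin m → F) : symSub F m →+ F :=
  AddMonoidHom.mk' (fun S => t * (v ⬝ᵥ ((S : Matrix (Fin m) (Fin m) F) *ᵥ v))) fun S T => by
    rw [AddSubgroup.coe_add, Matrix.add_mulVec, dotProduct_add, mul_add]

/-- A character of rank at most one. -/
noncomputable def chi (ψ : AddChar F ℂ) (t : F) (v : Fin m → F) : AddChar (symSub F m) ℂ :=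
  ψ.compAddMonoidHom (quadHom t v)

theorem chi_apply (ψ : AddChar F ℂ) (t : F) (v : Fin m → F) (S : symSub F m) :
    chi ψ t v S = ψ (t * (v ⬝ᵥ ((S : Matrix (Fin m) (Fin m) F) *ᵥ v))) := rfl

theorem chi_square (ψ : AddChar F ℂ) (t : F) (v : Fin m → F) (c : F) (a : Fin m → F) :
    chi ψ t v (symSquare c a) = ψ (t * (c * ((v ⬝ᵥ a) * (v ⬝ᵥ a)))) := by
  rw [chi_apply, symSquare_val, Matrix.smul_mulVec, Matrix.vecMulVec_mulVec, dotProduct_smul,
    op_smul_eq_smul, dotProduct_smul, smul_eq_mul, smul_eq_mul, dotProduct_comm a v]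

theorem chi_pair (ψ : AddChar F ℂ) (t : F) (v : Fin m → F) (c : F) (a b : Fin m → F) :
    chi ψ t v (symPair c a b) = ψ (t * (2 * c * ((v ⬝ᵥ a) * (v ⬝ᵥ b)))) := by
  rw [chi_apply, symPair_val, Matrix.smul_mulVec, Matrix.add_mulVec, Matrix.vecMulVec_mulVec,
    Matrix.vecMulVec_mulVec, dotProduct_smul, op_smul_eq_smul, op_smul_eq_smul, dotProduct_add, dotProduct_smul,
    dotProduct_smul, smul_eq_mul, smul_eq_mul, smul_eq_mul, dotProduct_comm a v, dotProduct_comm b v]
  congr 1
  ring

theorem chi_smul (ψ : AddChar F ℂ) (t a : F) (v : Fin m → F) : chi ψ t (a • v) = chi ψ (t * (a * a)) v := by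
  ext S
  rw [chi_apply, chi_apply, Matrix.mulVec_smul, dotProduct_smul, smul_dotProduct, smul_eq_mul, smul_eq_mul]
  congr 1
  ring

theorem chi_neg (ψ : AddChar F ℂ) (t : F) (v : Fin m → F) : chi ψ t (-v) = chi ψ t v := by
  rw [← neg_one_smul F v, chi_smul, mul_neg, mul_one, neg_neg, mul_one]

theorem chi_eq_iff [Fintype F] {ψ : AddChar F ℂ} (hψ : ψ.IsPrimitive) (h2 : (2 : F) ≠ 0) {t : F} (ht : t ≠ 0)
    {v w : Fin m → F} (h : chi ψ t v = chi ψ t w) : w = v ∨ w = -v := by
  have key : ∀ a b : Fin m → F, (v ⬝ᵥ a) * (v ⬝ᵥ b) = (w ⬝ᵥ a) * (w ⬝ᵥ b) := fun a b => by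
    refine mul_left_cancel₀ ht (mul_left_cancel₀ h2 (psi_inj hψ fun c => ?_))
    have h1 := DFunLike.congr_fun h (symPair c a b)
    rw [chi_pair, chi_pair] at h1
    convert h1 using 2 <;> ring
  have hc : ∀ i j, v i * v j = w i * w j := fun i j => by
    simpa [dotProduct_single] using key (Pi.single i 1) (Pi.single j 1)
  by_cases hv : v = 0
  · refine Or.inl (funext fun i => ?_)
    have h1 := hc i i
    rw [hv, Pi.zero_apply, zero_mul] at h1
    rw [hv, Pi.zero_apply, mul_self_eq_zero.1 h1.symm]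
  obtain ⟨i, hi⟩ := Function.ne_iff.1 hv
  rcases mul_self_eq_mul_self_iff.1 (hc i i).symm with e | e
  · refine Or.inl (funext fun j => ?_)
    have h1 := hc i j
    rw [e] at h1
    exact (mul_left_cancel₀ hi h1).symm
  · refine Or.inr (funext fun j => ?_)
    have h1 := hc i j
    rw [e, neg_mul, ← mul_neg] at h1
    rw [Pi.neg_apply, mul_left_cancel₀ hi h1, neg_neg]

/-- The first half as a vector. -/
def vl (a : Fin m → F) : Fin m ⊕ Fin m → F := Sum.elim a 0

/-- The second half as a vector. -/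
def vr (b : Fin m → F) : Fin m ⊕ Fin m → F := Sum.elim 0 b

theorem form_vl (x : Fin m ⊕ Fin m → F) (a : Fin m → F) : form x (vl a) = (fun i => x (Sum.inr i)) ⬝ᵥ a := by
  simp [form_apply, vl, dotProduct]

theorem form_vr (x : Fin m ⊕ Fin m → F) (b : Fin m → F) : form x (vr b) = -((fun i => x (Sum.inl i)) ⬝ᵥ b) := by
  simp [form_apply, vr, dotProduct, Finset.sum_neg_distrib]

theorem vl_add_vr (x : Fin m ⊕ Fin m → F) :
    vl (fun i => x (Sum.inl i)) + vr (fun i => x (Sum.inr i)) = x := by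
  funext i
  rcases i with i | i <;> simp [vl, vr]

theorem symHom_apply (S : symSub F m) (x : Fin m ⊕ Fin m → F) :
    symHom F m (Multiplicative.ofAdd S) • x =
      x + vl ((S : Matrix (Fin m) (Fin m) F) *ᵥ fun i => x (Sum.inr i)) := by
  show (Matrix.fromBlocks 1 (S : Matrix (Fin m) (Fin m) F) 0 1) *ᵥ x = _
  rw [Matrix.fromBlocks_mulVec]
  funext i
  rcases i with i | i <;> simp [vl, Function.comp_def]

theorem tv_vl (a : Fin m → F) (c : F) : tv (vl a) c = symHom F m (Multiplicative.ofAdd (symSquare c a)) := by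
  refine symp_ext fun x => ?_
  rw [tv_smul, symHom_apply, form_vl, symSquare_val, Matrix.smul_mulVec, Matrix.vecMulVec_mulVec,
    op_smul_eq_smul, smul_smul, dotProduct_comm]
  congr 1
  funext i
  rcases i with i | i <;> simp [vl]

/-- The element of the point stabiliser attached to a vector orthogonal to the point. -/
def hw (e w : Fin m ⊕ Fin m → F) : Matrix.symplecticGroup (Fin m) F :=
  tv (e + w) 1 * tv w (-1) * tv e (-1)

theorem hw_smul {e w : Fin m ⊕ Fin m → F} (h : form e w = 0) (x : Fin m ⊕ Fin m → F) :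
    hw e w • x = x + form x e • w + form x w • e := by
  have h' : form w e = 0 := by rw [form_swap, h, neg_zero]
  simp only [hw, mul_smul, tv_smul, form_add_left, form_add_right, form_smul_left, h, h', form_self, mul_zero,
    add_zero, smul_add]
  module

theorem hw_mul {e w w' : Fin m ⊕ Fin m → F} (h : form e w = 0) (h' : form e w' = 0) :
    hw e w * hw e w' = tv e (form w' w) * hw e (w + w') := by
  have h3 : form e (w + w') = 0 := by rw [form_add_right, h, h', add_zero]
  have hs : form w' e = 0 := by rw [form_swap, h', neg_zero]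
  have hs' : form w e = 0 := by rw [form_swap, h, neg_zero]
  refine symp_ext fun x => ?_
  rw [mul_smul, mul_smul, hw_smul h, hw_smul h', hw_smul h3, tv_smul]
  simp only [form_add_left, form_add_right, form_smul_left, h, hs, hs', form_self, mul_zero, add_zero]
  module

theorem hw_fix {e w : Fin m ⊕ Fin m → F} (h : form e w = 0) : hw e w • e = e := by
  rw [hw_smul h, form_self, h]
  simp

theorem hw_conj {e w : Fin m ⊕ Fin m → F} {g : Matrix.symplecticGroup (Fin m) F} (hg : g • e = e) :
    g * hw e w * g⁻¹ = hw e (g • w) := by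
  conv_rhs => rw [hw, ← hg, ← smul_add, ← tv_conj, ← tv_conj, ← tv_conj]
  rw [hw]
  group

/-- The Levi element of a pair of matrices. -/
abbrev lev (A B : Matrix (Fin m) (Fin m) F) (h : Aᵀ * B = 1) : Matrix.symplecticGroup (Fin m) F :=
  Symp.levi A B h

theorem lev_apply (A B : Matrix (Fin m) (Fin m) F) (h : Aᵀ * B = 1) (x : Fin m ⊕ Fin m → F) :
    lev A B h • x = vl (A *ᵥ fun i => x (Sum.inl i)) + vr (B *ᵥ fun i => x (Sum.inr i)) := by
  show (Matrix.fromBlocks A 0 0 B) *ᵥ x = _
  rw [Matrix.fromBlocks_mulVec]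
  funext i
  rcases i with i | i <;> simp [vl, vr, Function.comp_def]

theorem lev_vl (A B : Matrix (Fin m) (Fin m) F) (h : Aᵀ * B = 1) (a : Fin m → F) :
    lev A B h • vl a = vl (A *ᵥ a) := by
  rw [lev_apply]
  funext i
  rcases i with i | i <;> simp [vl, vr, Matrix.mulVec, dotProduct]

theorem lev_mul {A B A' B' : Matrix (Fin m) (Fin m) F} (h : Aᵀ * B = 1) (h' : A'ᵀ * B' = 1) :
    lev A B h * lev A' B' h' = lev (A * A') (B * B') (by
      rw [Matrix.transpose_mul, Matrix.mul_assoc, ← Matrix.mul_assoc Aᵀ, h, Matrix.one_mul, h']) :=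
  Subtype.ext (by simp [Symp.levi, Matrix.fromBlocks_multiply])

theorem symHom_lev (A B : Matrix (Fin m) (Fin m) F) (h : Aᵀ * B = 1) (S S' : symSub F m)
    (hS : A * (S' : Matrix (Fin m) (Fin m) F) = (S : Matrix (Fin m) (Fin m) F) * B) :
    symHom F m (Multiplicative.ofAdd S) * lev A B h = lev A B h * symHom F m (Multiplicative.ofAdd S') := by
  refine Subtype.ext ?_
  show Matrix.fromBlocks 1 (S : Matrix (Fin m) (Fin m) F) 0 1 * Matrix.fromBlocks A 0 0 B =
    Matrix.fromBlocks A 0 0 B * Matrix.fromBlocks 1 (S' : Matrix (Fin m) (Fin m) F) 0 1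
  rw [Matrix.fromBlocks_multiply, Matrix.fromBlocks_multiply]
  simp [hS]

variable (i₀ : Fin m)

/-- The coordinate vector. -/
abbrev dl : Fin m → F := Pi.single i₀ 1

/-- The distinguished point. -/
abbrev pt : Fin m ⊕ Fin m → F := vl (dl i₀)

theorem form_pt_vl (a : Fin m → F) : form (pt (F := F) i₀) (vl a) = 0 := by
  rw [form_vl]
  simp [vl, dotProduct]

theorem form_pt_vr (b : Fin m → F) : form (pt (F := F) i₀) (vr b) = -b i₀ := by
  rw [form_vr]
  simp [vl, dl, single_dotProduct]

theorem form_left_pt (x : Fin m ⊕ Fin m → F) : form x (pt i₀) = x (Sum.inr i₀) := by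
  rw [form_vl, dotProduct_single, mul_one]

theorem form_pt_left (x : Fin m ⊕ Fin m → F) : form (pt i₀) x = -x (Sum.inr i₀) := by
  rw [form_swap, form_left_pt]

theorem hw_vl (a : Fin m → F) :
    hw (pt i₀) (vl a) = symHom F m (Multiplicative.ofAdd (symPair 1 (dl i₀) a)) := by
  refine symp_ext fun x => ?_
  rw [hw_smul (form_pt_vl i₀ a), symHom_apply, form_left_pt, form_vl, symPair_val, one_smul, Matrix.add_mulVec,
    Matrix.vecMulVec_mulVec, Matrix.vecMulVec_mulVec, op_smul_eq_smul, op_smul_eq_smul, single_dotProduct,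
    one_mul, dotProduct_comm a]
  funext i
  rcases i with i | i <;> simp [vl, Pi.single_apply] <;> ring

theorem lev_tau_cond {b : Fin m → F} (hb : b i₀ = 0) :
    (1 - Matrix.vecMulVec (dl i₀) b)ᵀ * (1 + Matrix.vecMulVec b (dl i₀)) = 1 := by
  rw [Matrix.transpose_sub, Matrix.transpose_one, Matrix.transpose_vecMulVec, mul_add, sub_mul, one_mul, mul_one,
    sub_mul, one_mul, Matrix.vecMulVec_mul_vecMulVec, single_dotProduct, one_mul, hb]
  simp

theorem hw_vr {b : Fin m → F} (hb : b i₀ = 0) :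
    hw (pt i₀) (vr b) = lev _ _ (lev_tau_cond i₀ hb) := by
  refine symp_ext fun x => ?_
  rw [hw_smul (by rw [form_pt_vr, hb, neg_zero]), lev_apply, form_left_pt, form_vr, Matrix.sub_mulVec,
    Matrix.add_mulVec, Matrix.one_mulVec, Matrix.one_mulVec, Matrix.vecMulVec_mulVec, Matrix.vecMulVec_mulVec,
    op_smul_eq_smul, op_smul_eq_smul, single_dotProduct, one_mul, dotProduct_comm b]
  funext i
  rcases i with i | i <;> simp [vl, vr, Pi.single_apply] <;> ring

theorem tv_pt (c : F) : tv (pt i₀) c = symHom F m (Multiplicative.ofAdd (symSquare c (dl i₀))) := tv_vl _ c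

/-- Decompose a vector orthogonal to the point. -/
theorem hw_split {w : Fin m ⊕ Fin m → F} (hw0 : form (pt i₀) w = 0) :
    ∃ κ : F, hw (pt i₀) (vl fun i => w (Sum.inl i)) * hw (pt i₀) (vr fun i => w (Sum.inr i)) =
      tv (pt i₀) κ * hw (pt i₀) w ∧ w (Sum.inr i₀) = 0 := by
  have hb : w (Sum.inr i₀) = 0 := by
    rw [form_pt_left] at hw0
    exact neg_eq_zero.1 hw0
  refine ⟨form (vr fun i => w (Sum.inr i)) (vl fun i => w (Sum.inl i)), ?_, hb⟩
  rw [hw_mul (form_pt_vl i₀ _) (by rw [form_pt_vr, neg_eq_zero]; exact hb), vl_add_vr]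

/-! Stabilisers. -/

/-- Move one vector to another by transvections with centres orthogonal to `e`. -/
theorem exists_tv_move {e u v : Fin m ⊕ Fin m → F} (hu : form u e ≠ 0) (h : form u e = form v e) :
    ∃ g ∈ tvGroup (LinearMap.ker (show (Fin m ⊕ Fin m → F) →ₗ[F] F from
      { toFun := fun x => form x e
        map_add' := fun x y => form_add_left x y e
        map_smul' := fun c x => form_smul_left c x e })), g • u = v := by
  set W := LinearMap.ker (show (Fin m ⊕ Fin m → F) →ₗ[F] F from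
      { toFun := fun x => form x e
        map_add' := fun x y => form_add_left x y e
        map_smul' := fun c x => form_smul_left c x e })
  have hmem : ∀ {x}, form x e = 0 → x ∈ W := fun {x} hx => hx
  have move : ∀ a b : Fin m ⊕ Fin m → F, form a b ≠ 0 → form a e = form b e →
      ∃ g ∈ tvGroup W, g • a = b := fun a b hab heq => ⟨tv (b - a) (form a b)⁻¹,
    tv_mem_tvGroup (hmem (by rw [form_sub_left, heq, sub_self])) _, by
      rw [tv_smul, form_sub_right, form_self, sub_zero, inv_mul_cancel₀ hab, one_smul, add_sub_cancel]⟩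
  by_cases huv : form u v = 0
  · obtain ⟨g₁, hg₁, e₁⟩ := move u (u + e) (by rw [form_add_right, form_self, zero_add]; exact hu)
      (by rw [form_add_left, form_self, add_zero])
    obtain ⟨g₂, hg₂, e₂⟩ := move (u + e) v (by
        rw [form_add_left, huv, zero_add, form_swap, ← h, neg_ne_zero]
        exact hu) (by rw [form_add_left, form_self, add_zero, h])
    exact ⟨g₂ * g₁, mul_mem hg₂ hg₁, by rw [mul_smul, e₁, e₂]⟩
  · exact move u v huv h

theorem exists_fix_below {W : Submodule F (Fin m ⊕ Fin m → F)} {a : Fin m} (hW : coordSub {a} ≤ W) (s : Finset (Fin m))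
    (has : a ∈ s) {g : Matrix.symplecticGroup (Fin m) F}
    (hg1 : g • (Pi.single (Sum.inl a) 1 : Fin m ⊕ Fin m → F) = Pi.single (Sum.inl a) 1)
    (hg2 : g • (Pi.single (Sum.inr a) 1 : Fin m ⊕ Fin m → F) = Pi.single (Sum.inr a) 1) :
    ∃ t ∈ tvGroup W, ∀ i ∈ s,
      (t * g) • (Pi.single (Sum.inl i) 1 : Fin m ⊕ Fin m → F) = Pi.single (Sum.inl i) 1 ∧
      (t * g) • (Pi.single (Sum.inr i) 1 : Fin m ⊕ Fin m → F) = Pi.single (Sum.inr i) 1 := by
  suffices h : ∀ s : Finset (Fin m), ∃ t ∈ tvGroup W, ∀ i ∈ insert a s,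
      (t * g) • (Pi.single (Sum.inl i) 1 : Fin m ⊕ Fin m → F) = Pi.single (Sum.inl i) 1 ∧
      (t * g) • (Pi.single (Sum.inr i) 1 : Fin m ⊕ Fin m → F) = Pi.single (Sum.inr i) 1 by
    obtain ⟨t, ht, h⟩ := h s
    exact ⟨t, ht, fun i hi => h i (Finset.mem_insert_of_mem hi)⟩
  intro s
  induction s using Finset.induction_on with
  | empty => exact ⟨1, one_mem _, by simp [hg1, hg2]⟩
  | insert b s hb ih =>
    by_cases hba : b = a
    · subst hba; obtain ⟨t, ht, h⟩ := ih; exact ⟨t, ht, by simpa using h⟩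
    obtain ⟨t, ht, hfix⟩ := ih
    have hbs : b ∉ insert a s := by simp [hba, hb]
    have hE : ∀ k, k = Sum.inl b ∨ k = Sum.inr b →
        (Pi.single k 1 : Fin m ⊕ Fin m → F) ∈ coordSub (insert a s) := by
      rintro k (rfl | rfl) i hi <;>
      · have : i ≠ b := fun e => hbs (e ▸ hi)
        simp [this]
    have hmem : ∀ k, k = Sum.inl b ∨ k = Sum.inr b →
        (t * g) • (Pi.single k 1 : Fin m ⊕ Fin m → F) ∈ coordSub (insert a s) := by
      intro k hk i hi
      obtain ⟨e1, e2⟩ := hE k hk i hi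
      obtain ⟨f1, f2⟩ := hfix i hi
      have h1 := form_smul_smul (t * g) (Pi.single (Sum.inl i) 1) (Pi.single k 1)
      have h2 := form_smul_smul (t * g) (Pi.single (Sum.inr i) 1) (Pi.single k 1)
      rw [f1, form_single_inl, form_single_inl, e2] at h1
      rw [f2, form_single_inr, form_single_inr, e1] at h2
      exact ⟨by simpa using h2, by simpa using h1⟩
    have hone : form (Pi.single (Sum.inr b) (1 : F)) (Pi.single (Sum.inl b) 1) = 1 := by
      simp [form_single_inr]
    obtain ⟨k, hk, k1, k2⟩ := exists_tvGroup_smul_pair (hmem _ (Or.inr rfl)) (hmem _ (Or.inl rfl))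
      (hE _ (Or.inr rfl)) (hE _ (Or.inl rfl)) (by rw [form_smul_smul]; exact hone) hone
    have hle : (coordSub (insert a s) : Submodule F _) ≤ W := fun x hx =>
      hW fun i hi => hx i (Finset.mem_insert.2 (Or.inl (Finset.mem_singleton.1 hi)))
    refine ⟨k * t, mul_mem (tvGroup_mono hle hk) ht, fun i hi => ?_⟩
    rw [Finset.insert_comm, Finset.mem_insert] at hi
    rcases hi with rfl | hi
    · simp only [mul_assoc, mul_smul k]; exact ⟨k2, k1⟩
    · obtain ⟨f1, f2⟩ := hfix i hi
      simp only [mul_assoc, mul_smul k, f1, f2]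
      constructor <;> refine tvGroup_fix hk fun w hw => ?_
      · simp [form_single_inl, (hw i hi).2]
      · simp [form_single_inr, (hw i hi).1]

/-- The orthogonal space of the point. -/
def perpPt : Submodule F (Fin m ⊕ Fin m → F) :=
  LinearMap.ker (show (Fin m ⊕ Fin m → F) →ₗ[F] F from
    { toFun := fun x => form x (pt i₀)
      map_add' := fun x y => form_add_left x y (pt i₀)
      map_smul' := fun c x => form_smul_left c x (pt i₀) })

theorem mem_perpPt {x : Fin m ⊕ Fin m → F} : x ∈ perpPt i₀ ↔ form x (pt i₀) = 0 := Iff.rfl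

theorem perpPt_fix {g : Matrix.symplecticGroup (Fin m) F} (hg : g ∈ tvGroup (perpPt (F := F) i₀)) :
    g • pt (F := F) i₀ = pt i₀ :=
  tvGroup_fix hg fun w hw => by rw [form_swap, (mem_perpPt i₀).1 hw, neg_zero]

/-- The stabiliser of the point is generated by transvections. -/
theorem stab_mem_tvGroup {g : Matrix.symplecticGroup (Fin m) F} (hg : g • pt (F := F) i₀ = pt i₀) :
    g ∈ tvGroup (perpPt (F := F) i₀) := by
  have hpt : (pt i₀ : Fin m ⊕ Fin m → F) = Pi.single (Sum.inl i₀) 1 := by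
    funext i
    rcases i with i | i <;> simp [vl, dl, Pi.single_apply]
  set f : Fin m ⊕ Fin m → F := Pi.single (Sum.inr i₀) 1 with hf
  have hfe : form f (pt (F := F) i₀) = 1 := by rw [form_left_pt, hf, Pi.single_eq_same]
  have hge : form (g • f) (pt (F := F) i₀) = 1 := by
    conv_lhs => rw [← hg]
    rw [form_smul_smul, hfe]
  obtain ⟨k, hk, hkf⟩ := exists_tv_move (e := pt i₀) (u := g • f) (v := f) (by rw [hge]; exact one_ne_zero)
    (by rw [hge, hfe])
  have hk' : k ∈ tvGroup (perpPt (F := F) i₀) := hk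
  obtain ⟨t, ht, hfix⟩ := exists_fix_below (W := perpPt (F := F) i₀) (a := i₀)
    (fun x hx => mem_perpPt i₀ |>.2 (by rw [form_left_pt]; exact (hx i₀ (Finset.mem_singleton_self _)).2))
    Finset.univ (Finset.mem_univ _) (g := k * g)
    (by rw [mul_smul, ← hpt, hg, perpPt_fix i₀ hk']) (by rw [mul_smul, ← hf, hkf])
  have h1 : t * (k * g) = 1 := Subtype.ext <| Matrix.ext_of_mulVec_single fun j => by
    rcases j with i | i
    · exact (hfix i (Finset.mem_univ i)).1.trans (one_smul (Matrix.symplecticGroup (Fin m) F) _).symm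
    · exact (hfix i (Finset.mem_univ i)).2.trans (one_smul (Matrix.symplecticGroup (Fin m) F) _).symm
  rw [← mul_assoc] at h1
  rw [eq_inv_of_mul_eq_one_right h1]
  exact inv_mem (mul_mem ht hk')

end CfsgLib.MinDeg.SpLow
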