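import Cfsg.Agent.MinDeg.SympLowLevi
import Mathlib.LinearAlgebra.Matrix.Swap

/-!
A representation with only rank one weights is cut down to scalars by a small projection.
-/

set_option autoImplicit false
set_option linter.style.haveILetI false
set_option linter.unusedSectionVars false

namespace CfsgLib.MinDeg.SpLow

open Matrix CfsgLib.MinDeg CfsgLib.Symp

universe u v

variable {F : Type u} [Field F] [Fintype F] [DecidableEq F] {m : ℕ}
  {V : Type v} [AddCommGroup V] [Module ℂ V]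
  {ρ : Representation ℂ (Matrix.symplecticGroup (Fin m) F) V} {ψ : AddChar F ℂ} {t : F} {ε : ℂ}
  {i₀ : Fin m}

/-- The element exchanging the point with its partner. -/
def wEl (i₀ : Fin m) (κ : F) : Matrix.symplecticGroup (Fin m) F :=
  tv (vr (dl i₀)) (-κ) * tv (pt i₀) (-κ⁻¹) * tv (vr (dl i₀)) (-κ)

theorem form_vr_dl (x : Fin m ⊕ Fin m → F) : form x (vr (dl i₀)) = -x (Sum.inl i₀) := by
  rw [form_vr, dotProduct_single, mul_one]

theorem wEl_pt {κ : F} (hκ : κ ≠ 0) : wEl i₀ κ • pt (F := F) i₀ = κ • vr (dl i₀) := by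
  have h1 : form (pt (F := F) i₀) (vr (dl i₀)) = -1 := by rw [form_pt_vr, dl_self]
  have h2 : form (vr (dl i₀) : Fin m ⊕ Fin m → F) (pt i₀) = 1 := by rw [form_swap, h1, neg_neg]
  simp only [wEl, mul_smul, tv_smul, h1, h2, form_self, form_add_left, form_smul_left, mul_neg, mul_one, neg_neg,
    neg_mul, mul_zero, add_zero, zero_add, inv_mul_cancel₀ hκ]
  match_scalars <;> field_simp <;> ring

theorem comm_wEl {g : Matrix.symplecticGroup (Fin m) F} (h1 : g • pt (F := F) i₀ = pt i₀)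
    (h2 : g • (vr (dl i₀) : Fin m ⊕ Fin m → F) = vr (dl i₀)) (κ : F) : g * wEl i₀ κ = wEl i₀ κ * g := by
  rw [← mul_inv_eq_iff_eq_mul, wEl, ← conj_mul, ← conj_mul, tv_conj, tv_conj, h1, h2]

theorem symHom_vr (S : symSub F m) (hS : (S : Matrix (Fin m) (Fin m) F) *ᵥ dl i₀ = 0) :
    symHom F m (Multiplicative.ofAdd S) • (vr (dl i₀) : Fin m ⊕ Fin m → F) = vr (dl i₀) := by
  rw [symHom_apply, show (fun i => (vr (dl i₀) : Fin m ⊕ Fin m → F) (Sum.inr i)) = dl i₀ from rfl, hS]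
  funext i
  rcases i with i | i <;> simp [vl, Pi.single_apply]

theorem symHom_pt (S : symSub F m) : symHom F m (Multiplicative.ofAdd S) • pt (F := F) i₀ = pt i₀ := by
  rw [symHom_apply, show (fun i => (pt i₀ : Fin m ⊕ Fin m → F) (Sum.inr i)) = 0 from rfl, Matrix.mulVec_zero]
  funext i
  rcases i with i | i <;> simp [vl, Pi.single_apply]

theorem chi_conjSym (v : Fin m → F) (A : Matrix (Fin m) (Fin m) F) (S : symSub F m) :
    chi ψ t v (conjSym A S) = chi ψ t (Aᵀ *ᵥ v) S := by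
  rw [chi_apply, chi_apply, conjSym_val, ← Matrix.mulVec_mulVec, ← Matrix.mulVec_mulVec, Matrix.dotProduct_mulVec v A,
    ← Matrix.mulVec_transpose]

theorem X_zero (hC : Ctx ρ ψ t ε) (κ : F) {b b' : Fin m → F} (hb : b i₀ = 0) (hb' : b' i₀ = 0)
    (h1 : b' ≠ b) (h2 : b' ≠ -b) :
    P ρ ψ t (dl i₀) * ρ (tau i₀ b) * ρ (wEl i₀ κ) * (ρ (tau i₀ b') * P ρ ψ t (dl i₀)) = 0 := by
  have hM : P ρ ψ t (dl i₀ - b) * ρ (wEl i₀ κ) * P ρ ψ t (dl i₀ + b') = 0 := by
    by_contra hne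
    obtain ⟨D, hDv, hDs, hDd⟩ : ∃ D : Matrix (Fin m) (Fin m) F, (∀ u, Dᵀ *ᵥ u = u - u i₀ • dl i₀) ∧
        Dᵀ = D ∧ D *ᵥ dl i₀ = 0 := by
      refine ⟨1 - Matrix.vecMulVec (dl i₀) (dl i₀), ?_, ?_, ?_⟩
      · intro u
        rw [Matrix.transpose_sub, Matrix.transpose_one, Matrix.transpose_vecMulVec, Matrix.sub_mulVec,
          Matrix.one_mulVec, vecMulVec_dl_mulVec]
      · rw [Matrix.transpose_sub, Matrix.transpose_one, Matrix.transpose_vecMulVec]
      · rw [Matrix.sub_mulVec, Matrix.one_mulVec, vecMulVec_dl_mulVec, dl_self, one_smul, sub_self]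
    have key : ∀ S : symSub F m, chi ψ t (-b) S = chi ψ t b' S := by
      intro S
      set S' := conjSym D S with hS'
      have hz : (S' : Matrix (Fin m) (Fin m) F) *ᵥ dl i₀ = 0 := by
        rw [hS', conjSym_val, ← Matrix.mulVec_mulVec, hDs, hDd, Matrix.mulVec_zero]
      have e1 : chi ψ t (dl i₀ - b) S' = chi ψ t (-b) S := by
        rw [hS', chi_conjSym, hDv, Pi.sub_apply, dl_self, hb, sub_zero, one_smul, sub_sub_cancel_left]
      have e2 : chi ψ t (dl i₀ + b') S' = chi ψ t b' S := by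
        rw [hS', chi_conjSym, hDv, Pi.add_apply, dl_self, hb', add_zero, one_smul, add_sub_cancel_left]
      rw [← e1, ← e2]
      refine smul_left_injective ℂ hne ?_
      show chi ψ t (dl i₀ - b) S' • (_ : Module.End ℂ V) = chi ψ t (dl i₀ + b') S' • _
      conv_lhs => rw [← smul_mul_assoc, ← smul_mul_assoc, ← P_rho, mul_assoc (P ρ ψ t (dl i₀ - b)),
        ← map_mul, comm_wEl (symHom_pt S') (symHom_vr S' hz), map_mul, ← mul_assoc (P ρ ψ t (dl i₀ - b)),
        mul_assoc _ (ρ (symHom F m _)), rho_P, mul_smul_comm]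
    rcases chi_eq_iff hC.prim hC.two hC.ht (DFunLike.ext _ _ key) with e | e
    · exact h2 e
    · exact h1 (by rw [e, neg_neg])
  rw [E_tau ρ ψ t i₀ hb, tau_E ρ ψ t i₀ hb']
  calc ρ (tau i₀ b) * P ρ ψ t (dl i₀ - b) * ρ (wEl i₀ κ) * (P ρ ψ t (dl i₀ + b') * ρ (tau i₀ b'))
      = ρ (tau i₀ b) * (P ρ ψ t (dl i₀ - b) * ρ (wEl i₀ κ) * P ρ ψ t (dl i₀ + b')) * ρ (tau i₀ b') := by
        simp only [mul_assoc]
    _ = 0 := by rw [hM, mul_zero, zero_mul]

theorem X_scal_ne (hC : Ctx ρ ψ t ε) (hm : 2 ≤ m) (κ : F) {b b' : Fin m → F} (hb : b i₀ = 0)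
    (hb' : b' i₀ = 0) (hne : b ≠ 0) :
    Scal (P ρ ψ t (dl i₀))
      (P ρ ψ t (dl i₀) * ρ (tau i₀ b) * ρ (wEl i₀ κ) * (ρ (tau i₀ b') * P ρ ψ t (dl i₀))) := by
  by_cases hpm : b' = b ∨ b' = -b
  swap
  · push_neg at hpm
    rw [X_zero hC κ hb hb' hpm.1 hpm.2]
    exact Scal.zero _
  obtain ⟨j, hj⟩ := Function.ne_iff.1 hne
  rw [Pi.zero_apply] at hj
  have hji : j ≠ i₀ := fun e => hj (e ▸ hb)
  set l := -(b j)⁻¹ with hl
  have hl0 : l ≠ 0 := neg_ne_zero.2 (inv_ne_zero hj)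
  set a : Fin m → F := Pi.single j l with hadef
  have ha0 : a i₀ = 0 := by rw [hadef, Pi.single_eq_of_ne (Ne.symm hji)]
  have hab : a ⬝ᵥ b = -1 := by rw [hadef, single_dotProduct, hl, neg_mul, inv_mul_cancel₀ hj]
  set d : Fin m → F := fun i => if i = i₀ then l else 1 with hd
  set A := Matrix.swap F i₀ j * Matrix.diagonal d with hA
  set B := Matrix.swap F i₀ j * Matrix.diagonal (fun i => (d i)⁻¹) with hB
  have hAB : Aᵀ * B = 1 := by
    rw [hA, hB, Matrix.transpose_mul, Matrix.diagonal_transpose, Matrix.transpose_swap, Matrix.mul_assoc,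
      ← Matrix.mul_assoc (Matrix.swap F i₀ j), Matrix.swap_mul_self, Matrix.one_mul, Matrix.diagonal_mul_diagonal]
    rw [show (fun i => d i * (d i)⁻¹) = fun _ => (1 : F) from funext fun i =>
      mul_inv_cancel₀ (by simp only [hd]; split_ifs <;> simp [hl0])]
    exact Matrix.diagonal_one
  have hAd : A *ᵥ dl i₀ = a := by
    rw [hA, ← Matrix.mulVec_mulVec]
    funext i
    rw [Matrix.swap_mulVec, Function.comp_apply, Matrix.mulVec_diagonal, hd, hadef]
    by_cases e : i = j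
    · subst e; simp [Pi.single_apply]
    · have : Equiv.swap i₀ j i ≠ i₀ := by
        intro h
        rw [Equiv.swap_apply_def] at h
        split_ifs at h with h1 h2
        · exact hji h
        · exact h1 h
      simp [Pi.single_apply, e, this]
  have hBA : Bᵀ * A = 1 := by
    have := congrArg Matrix.transpose hAB
    rwa [Matrix.transpose_mul, Matrix.transpose_one, Matrix.transpose_transpose] at this
  have hAB' : (Bᵀ)ᵀ * Aᵀ = 1 := by rw [Matrix.transpose_transpose]; exact mul_eq_one_comm.1 hAB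
  set g := lev A B hAB with hg
  set g' := lev Bᵀ Aᵀ hAB' with hg'
  have hgg : g * g' = 1 := by
    rw [hg, hg', lev_mul]
    exact Subtype.ext (by simp [Symp.levi, mul_eq_one_comm.1 hAB, mul_eq_one_comm.1 hBA])
  have hgg' : g' * g = 1 := by rw [mul_eq_one_iff_inv_eq] at hgg; rw [← hgg, inv_mul_cancel]
  set X0 := g' * wEl i₀ κ * g with hX0
  have hX0p : X0 • pt (F := F) i₀ = pt i₀ := by
    have hw0 : wEl i₀ κ • (vl a : Fin m ⊕ Fin m → F) = vl a := by
      have h1 : form (vl a : Fin m ⊕ Fin m → F) (vr (dl i₀)) = 0 := by rw [form_vr_dl]; simp [vl, ha0]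
      have h2 : form (vl a : Fin m ⊕ Fin m → F) (pt i₀) = 0 := by rw [form_left_pt]; simp [vl]
      simp only [wEl, mul_smul, tv_smul, h1, h2, mul_zero, zero_smul, add_zero]
    rw [hX0, mul_smul, mul_smul, hg, lev_pt, hAd, hw0, ← hAd, ← lev_pt A B hAB, ← hg, ← mul_smul, hgg', one_smul]
  have hw' : wEl i₀ κ = g * X0 * g' := by
    rw [hX0, ← mul_assoc, ← mul_assoc, hgg, one_mul, mul_assoc, hgg, mul_one]
  obtain ⟨k1, c1, hc1, e1⟩ : ∃ (k : ℂ) (c : Fin m → F), c i₀ = 0 ∧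
      P ρ ψ t (dl i₀) * ρ (tau i₀ b * g) = k • (P ρ ψ t (dl i₀) * ρ (tau i₀ c)) := by
    rw [show tau i₀ b = lev _ _ (lev_tau_cond i₀ hb) from hw_vr i₀ hb, hg, lev_mul]
    refine E_lev hC hm _ _ _ (Or.inl ?_)
    rw [Matrix.transpose_mul, ← Matrix.mulVec_mulVec, Matrix.transpose_sub, Matrix.transpose_one,
      Matrix.transpose_vecMulVec, Matrix.sub_mulVec, Matrix.one_mulVec, vecMulVec_dl_mulVec, dl_self, one_smul]
    have h := dotProduct_single (Aᵀ *ᵥ (dl i₀ - b)) (1 : F) i₀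
    rw [mul_one] at h
    rw [← h, Matrix.mulVec_transpose, ← Matrix.dotProduct_mulVec, hAd, sub_dotProduct, single_dotProduct, one_mul,
      ha0, dotProduct_comm, hab]
    ring
  obtain ⟨k2, c2, hc2, e2⟩ : ∃ (k : ℂ) (c : Fin m → F), c i₀ = 0 ∧
      ρ (g' * tau i₀ b') * P ρ ψ t (dl i₀) = k • (ρ (tau i₀ c) * P ρ ψ t (dl i₀)) := by
    rw [show tau i₀ b' = lev _ _ (lev_tau_cond i₀ hb') from hw_vr i₀ hb', hg', lev_mul]
    refine lev_E hC hm _ _ _ ?_
    rw [← Matrix.mulVec_mulVec, Matrix.add_mulVec, Matrix.one_mulVec, vecMulVec_dl_mulVec, dl_self, one_smul]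
    have h := dotProduct_single (Aᵀ *ᵥ (dl i₀ + b')) (1 : F) i₀
    rw [mul_one] at h
    rw [← h, Matrix.mulVec_transpose, ← Matrix.dotProduct_mulVec, hAd, add_dotProduct, single_dotProduct, one_mul,
      ha0, zero_add, dotProduct_comm]
    rcases hpm with e | e
    · exact Or.inr (by rw [e, hab])
    · exact Or.inl (by rw [e, dotProduct_neg, hab, neg_neg])
  have hX : P ρ ψ t (dl i₀) * ρ (tau i₀ b) * ρ (wEl i₀ κ) * (ρ (tau i₀ b') * P ρ ψ t (dl i₀)) =
      (k1 * k2) • (P ρ ψ t (dl i₀) * ρ (tau i₀ c1 * X0 * tau i₀ c2) * P ρ ψ t (dl i₀)) := by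
    calc P ρ ψ t (dl i₀) * ρ (tau i₀ b) * ρ (wEl i₀ κ) * (ρ (tau i₀ b') * P ρ ψ t (dl i₀))
        = (P ρ ψ t (dl i₀) * ρ (tau i₀ b * g)) * ρ X0 * (ρ (g' * tau i₀ b') * P ρ ψ t (dl i₀)) := by
          rw [hw']; simp only [map_mul, mul_assoc]
      _ = _ := by
          rw [e1, e2, smul_mul_assoc, smul_mul_assoc, mul_smul_comm, smul_smul]
          simp only [map_mul, mul_assoc]
  rw [hX]
  refine (Scal_stab hC hm ?_).smul _
  rw [mul_smul, mul_smul, hw_fix (form_pt_vr0 i₀ hc2), hX0p, hw_fix (form_pt_vr0 i₀ hc1)]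

theorem X_scal_zero (hC : Ctx ρ ψ t ε) (hm : 2 ≤ m) (κ : F) :
    Scal (P ρ ψ t (dl i₀)) (P ρ ψ t (dl i₀) * ρ (wEl i₀ κ) * P ρ ψ t (dl i₀)) := by
  set E := P ρ ψ t (dl i₀) with hE
  by_cases hE0 : E = 0
  · rw [hE0, mul_zero]; exact Scal.zero _
  obtain ⟨j, hj⟩ : ∃ j : Fin m, j ≠ i₀ :=
    Fintype.exists_ne_of_one_lt_card (by rw [Fintype.card_fin]; omega) i₀
  set a : Fin m → F := Pi.single j 1 with hadef
  have ha : a i₀ = 0 := Pi.single_eq_of_ne (Ne.symm hj) _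
  set φ := tv (vr a) (1 : F) with hφ
  have hφp : φ • pt (F := F) i₀ = pt i₀ := by
    rw [hφ, tv_smul, form_pt_vr0 i₀ ha, mul_zero, zero_smul, add_zero]
  have hφvr : ∀ b : Fin m → F, φ • (vr b : Fin m ⊕ Fin m → F) = vr b := fun b => by
    rw [hφ, tv_smul, form_vr_vr, mul_zero, zero_smul, add_zero]
  have hφw : φ * wEl i₀ κ = wEl i₀ κ * φ := comm_wEl hφp (hφvr _) κ
  have hφτ : ∀ b : Fin m → F, φ * tau i₀ b = tau i₀ b * φ := fun b => by
    rw [← mul_inv_eq_iff_eq_mul]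
    exact (hw_conj hφp).trans (by rw [hφvr])
  obtain ⟨b, hb, hb0, hne⟩ : ∃ b : Fin m → F, b i₀ = 0 ∧ b ≠ 0 ∧ E * ρ φ * (ρ (tau i₀ b) * E) ≠ 0 := by
    by_contra hcon
    push_neg at hcon
    obtain ⟨c, hc⟩ := Scal_stab (ρ := ρ) hC hm hφp
    rw [← hE] at hc
    have hφE : ρ φ * E = c • E := by
      have h1 : ρ φ * E = Z ρ ψ t i₀ * (ρ φ * E) := by
        rw [← mul_assoc, ← Z_comm ρ ψ t i₀ hφp, mul_assoc, hE, Z_E]
      rw [h1, Z_eq_sum hC, Finset.sum_mul, Finset.sum_eq_single (0 : Fin m → F)]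
      · rw [add_zero, ← hE, ← mul_assoc, hc]
      · intro b' hb' hb'0
        have h0 := hcon (-b') (by simp [mem_Bs.1 hb']) (neg_ne_zero.2 hb'0)
        have h' : P ρ ψ t (dl i₀ + b') * (ρ φ * E) = ρ (tau i₀ b') * (E * ρ φ * (ρ (tau i₀ (-b')) * E)) := by
          rw [P_shift ρ ψ t i₀ (mem_Bs.1 hb'), ← hE]
          simp only [← mul_assoc]
          rw [mul_assoc _ (ρ (tau i₀ (-b'))) (ρ φ), ← map_mul, ← hφτ, map_mul]
          simp only [← mul_assoc]
        rw [h', h0, mul_zero]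
      · exact fun h => absurd zero_mem_Bs h
    have hc0 : c ≠ 0 := by
      intro hc0
      apply hE0
      rw [← one_mul E, ← map_one ρ, ← inv_mul_cancel φ, map_mul, mul_assoc, hφE, hc0, zero_smul, mul_zero]
    set a' : Fin m → F := -Pi.single j 1 with ha'def
    have haa : a' ⬝ᵥ a = -1 := by rw [ha'def, hadef, neg_dotProduct, single_dotProduct, one_mul, Pi.single_eq_same]
    have hw1 : φ • (vl a' : Fin m ⊕ Fin m → F) = vr a + vl a' := by
      rw [hφ, tv_smul, form_vr]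
      show vl a' + (1 * -(a' ⬝ᵥ a)) • vr a = _
      rw [haa, neg_neg, mul_one, one_smul, add_comm]
    have hsum : form (pt (F := F) i₀) (vr a + vl a') = 0 := by
      rw [form_add_right, form_pt_vr0 i₀ ha, form_pt_vl, add_zero]
    have hmul : tau i₀ a * hw (pt i₀) (vl a') = tv (pt i₀) (form (vl a') (vr a)) * (φ * hw (pt i₀) (vl a') * φ⁻¹) := by
      rw [hw_mul (form_pt_vr0 i₀ ha) (form_pt_vl i₀ a'), hw_conj hφp, hw1]
    set s := chi ψ t (dl i₀) (symPair 1 (dl i₀) a') with hs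
    have hsE : ρ (hw (pt i₀) (vl a')) * E = s • E := by rw [hw_vl, hE, rho_P]
    have hφinv : ρ φ⁻¹ * E = c⁻¹ • E := by
      refine smul_right_injective _ hc0 ?_
      show c • (ρ φ⁻¹ * E) = c • c⁻¹ • E
      rw [smul_smul, mul_inv_cancel₀ hc0, one_smul, ← mul_smul_comm, ← hφE, ← mul_assoc, ← map_mul,
        inv_mul_cancel, map_one, one_mul]
    have htv : ∃ z : ℂ, ρ (tv (pt i₀) (form (vl a') (vr a))) * E = z • E := by
      rw [tv_pt, hE, rho_P]; exact ⟨_, rfl⟩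
    obtain ⟨z, hz⟩ := htv
    have h2 : s • (ρ (tau i₀ a) * E) = (c⁻¹ * s * c * z) • E := by
      rw [← mul_smul_comm, ← hsE, ← mul_assoc, ← map_mul, hmul, map_mul, map_mul, map_mul]
      simp only [mul_assoc]
      rw [hφinv, mul_smul_comm, mul_smul_comm, mul_smul_comm, hsE, mul_smul_comm, mul_smul_comm, hφE,
        mul_smul_comm, hz, smul_smul, smul_smul, smul_smul]
      congr 1
      ring
    have hs0 : s ≠ 0 := (AddChar.val_isUnit _ _).ne_zero
    have ha0 : a ≠ 0 := fun e => by simpa [hadef] using congrFun e j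
    have h3 := congrArg (fun X => E * X) h2
    simp only [mul_smul_comm, ← mul_assoc, hE, E_tau_E hC ha ha0, smul_zero, P_idem] at h3
    have h4 : ρ (tau i₀ a) * E = 0 := by
      refine smul_right_injective _ hs0 ?_
      show s • (ρ (tau i₀ a) * E) = s • (0 : Module.End ℂ V)
      rw [smul_zero, h2, hE]
      exact h3.symm
    apply hE0
    rw [← one_mul E, ← map_one ρ, ← inv_mul_cancel (tau i₀ a), map_mul, mul_assoc, h4, mul_zero]
  obtain ⟨c, hc⟩ : Scal E (E * ρ φ * (ρ (tau i₀ b) * E)) := by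
    rw [← mul_assoc, mul_assoc E, ← map_mul]
    exact Scal_stab hC hm (by rw [mul_smul, hw_fix (form_pt_vr0 i₀ hb), hφp])
  have hc0 : c ≠ 0 := fun e => hne (by rw [hc, e, zero_smul])
  have hX0 : ∀ b' : Fin m → F, b' i₀ = 0 → b' ≠ 0 →
      E * ρ (wEl i₀ κ) * (ρ (tau i₀ b') * E) = 0 := fun b' hb' hb'0 => by
    have := X_zero hC κ (i₀ := i₀) (b := 0) rfl hb' hb'0 (by rwa [neg_zero])
    rwa [tau_zero, map_one, mul_one] at this
  have main : c • (E * ρ (wEl i₀ κ) * E) = E * ρ (wEl i₀ κ) * ρ φ * (ρ (tau i₀ b) * E) := by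
    have h1 : E * ρ (wEl i₀ κ) * ρ φ * (ρ (tau i₀ b) * E) =
        E * ρ (wEl i₀ κ) * Z ρ ψ t i₀ * (ρ φ * (ρ (tau i₀ b) * E)) := by
      have e : Z ρ ψ t i₀ * (ρ φ * (ρ (tau i₀ b) * E)) = ρ φ * (ρ (tau i₀ b) * E) := by
        rw [← mul_assoc, ← Z_comm ρ ψ t i₀ hφp, mul_assoc, ← mul_assoc (Z ρ ψ t i₀),
          ← Z_comm ρ ψ t i₀ (hw_fix (form_pt_vr0 i₀ hb)), mul_assoc, hE, Z_E]
      rw [mul_assoc _ (Z ρ ψ t i₀), e, mul_assoc]
    rw [h1, Z_eq_sum hC, Finset.mul_sum, Finset.sum_mul, Finset.sum_eq_single (0 : Fin m → F)]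
    · rw [add_zero, ← hE, mul_assoc (E * ρ (wEl i₀ κ)), ← mul_assoc E (ρ φ), hc, mul_smul_comm]
    · intro b' hb' hb'0
      have h0 := hX0 b' (mem_Bs.1 hb') hb'0
      simp only [← mul_assoc] at h0
      rw [P_shift ρ ψ t i₀ (mem_Bs.1 hb'), ← hE]
      simp only [← mul_assoc]
      simp only [h0, zero_mul]
    · exact fun h => absurd zero_mem_Bs h
  suffices h : Scal E (E * ρ (wEl i₀ κ) * ρ φ * (ρ (tau i₀ b) * E)) by
    rw [← main] at h
    have := h.smul c⁻¹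
    rwa [smul_smul, inv_mul_cancel₀ hc0, one_smul] at this
  have h1 : E * ρ (wEl i₀ κ) * ρ φ * (ρ (tau i₀ b) * E) =
      E * ρ φ * Z ρ ψ t i₀ * (ρ (wEl i₀ κ) * (ρ (tau i₀ b) * E)) := by
    rw [mul_assoc E (ρ (wEl i₀ κ)), ← map_mul, ← hφw, map_mul, mul_assoc E (ρ φ) (Z ρ ψ t i₀),
      Z_comm ρ ψ t i₀ hφp, ← mul_assoc E (Z ρ ψ t i₀), hE, E_Z]
    simp only [mul_assoc]
  rw [h1, Z_eq_sum hC, Finset.mul_sum, Finset.sum_mul]
  refine Scal.sum _ fun b' hb' => ?_
  have hb'' : (-b') i₀ = 0 := by simp [mem_Bs.1 hb']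
  obtain ⟨d, hd⟩ : Scal E (E * ρ φ * (ρ (tau i₀ b') * E)) := by
    rw [← mul_assoc, mul_assoc E, ← map_mul]
    exact Scal_stab hC hm (by rw [mul_smul, hw_fix (form_pt_vr0 i₀ (mem_Bs.1 hb')), hφp])
  obtain ⟨e, he⟩ : Scal E (E * ρ (tau i₀ (-b')) * ρ (wEl i₀ κ) * (ρ (tau i₀ b) * E)) := by
    by_cases hb'0 : b' = 0
    · subst hb'0
      rw [neg_zero, tau_zero, map_one, mul_one, hX0 b hb hb0]
      exact Scal.zero _
    · exact X_scal_ne hC hm κ hb'' hb (neg_ne_zero.2 hb'0)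
  refine ⟨d * e, ?_⟩
  calc E * ρ φ * P ρ ψ t (dl i₀ + b') * (ρ (wEl i₀ κ) * (ρ (tau i₀ b) * E))
      = (E * ρ φ * (ρ (tau i₀ b') * E)) *
          (E * ρ (tau i₀ (-b')) * ρ (wEl i₀ κ) * (ρ (tau i₀ b) * E)) := by
        rw [P_shift ρ ψ t i₀ (mem_Bs.1 hb'), ← hE]
        conv_lhs => rw [hE, ← P_idem ρ ψ t (dl i₀), ← hE]
        simp only [mul_assoc]
        rw [hE]
        simp only [← mul_assoc, mul_assoc _ (P ρ ψ t (dl i₀)) (P ρ ψ t (dl i₀)), P_idem]
    _ = _ := by rw [hd, he, smul_mul_assoc, mul_smul_comm, smul_smul, hE, P_idem]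

theorem Scal_wEl (hC : Ctx ρ ψ t ε) (hm : 2 ≤ m) (κ : F) {b b' : Fin m → F} (hb : b i₀ = 0) (hb' : b' i₀ = 0) :
    Scal (P ρ ψ t (dl i₀))
      (P ρ ψ t (dl i₀) * ρ (tau i₀ b) * ρ (wEl i₀ κ) * (ρ (tau i₀ b') * P ρ ψ t (dl i₀))) := by
  by_cases hb0 : b = 0
  · by_cases hb'0 : b' = 0
    · subst hb0 hb'0
      rw [tau_zero, map_one, mul_one, one_mul]
      exact X_scal_zero hC hm κ
    · rw [X_zero hC κ hb hb' (by rw [hb0]; exact hb'0) (by rw [hb0, neg_zero]; exact hb'0)]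
      exact Scal.zero _
  · exact X_scal_ne hC hm κ hb hb' hb0

/-- The small projection cuts the whole group down to scalars. -/
theorem Scal_all (hC : Ctx ρ ψ t ε) (hm : 2 ≤ m) (g : Matrix.symplecticGroup (Fin m) F) :
    Scal (P ρ ψ t (dl i₀)) (P ρ ψ t (dl i₀) * ρ g * P ρ ψ t (dl i₀)) := by
  set x := g • pt (F := F) i₀ with hx
  by_cases hr : x (Sum.inr i₀) = 0
  swap
  · set κ := x (Sum.inr i₀) with hκ
    obtain ⟨s, hs, hsu⟩ := exists_tv_move (e := pt (F := F) i₀) (u := wEl i₀ κ • pt i₀) (v := x)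
      (by rw [wEl_pt hr, form_left_pt]; simpa [vr, dl_self] using hr)
      (by rw [wEl_pt hr, form_left_pt, form_left_pt]; simp [vr, dl_self, hκ])
    have hs' : s • pt (F := F) i₀ = pt i₀ := perpPt_fix i₀ hs
    have hp : ((wEl i₀ κ)⁻¹ * (s⁻¹ * g)) • pt (F := F) i₀ = pt i₀ := by
      rw [mul_smul, mul_smul, ← hx, ← hsu, inv_smul_smul, inv_smul_smul]
    have := Scal_double hC hm hs' hp (σ := wEl i₀ κ) fun b b' hb hb' => Scal_wEl hC hm κ hb hb'
    rwa [show s * wEl i₀ κ * ((wEl i₀ κ)⁻¹ * (s⁻¹ * g)) = g by group] at this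
  by_cases hline : ∃ c : F, x = c • pt i₀
  · obtain ⟨c, hc⟩ := hline
    by_cases hc2 : c * c = 1
    · rcases mul_self_eq_one_iff.1 hc2 with e | e
      · exact Scal_stab hC hm (by rw [← hx, hc, e, one_smul])
      · have hn : ∀ y : Fin m ⊕ Fin m → F, (negOne : Matrix.symplecticGroup (Fin m) F) • y = -y := fun y => by
          rw [negOne, lev_apply, Matrix.neg_mulVec, Matrix.neg_mulVec, Matrix.one_mulVec, Matrix.one_mulVec]
          funext i
          rcases i with i | i <;> simp [vl, vr]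
        have hz : negOne * negOne = (1 : Matrix.symplecticGroup (Fin m) F) :=
          symp_ext fun y => by rw [mul_smul, hn, hn, neg_neg, one_smul]
        rw [show g = negOne * (negOne * g) by rw [← mul_assoc, hz, one_mul], map_mul, hC.eps, smul_mul_assoc,
          one_mul, mul_smul_comm, smul_mul_assoc]
        refine (Scal_stab hC hm ?_).smul ε
        rw [mul_smul, ← hx, hc, e, hn, neg_smul, one_smul, neg_neg]
    · have hne : ∃ c' : F, ψ (t * (c * c * c')) ≠ ψ (t * c') := by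
        by_contra hcon
        push_neg at hcon
        apply hc2
        refine mul_left_cancel₀ hC.ht (psi_inj hC.prim (b := t * 1) fun c' => ?_)
        rw [mul_comm, mul_assoc, hcon, mul_one, mul_comm]
      obtain ⟨c', hc'⟩ := hne
      have hconj : tv (pt i₀) (c * c * c') * g = g * tv (pt i₀) c' := by
        rw [← inv_mul_cancel_right (g * tv (pt i₀) c') g, tv_conj, ← hx, hc, tv_smul_vec, sq]
      set E := P ρ ψ t (dl i₀) with hE
      have h1 : E * ρ (tv (pt i₀) (c * c * c')) = ψ (t * (c * c * c')) • E := by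
        rw [hE, ← E_Z ρ ψ t i₀, mul_assoc, ← Z_comm ρ ψ t i₀ (by rw [tv_smul, form_self, mul_zero, zero_smul,
          add_zero]), tv_Z, mul_smul_comm]
      have h2 : ρ (tv (pt i₀) c') * E = ψ (t * c') • E := by
        rw [hE, ← Z_E ρ ψ t i₀, ← mul_assoc, tv_Z, smul_mul_assoc]
      have h3 : ψ (t * (c * c * c')) • (E * ρ g * E) = ψ (t * c') • (E * ρ g * E) := by
        rw [← smul_mul_assoc, ← smul_mul_assoc, ← h1, mul_assoc E, ← map_mul, hconj, map_mul, mul_assoc E,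
          mul_assoc (ρ g), h2, mul_smul_comm, mul_smul_comm, mul_assoc]
      have : E * ρ g * E = 0 := by
        by_contra hX
        exact hc' (smul_left_injective ℂ hX h3)
      rw [this]
      exact Scal.zero _
  · obtain ⟨j, hj⟩ : ∃ j : Fin m, j ≠ i₀ :=
      Fintype.exists_ne_of_one_lt_card (by rw [Fintype.card_fin]; omega) i₀
    have hj0 : (Pi.single j 1 : Fin m → F) i₀ = 0 := Pi.single_eq_of_ne (Ne.symm hj) _
    have hsw : (Matrix.swap F i₀ j)ᵀ * Matrix.swap F i₀ j = 1 := by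
      rw [Matrix.transpose_swap, Matrix.swap_mul_self]
    set σ := lev _ _ hsw with hσ
    have hσp : σ • pt (F := F) i₀ = vl (Pi.single j 1) := by
      rw [hσ, lev_pt, Matrix.swap_mulVec]
      congr 1
      funext i
      simp [Pi.single_apply, Equiv.swap_apply_eq_iff]
    have hxw : ∃ w ∈ perpPt (F := F) i₀, form x w ≠ 0 := by
      by_contra hcon
      push_neg at hcon
      set f : Fin m ⊕ Fin m → F := Pi.single (Sum.inr i₀) 1 with hf
      have hfe : form f (pt (F := F) i₀) = 1 := by rw [form_left_pt, hf, Pi.single_eq_same]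
      refine hline ⟨-form x f, ?_⟩
      have hz : x + form x f • pt i₀ = 0 := eq_zero_of_form_eq_zero fun y => by
        have h1 := hcon (y - form y (pt i₀) • f) ((mem_perpPt i₀).2 (by
          rw [form_sub_left, form_smul_left, hfe, mul_one, sub_self]))
        rw [form_sub_right, form_smul_right] at h1
        rw [form_add_right, form_smul_right, form_swap y x]
        linear_combination -h1
      rw [neg_smul]
      exact eq_neg_of_add_eq_zero_left hz
    obtain ⟨s, hs, hsu⟩ := exists_tvGroup_smul (W := perpPt (F := F) i₀) (u := σ • pt i₀) (v := x)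
      ((mem_perpPt i₀).2 (by rw [hσp, form_swap, form_pt_vl, neg_zero]))
      ((mem_perpPt i₀).2 (by rw [form_left_pt, hr]))
      ⟨vr (Pi.single j 1), (mem_perpPt i₀).2 (by rw [form_swap, form_pt_vr0 i₀ hj0, neg_zero]), by
        rw [hσp, form_vr]; simp [vl]⟩ hxw
    have hs' : s • pt (F := F) i₀ = pt i₀ := perpPt_fix i₀ hs
    have hp : (σ⁻¹ * (s⁻¹ * g)) • pt (F := F) i₀ = pt i₀ := by
      rw [mul_smul, mul_smul, ← hx, ← hsu, inv_smul_smul, inv_smul_smul]
    have := Scal_double hC hm hs' hp (σ := σ) fun b b' hb hb' => by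
      rw [mul_assoc, ← mul_assoc (ρ σ), ← mul_assoc, ← map_mul, mul_assoc (P ρ ψ t (dl i₀)), ← map_mul,
        show tau i₀ b = lev _ _ (lev_tau_cond i₀ hb) from hw_vr i₀ hb,
        show tau i₀ b' = lev _ _ (lev_tau_cond i₀ hb') from hw_vr i₀ hb', hσ, lev_mul, lev_mul]
      exact Scal_lev hC hm _ _ _
    rwa [show s * σ * (σ⁻¹ * (s⁻¹ * g)) = g by group] at this

end CfsgLib.MinDeg.SpLow
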