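import Cfsg.Agent.MinDeg.SympLowSpan

/-!
Levi elements on a rank one weight space.
-/

set_option autoImplicit false
set_option linter.style.haveILetI false
set_option linter.unusedSectionVars false

namespace CfsgLib.MinDeg.SpLow

open Matrix CfsgLib.MinDeg CfsgLib.Symp

universe u v

variable {F : Type u} [Field F] [Fintype F] [DecidableEq F] {m : ℕ}
  {V : Type v} [AddCommGroup V] [Module ℂ V]
  {ρ : Representation ℂ (Matrix.symplecticGroup (Fin m) F) V} {ψ : AddChar F ℂ} {t : F} {ε : ℂ}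
  {i₀ : Fin m}

theorem lev_congr {A B A' B' : Matrix (Fin m) (Fin m) F} {h : Aᵀ * B = 1} {h' : A'ᵀ * B' = 1} (hA : A = A')
    (hB : B = B') : lev A B h = lev A' B' h' := by
  subst hA hB; rfl

theorem lev_pt (A B : Matrix (Fin m) (Fin m) F) (h : Aᵀ * B = 1) :
    lev A B h • pt (F := F) i₀ = vl (A *ᵥ dl i₀) := lev_vl A B h _

theorem vecMulVec_dl_mulVec (a u : Fin m → F) (i : Fin m) :
    Matrix.vecMulVec a (dl i) *ᵥ u = u i • a := by
  rw [Matrix.vecMulVec_mulVec, op_smul_eq_smul, single_dotProduct, one_mul]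

theorem shear_cond {a : Fin m → F} (ha : a i₀ = 0) :
    (1 + Matrix.vecMulVec a (dl i₀))ᵀ * (1 - Matrix.vecMulVec (dl i₀) a) = 1 := by
  rw [Matrix.transpose_add, Matrix.transpose_one, Matrix.transpose_vecMulVec, mul_sub, add_mul, one_mul, mul_one,
    add_mul, one_mul, Matrix.vecMulVec_mul_vecMulVec, dotProduct_single, mul_one, ha]
  simp

/-- The Levi elements fixing a rank one weight and moving the point. -/
abbrev shear {a : Fin m → F} (ha : a i₀ = 0) : Matrix.symplecticGroup (Fin m) F := lev _ _ (shear_cond ha)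

theorem shear_mul {a a' : Fin m → F} (ha : a i₀ = 0) (ha' : a' i₀ = 0) :
    shear ha * shear ha' = shear (a := a + a') (by simp [ha, ha'] : (a + a') i₀ = 0) := by
  rw [shear, shear, shear, lev_mul]
  refine lev_congr ?_ ?_
  · rw [mul_add, add_mul, one_mul, mul_one, add_mul, one_mul, Matrix.vecMulVec_mul_vecMulVec, single_dotProduct,
      one_mul, ha', Matrix.add_vecMulVec]
    simp
    abel
  · rw [mul_sub, sub_mul, one_mul, mul_one, sub_mul, one_mul, Matrix.vecMulVec_mul_vecMulVec, dotProduct_single,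
      mul_one, ha, Matrix.vecMulVec_add]
    simp
    abel

theorem lev_comm_P (A B : Matrix (Fin m) (Fin m) F) (h : Aᵀ * B = 1)
    (hB : B *ᵥ dl i₀ = dl i₀ ∨ B *ᵥ dl i₀ = -dl i₀) :
    ρ (lev A B h) * P ρ ψ t (dl i₀) = P ρ ψ t (dl i₀) * ρ (lev A B h) := by
  rw [lev_P]
  rcases hB with e | e
  · rw [e]
  · rw [e, P_neg]

theorem shear_comm {a : Fin m → F} (ha : a i₀ = 0) :
    ρ (shear ha) * P ρ ψ t (dl i₀) = P ρ ψ t (dl i₀) * ρ (shear ha) :=
  lev_comm_P _ _ _ (Or.inl (by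
    rw [Matrix.sub_mulVec, Matrix.one_mulVec, Matrix.vecMulVec_mulVec, op_smul_eq_smul, dotProduct_single, mul_one,
      ha, zero_smul, sub_zero]))

/-- The diagonal involution fixing the point. -/
def dMat (i₀ : Fin m) : Matrix (Fin m) (Fin m) F := (2 : F) • Matrix.vecMulVec (dl i₀) (dl i₀) - 1

theorem dMat_mulVec (i₀ : Fin m) (u : Fin m → F) : dMat i₀ *ᵥ u = (2 * u i₀) • dl i₀ - u := by
  rw [dMat, Matrix.sub_mulVec, Matrix.smul_mulVec, vecMulVec_dl_mulVec, Matrix.one_mulVec, smul_smul]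

theorem dMat_transpose (i₀ : Fin m) : (dMat (F := F) i₀)ᵀ = dMat i₀ := by
  rw [dMat, Matrix.transpose_sub, Matrix.transpose_smul, Matrix.transpose_vecMulVec, Matrix.transpose_one]

theorem dMat_cond (i₀ : Fin m) : (dMat (F := F) i₀)ᵀ * dMat i₀ = 1 := by
  rw [dMat_transpose]
  refine Matrix.ext_of_mulVec_single fun j => ?_
  rw [← Matrix.mulVec_mulVec, dMat_mulVec, dMat_mulVec, Matrix.one_mulVec, Pi.sub_apply, Pi.smul_apply,
    smul_eq_mul, dl_self]
  module

theorem E_shear_eq (hC : Ctx ρ ψ t ε) (hm : 2 ≤ m) {a : Fin m → F} (ha : a i₀ = 0) :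
    P ρ ψ t (dl i₀) * ρ (shear ha) = P ρ ψ t (dl i₀) := by
  set E := P ρ ψ t (dl i₀) with hE
  set D := lev (dMat (F := F) i₀) (dMat i₀) (dMat_cond i₀) with hD
  have hDdl : dMat (F := F) i₀ *ᵥ dl i₀ = dl i₀ := by
    rw [dMat_mulVec, dl_self]; module
  have hDE : ρ D * E = E * ρ D := lev_comm_P _ _ _ (Or.inl hDdl)
  obtain ⟨d, hd⟩ := Scal_stab (ρ := ρ) (i₀ := i₀) hC hm (g := D) (by rw [hD, lev_pt, hDdl])
  have hED : E * ρ D = d • E := by
    rw [← hE] at hd
    rw [← hd, mul_assoc, hDE, ← mul_assoc, hE, P_idem]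
  have key : ∀ (a : Fin m → F) (ha : a i₀ = 0) (ha' : (-a) i₀ = 0),
      D * shear ha = shear ha' * D := fun a ha ha' => by
    rw [hD, shear, shear, lev_mul, lev_mul]
    have hneg : dMat i₀ *ᵥ a = -a := by rw [dMat_mulVec, ha, mul_zero, zero_smul, zero_sub]
    refine lev_congr ?_ ?_
    · rw [mul_add, add_mul, mul_one, one_mul, Matrix.mul_vecMulVec, hneg, Matrix.vecMulVec_mul,
        ← Matrix.mulVec_transpose, dMat_transpose, hDdl]
    · rw [mul_sub, sub_mul, mul_one, one_mul, Matrix.mul_vecMulVec, hDdl, Matrix.vecMulVec_mul,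
        ← Matrix.mulVec_transpose, dMat_transpose, Matrix.mulVec_neg, hneg, neg_neg]
  by_cases hd0 : d = 0
  · have hE0 : E = 0 := by
      rw [← mul_one E, ← map_one ρ, ← mul_inv_cancel D, map_mul, ← mul_assoc, hED, hd0, zero_smul, zero_mul]
    rw [hE0, zero_mul]
  have half : ∀ (a : Fin m → F) (ha : a i₀ = 0) (ha' : (-a) i₀ = 0),
      E * ρ (shear ha) = E * ρ (shear ha') := fun a ha ha' => by
    refine smul_right_injective _ hd0 ?_
    show d • (E * ρ (shear ha)) = d • (E * ρ (shear ha'))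
    rw [← smul_mul_assoc, ← hED, mul_assoc, ← map_mul, key a ha ha', map_mul, ← mul_assoc, hE,
      ← shear_comm, mul_assoc, ← hE, hED, mul_smul_comm, hE, shear_comm]
  set a' := (2 : F)⁻¹ • a with ha'def
  have ha' : a' i₀ = 0 := by simp [ha'def, ha]
  have hna' : (-a') i₀ = 0 := by simp [ha']
  have e1 : a' + a' = a := by
    rw [← two_smul F, ha'def, smul_smul, mul_inv_cancel₀ hC.two, one_smul]
  have e2 : ∀ (c : Fin m → F) (hc : c i₀ = 0), c = 0 → shear hc = (1 : Matrix.symplecticGroup (Fin m) F) := by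
    rintro c hc rfl
    exact Subtype.ext (by simp [shear, Symp.levi])
  have e3 : shear ha = shear ha' * shear ha' := by
    rw [shear_mul]; exact lev_congr (by rw [e1]) (by rw [e1])
  rw [e3, map_mul, ← mul_assoc, half a' ha' hna', mul_assoc, ← map_mul, shear_mul, e2 _ _ (neg_add_cancel a'),
    map_one, mul_one]

theorem negOne_mul_lev {A B : Matrix (Fin m) (Fin m) F} (h : Aᵀ * B = 1) :
    lev A B h = negOne * lev (-A) (-B) (by rw [Matrix.transpose_neg, neg_mul_neg, h]) := by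
  rw [negOne, lev_mul]
  exact lev_congr (by simp) (by simp)

theorem Scal_lev (hC : Ctx ρ ψ t ε) (hm : 2 ≤ m) (A B : Matrix (Fin m) (Fin m) F) (h : Aᵀ * B = 1) :
    Scal (P ρ ψ t (dl i₀)) (P ρ ψ t (dl i₀) * ρ (lev A B h) * P ρ ψ t (dl i₀)) := by
  set E := P ρ ψ t (dl i₀) with hE
  have hfix : ∀ (A B : Matrix (Fin m) (Fin m) F) (h : Aᵀ * B = 1), B *ᵥ dl i₀ = dl i₀ →
      Scal E (E * ρ (lev A B h) * E) := by
    intro A B h hB
    set a := Bᵀ *ᵥ dl i₀ - dl i₀ with hadef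
    have ha : a i₀ = 0 := by
      have h1 : dl i₀ ⬝ᵥ (B *ᵥ dl i₀) = 1 := by rw [hB, single_dotProduct, dl_self, one_mul]
      rw [Matrix.dotProduct_mulVec, ← Matrix.mulVec_transpose, dotProduct_single, mul_one] at h1
      rw [hadef, Pi.sub_apply, h1, dl_self, sub_self]
    have hA : A * Bᵀ = 1 := by
      refine mul_eq_one_comm.1 ?_
      rw [← Matrix.transpose_one, ← h, Matrix.transpose_mul, Matrix.transpose_transpose]
    have hpt : (lev A B h * shear ha) • pt (F := F) i₀ = pt i₀ := by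
      rw [mul_smul, lev_pt, Matrix.add_mulVec, Matrix.one_mulVec, vecMulVec_dl_mulVec, dl_self, one_smul,
        lev_vl, hadef, add_sub_cancel, Matrix.mulVec_mulVec, hA, Matrix.one_mulVec]
    have hna : (-a) i₀ = 0 := by simp [ha]
    have hinv : shear ha * shear hna = 1 := by
      rw [shear_mul]
      exact Subtype.ext (by simp [shear, Symp.levi])
    have hT : ρ (shear hna) * E = E := by rw [hE, shear_comm, E_shear_eq hC hm hna]
    have h2 : E * ρ (lev A B h) * E = E * ρ (lev A B h * shear ha) * E := by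
      calc E * ρ (lev A B h) * E = E * ρ (lev A B h * shear ha) * (ρ (shear hna) * E) := by
            rw [← mul_assoc (E * ρ (lev A B h * shear ha)), mul_assoc E (ρ (lev A B h * shear ha)),
              ← map_mul, mul_assoc (lev A B h), hinv, mul_one]
        _ = _ := by rw [hT]
    rw [h2]
    exact Scal_stab hC hm hpt
  by_cases h1 : chi ψ t (B *ᵥ dl i₀) = chi ψ t (dl i₀)
  · rcases chi_eq_iff hC.prim hC.two hC.ht h1.symm with e | e
    · exact hfix A B h e
    · rw [negOne_mul_lev h, map_mul, hC.eps, smul_mul_assoc, one_mul, mul_smul_comm, smul_mul_assoc]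
      exact (hfix _ _ _ (by rw [Matrix.neg_mulVec, e, neg_neg])).smul ε
  · rw [hE, mul_assoc, lev_P, ← mul_assoc, P_mul_P_ne ρ ψ t (Ne.symm h1), zero_mul]
    exact Scal.zero _

/-- A Levi element on the right of the small eigenspace. -/
theorem E_lev (hC : Ctx ρ ψ t ε) (hm : 2 ≤ m) (A B : Matrix (Fin m) (Fin m) F) (h : Aᵀ * B = 1)
    (hv : (Aᵀ *ᵥ dl i₀) i₀ = 1 ∨ (Aᵀ *ᵥ dl i₀) i₀ = -1) :
    ∃ (k : ℂ) (c : Fin m → F), c i₀ = 0 ∧
      P ρ ψ t (dl i₀) * ρ (lev A B h) = k • (P ρ ψ t (dl i₀) * ρ (tau i₀ c)) := by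
  set E := P ρ ψ t (dl i₀) with hE
  set v := Aᵀ *ᵥ dl i₀ with hvdef
  set s := v i₀ with hs
  have hss : s * s = 1 := by rcases hv with e | e <;> rw [e] <;> ring
  set c := s • v - dl i₀ with hcdef
  have hc : c i₀ = 0 := by rw [hcdef, Pi.sub_apply, Pi.smul_apply, smul_eq_mul, ← hs, hss, dl_self, sub_self]
  have hnc : (-c) i₀ = 0 := by simp [hc]
  have hB : B * Aᵀ = 1 := mul_eq_one_comm.1 h
  set M := lev _ _ (lev_tau_cond i₀ hc) with hM
  have hBd : (B * (1 + Matrix.vecMulVec c (dl i₀))) *ᵥ dl i₀ = s • dl i₀ := by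
    rw [← Matrix.mulVec_mulVec, Matrix.add_mulVec, Matrix.one_mulVec, vecMulVec_dl_mulVec, dl_self, one_smul,
      hcdef, add_sub_cancel, Matrix.mulVec_smul, hvdef, Matrix.mulVec_mulVec, hB, Matrix.one_mulVec]
  have hcomm : ρ (lev A B h * tau i₀ c) * E = E * ρ (lev A B h * tau i₀ c) := by
    rw [show tau i₀ c = lev _ _ (lev_tau_cond i₀ hc) from hw_vr i₀ hc, lev_mul]
    refine lev_comm_P _ _ _ ?_
    rcases hv with e | e
    · exact Or.inl (by rw [hBd, e, one_smul])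
    · exact Or.inr (by rw [hBd, e, neg_smul, one_smul])
  obtain ⟨k, hk⟩ : Scal E (E * ρ (lev A B h * tau i₀ c) * E) := by
    rw [show tau i₀ c = lev _ _ (lev_tau_cond i₀ hc) from hw_vr i₀ hc, lev_mul]
    exact Scal_lev hC hm _ _ _
  refine ⟨k, -c, hnc, ?_⟩
  rw [mul_assoc, hcomm, ← mul_assoc, hE, P_idem, ← hE] at hk
  rw [← smul_mul_assoc, ← hk, mul_assoc, ← map_mul, mul_assoc, tau_mul_neg i₀ hc, mul_one]

/-- A Levi element on the left of the small eigenspace. -/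
theorem lev_E (hC : Ctx ρ ψ t ε) (hm : 2 ≤ m) (A B : Matrix (Fin m) (Fin m) F) (h : Aᵀ * B = 1)
    (hv : (B *ᵥ dl i₀) i₀ = 1 ∨ (B *ᵥ dl i₀) i₀ = -1) :
    ∃ (k : ℂ) (c : Fin m → F), c i₀ = 0 ∧
      ρ (lev A B h) * P ρ ψ t (dl i₀) = k • (ρ (tau i₀ c) * P ρ ψ t (dl i₀)) := by
  set E := P ρ ψ t (dl i₀) with hE
  set v := B *ᵥ dl i₀ with hvdef
  set s := v i₀ with hs
  have hss : s * s = 1 := by rcases hv with e | e <;> rw [e] <;> ring
  set c := s • v - dl i₀ with hcdef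
  have hc : c i₀ = 0 := by rw [hcdef, Pi.sub_apply, Pi.smul_apply, smul_eq_mul, ← hs, hss, dl_self, sub_self]
  have hnc : (-c) i₀ = 0 := by simp [hc]
  have hBd : ((1 + Matrix.vecMulVec (-c) (dl i₀)) * B) *ᵥ dl i₀ = s • dl i₀ := by
    rw [← Matrix.mulVec_mulVec, Matrix.add_mulVec, Matrix.one_mulVec, vecMulVec_dl_mulVec, ← hvdef, ← hs, hcdef,
      smul_neg, smul_sub, smul_smul, hss, one_smul]
    abel
  have hcomm : ρ (tau i₀ (-c) * lev A B h) * E = E * ρ (tau i₀ (-c) * lev A B h) := by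
    rw [show tau i₀ (-c) = lev _ _ (lev_tau_cond i₀ hnc) from hw_vr i₀ hnc, lev_mul]
    refine lev_comm_P _ _ _ ?_
    rcases hv with e | e
    · exact Or.inl (by rw [hBd, e, one_smul])
    · exact Or.inr (by rw [hBd, e, neg_smul, one_smul])
  obtain ⟨k, hk⟩ : Scal E (E * ρ (tau i₀ (-c) * lev A B h) * E) := by
    rw [show tau i₀ (-c) = lev _ _ (lev_tau_cond i₀ hnc) from hw_vr i₀ hnc, lev_mul]
    exact Scal_lev hC hm _ _ _
  refine ⟨k, c, hc, ?_⟩
  rw [← hcomm, mul_assoc, hE, P_idem, ← hE] at hk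
  rw [← mul_smul_comm, ← hk, ← mul_assoc, ← map_mul, ← mul_assoc, tau_mul_neg i₀ hc, one_mul]

end CfsgLib.MinDeg.SpLow
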