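import Cfsg.Agent.MinDeg.SympLowWeil
import Cfsg.Agent.MinDeg.SymmOrbit
import Cfsg.Agent.Char.Basic

/-!
The small irreducible characters of `Sp_{2m}(q)`, `q` odd.
-/

set_option autoImplicit false
set_option linter.style.haveILetI false
set_option linter.unusedSectionVars false

namespace CfsgLib.MinDeg.SpLow

open Matrix CfsgLib.MinDeg CfsgLib.Symp
open Module (finrank)

universe u v w

variable {F : Type u} [Field F] [Fintype F] [DecidableEq F] {m : ℕ}
  {V : Type v} [AddCommGroup V] [Module ℂ V] [FiniteDimensional ℂ V]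

omit [Fintype F] [DecidableEq F] in
/-- A symmetric matrix is a sum of symmetrised matrix units. -/
theorem symSub_eq_sum (h2 : (2 : F) ≠ 0) (S : symSub F m) :
    S = ∑ i, ∑ j, symPair ((S : Matrix (Fin m) (Fin m) F) i j / 2) (dl i) (dl j) := by
  classical
  refine Subtype.ext (Matrix.ext fun k l => ?_)
  have hsym : (S : Matrix (Fin m) (Fin m) F) l k = (S : Matrix (Fin m) (Fin m) F) k l := by
    conv_rhs => rw [← show (S : Matrix (Fin m) (Fin m) F)ᵀ = S from S.2]
    rfl
  rw [AddSubgroup.val_finset_sum]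
  simp only [AddSubgroup.val_finset_sum, Matrix.sum_apply, symPair_val, Matrix.smul_apply, Matrix.add_apply,
    Matrix.vecMulVec_apply, smul_eq_mul, Pi.single_apply, mul_add, Finset.sum_add_distrib]
  simp [hsym]
  field_simp
  ring

theorem addChar_sum {A ι : Type*} [AddCommMonoid A] (χ : AddChar A ℂ) (s : Finset ι) (f : ι → A) :
    χ (∑ i ∈ s, f i) = ∏ i ∈ s, χ (f i) := by
  classical
  induction s using Finset.induction_on with
  | empty => simp
  | insert a s ha ih => rw [Finset.sum_insert ha, Finset.prod_insert ha, AddChar.map_add_eq_mul, ih]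

/-- A weight of rank at least two forces a large degree. -/
theorem rank_or_bound (hodd : Odd (Fintype.card F)) {ψ : AddChar F ℂ} (hψ : ψ.IsPrimitive)
    (ρ : Representation ℂ (Matrix.symplecticGroup (Fin m) F) V) (χ : AddChar (symSub F m) ℂ)
    (hw : weight ρ (symHom F m) χ ≠ ⊥) :
    (∃ s w, χ = chi ψ s w) ∨ (Fintype.card F ^ m - 1) * (Fintype.card F ^ m - Fintype.card F) ≤
      2 * (Fintype.card F + 1) * finrank ℂ V := by
  classical
  have h2 : (2 : F) ≠ 0 := Ring.two_ne_zero fun h => by
    have := FiniteField.even_card_iff_char_two.1 h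
    rw [Nat.odd_iff] at hodd
    omega
  obtain ⟨Q, B, hQ, hB, hQs, hQa, hBs⟩ := exists_forms χ hψ
  by_cases hR : ∃ u v, B u v = 0 ∧ B u u ≠ 0 ∧ B v v ≠ 0
  · obtain ⟨u, v, h0, hu, hv⟩ := hR
    right
    have horb := SymmOrbit.card_sym_orbit_ge hodd B hBs h0 hu hv
    rw [Module.finrank_fin_fun] at horb
    haveI : Finite ((Fin m → F) ≃ₗ[F] (Fin m → F)) := Finite.of_injective _ DFunLike.coe_injective
    haveI := Fintype.ofFinite ((Fin m → F) ≃ₗ[F] (Fin m → F))
    set R := Set.range fun g : (Fin m → F) ≃ₗ[F] (Fin m → F) => fun x y => B (g x) (g y) with hR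
    haveI : Fintype R := Fintype.ofFinite R
    choose gT hgT using fun T : R => T.2
    have hinj : Function.Injective fun T : R => symPush χ (LinearMap.toMatrix' (gT T).toLinearMap) := by
      intro T T' h
      refine Subtype.ext ?_
      rw [← hgT T, ← hgT T']
      have hdiag : ∀ z, Q (gT T z) = Q (gT T' z) := fun z => psi_inj hψ fun c => by
        rw [← hQ, ← hQ, ← push_square, ← push_square]
        exact DFunLike.congr_fun h _
      funext x y
      have h1 := hdiag (x + y)
      rw [map_add, map_add, hQa, hQa, hdiag x, hdiag y] at h1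
      exact add_left_cancel h1
    have hb := card_mul_le_finrank ρ (symHom F m) (d := 1) _ hinj fun T =>
      (Submodule.one_le_finrank_iff.2 hw).trans (weight_symPush_le ρ χ (gT T))
    rw [mul_one] at hb
    rw [Nat.card_eq_fintype_card] at horb
    exact horb.trans (Nat.mul_le_mul_left _ hb)
  push_neg at hR
  left
  have hval : ∀ (s : F) (w : Fin m → F), (∀ i j, B (dl i) (dl j) = 2 * s * (w i * w j)) → χ = chi ψ s w := by
    intro s w hBij
    refine DFunLike.ext _ _ fun S => ?_
    rw [symSub_eq_sum h2 S, addChar_sum, addChar_sum]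
    refine Finset.prod_congr rfl fun i _ => ?_
    rw [addChar_sum, addChar_sum]
    refine Finset.prod_congr rfl fun j _ => ?_
    rw [hB, chi_pair, hBij, dotProduct_single, dotProduct_single, mul_one, mul_one]
    congr 1
    ring
  by_cases hzero : ∀ x, B x x = 0
  · refine ⟨0, 0, hval 0 0 fun i j => ?_⟩
    have h1 := hzero (dl i + dl j)
    simp only [map_add, LinearMap.add_apply, hzero, hBs (dl j) (dl i), zero_add, add_zero, ← two_mul] at h1
    rw [(mul_eq_zero.1 h1).resolve_left h2]
    simp
  push_neg at hzero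
  obtain ⟨u, hu⟩ := hzero
  refine ⟨(2 * B u u)⁻¹, fun i => B u (dl i), hval _ _ fun i j => ?_⟩
  set p : (Fin m → F) → (Fin m → F) := fun x => x - (B u x / B u u) • u with hp
  have hperp : ∀ x, B u (p x) = 0 := fun x => by simp [hp, hu]
  have hpp : ∀ x, B (p x) (p x) = 0 := fun x => hR u (p x) (hperp x) hu
  have hxy : ∀ x y, B (p x) (p y) = 0 := by
    intro x y
    have hsum : p x + p y = p (x + y) := by simp only [hp, map_add, add_div, add_smul]; abel
    have h1 := hpp (x + y)
    simp only [← hsum, map_add, LinearMap.add_apply, hpp, hBs (p y) (p x), zero_add, add_zero, ← two_mul] at h1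
    exact (mul_eq_zero.1 h1).resolve_left h2
  have h1 := hxy (dl i) (dl j)
  simp only [hp, map_sub, map_smul, LinearMap.sub_apply, LinearMap.smul_apply, smul_eq_mul, hBs (dl i) u] at h1
  field_simp at h1 ⊢
  linear_combination h1

theorem finrank_weight_of_character {V' : Type w} [AddCommGroup V'] [Module ℂ V'] [FiniteDimensional ℂ V']
    {G X : Type*} [Monoid G] [AddCommGroup X] [Fintype X] {ρ : Representation ℂ G V} {σ : Representation ℂ G V'}
    (e : Multiplicative X →* G) (h : ρ.character = σ.character) (χ : AddChar X ℂ) :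
    finrank ℂ (weight ρ e χ) = finrank ℂ (weight σ e χ) := by
  have h1 : (finrank ℂ (weight ρ e χ) : ℂ) = (finrank ℂ (weight σ e χ) : ℂ) := by
    rw [← trace_proj, ← trace_proj, proj, proj, map_smul, map_smul, map_sum, map_sum]
    congr 1
    refine Finset.sum_congr rfl fun x _ => ?_
    rw [map_smul, map_smul]
    congr 1
    exact congrFun h (e (Multiplicative.ofAdd x))
  exact_mod_cast h1

/-- The characters of a representation as an irreducible character. -/
noncomputable def toIrr {G : Type u} [Group G] (ρ : Representation ℂ G V) (hρ : ρ.IsIrreducible) :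
    Cfsg.IrrCharacter G :=
  haveI := hρ
  ⟨ρ.character, CfsgLib.Char.isIrrCharacter_character ρ⟩

/-- The small characters. -/
theorem symp_low_degrees (hm : 2 ≤ m) (hodd : Odd (Fintype.card F)) :
    ∃ W : Bool → Bool → Cfsg.IrrCharacter (Matrix.symplecticGroup (Fin m) F),
      Function.Injective (fun p : Bool × Bool => W p.1 p.2) ∧
      (∀ k, (2 : ℂ) * (W k true).1 1 = ((Fintype.card F ^ m : ℕ) : ℂ) + 1) ∧
      (∀ k, (2 : ℂ) * (W k false).1 1 = ((Fintype.card F ^ m : ℕ) : ℂ) - 1) ∧
      ∀ χ : Cfsg.IrrCharacter (Matrix.symplecticGroup (Fin m) F), χ.1 1 = 1 ∨ (∃ k l, χ = W k l) ∨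
        ∃ d : ℕ, χ.1 1 = (d : ℂ) ∧
          (Fintype.card F ^ m - 1) * (Fintype.card F ^ m - Fintype.card F) ≤ 2 * (Fintype.card F + 1) * d := by
  classical
  have h2 : (2 : F) ≠ 0 := Ring.two_ne_zero fun h => by
    have := FiniteField.even_card_iff_char_two.1 h
    rw [Nat.odd_iff] at hodd
    omega
  obtain ⟨ψ, hψ⟩ := exists_primitive F
  obtain ⟨ν, hν⟩ := FiniteField.exists_nonsquare (F := F) fun h => h2 (by
    haveI : CharP F 2 := ringChar.of_eq h
    exact CharTwo.two_eq_zero)
  have hν0 : ν ≠ 0 := fun e => hν (e ▸ ⟨0, by simp⟩)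
  let i₀ : Fin m := ⟨0, by omega⟩
  let tt : Bool → F := fun k => if k then 1 else ν
  have htt : ∀ k, tt k ≠ 0 := fun k => by cases k <;> simp [tt, hν0]
  let ss : Bool → ℂ := fun l => if l then 1 else -1
  have hss : ∀ l, ss l = 1 ∨ ss l = -1 := fun l => by cases l <;> simp [ss]
  choose c hc using fun k => exists_weil_pair hm hodd hψ (htt k) i₀
  choose π hπi hπc hπP hπw using fun k l => hc k (ss l) (hss l)
  have hfr : ∀ l, (2 : ℂ) * (finrank ℂ (parFun F m (ss l)) : ℂ) = ((Fintype.card F ^ m : ℕ) : ℂ) + ss l :=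
    fun l => finrank_parFun h2 (by rcases hss l with e | e <;> rw [e] <;> norm_num)
  have h9 : 9 ≤ Fintype.card F ^ m := by
    have hq : 3 ≤ Fintype.card F := by
      have := Fintype.one_lt_card (α := F)
      obtain ⟨r, hr⟩ := hodd
      omega
    exact (Nat.pow_le_pow_left hq 2).trans (Nat.pow_le_pow_right (by omega) hm)
  have hdeg : ∀ k l, (2 : ℂ) * (π k l).character 1 = ((Fintype.card F ^ m : ℕ) : ℂ) + ss l := fun k l => by
    rw [Representation.char_one]
    exact hfr l
  let W : Bool → Bool → Cfsg.IrrCharacter (Matrix.symplecticGroup (Fin m) F) := fun k l =>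
    toIrr (π k l) (hπi k l)
  refine ⟨W, ?_, fun k => ?_, fun k => ?_, fun χ => ?_⟩
  · rintro ⟨k, l⟩ ⟨k', l'⟩ e
    have e' : (π k l).character = (π k' l').character := congrArg Subtype.val e
    have hl : l = l' := by
      have h1 := hdeg k l
      rw [e', hdeg k' l'] at h1
      cases l <;> cases l' <;> simp [ss] at h1 ⊢ <;> norm_num at h1
    subst hl
    have key : ∀ a b : Bool, (π a l).character = (π b l).character → a = b := by
      intro a b hab
      have hw : weight (π a l) (symHom F m) (chi ψ (tt a) (dl i₀)) ≠ ⊥ := weight_ne_bot _ _ (hπP a l)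
      rw [← Submodule.one_le_finrank_iff, finrank_weight_of_character _ hab, Submodule.one_le_finrank_iff] at hw
      obtain ⟨x, hx⟩ := hπw b l _ hw
      have hval : tt a = tt b * (x i₀ * x i₀) := psi_inj hψ fun c => by
        have h1 := DFunLike.congr_fun hx (symSquare c (dl i₀))
        rw [chi_square, chi_square, single_dotProduct, dl_self, dotProduct_single] at h1
        convert h1 using 2 <;> ring
      cases a <;> cases b
      · rfl
      · exact absurd ⟨x i₀, by simpa [tt] using hval⟩ hν
      · have hv : (1 : F) = ν * (x i₀ * x i₀) := by simpa [tt] using hval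
        refine absurd ⟨(x i₀)⁻¹, ?_⟩ hν
        have hx0 : x i₀ ≠ 0 := fun e0 => one_ne_zero (hv.trans (by rw [e0]; ring))
        rw [← mul_inv]
        exact eq_inv_of_mul_eq_one_left hv.symm
      · rfl
    rw [key k k' e']
  · have h := hdeg k true
    simpa [ss, W, toIrr] using h
  · have h := hdeg k false
    simpa [ss, W, toIrr, sub_eq_add_neg] using h
  · obtain ⟨n, ρ, hρ, hch⟩ := χ.2
    have hd : χ.1 1 = (n : ℂ) := by
      rw [← hch, Representation.char_one, Module.finrank_fin_fun]
    by_cases hlow : ∀ θ : AddChar (symSub F m) ℂ, weight ρ (symHom F m) θ ≠ ⊥ → ∃ s v, θ = chi ψ s v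
    swap
    · push_neg at hlow
      obtain ⟨θ, hθ, hne⟩ := hlow
      refine Or.inr (Or.inr ⟨n, hd, ?_⟩)
      rcases rank_or_bound hodd hψ ρ θ hθ with ⟨s, v, e⟩ | h
      · exact absurd e (hne s v)
      · rwa [Module.finrank_fin_fun] at h
    by_cases hn : n ≤ 1
    · left
      obtain ⟨n', hn', hn''⟩ := CfsgLib.Char.IsIrrCharacter.exists_degree χ.2
      rw [hd, Nat.cast_inj] at hn''
      rw [hd, show n = 1 by omega, Nat.cast_one]
    obtain ⟨ε, hε, heps⟩ := exists_eps hρ
    have htype := exists_type (ψ := ψ) hm hodd i₀ hρ (by rw [Module.finrank_fin_fun]; omega) hlow hν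
    obtain ⟨k, hk⟩ : ∃ k, P ρ ψ (tt k) (dl i₀) ≠ 0 := by
      rcases htype with h | h
      · exact ⟨true, h⟩
      · exact ⟨false, h⟩
    obtain ⟨ε0, hε0, heps0⟩ := exists_eps (hπi k true)
    have hck : c k = ε0 := by
      have h1 := (hπc k true).eps
      rw [heps0] at h1
      haveI : Nontrivial (parFun F m (ss true)) := Module.nontrivial_of_finrank_pos (R := ℂ) (by
        by_contra h0
        have h3 := hfr true
        rw [show finrank ℂ (parFun F m (ss true)) = 0 by omega] at h3
        have : ((0 : ℕ) : ℂ) = ((Fintype.card F ^ m + 1 : ℕ) : ℂ) := by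
          push_cast at h3 ⊢; simpa [ss] using h3
        exact absurd (Nat.cast_injective this) (by omega))
      obtain ⟨f, hf⟩ := exists_ne (0 : parFun F m (ss true))
      have h4 : ε0 = c k * ss true := smul_left_injective ℂ hf (LinearMap.congr_fun h1 f)
      rw [h4]
      simp [ss]
    obtain ⟨l, hl⟩ : ∃ l, c k * ss l = ε := by
      rw [hck]
      rcases hε0 with rfl | rfl <;> rcases hε with rfl | rfl
      exacts [⟨true, by simp [ss]⟩, ⟨false, by simp [ss]⟩, ⟨false, by simp [ss]⟩, ⟨true, by simp [ss]⟩]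
    refine Or.inr (Or.inl ⟨k, l, Subtype.ext ?_⟩)
    have hC : Ctx ρ ψ (tt k) ε := ⟨hψ, h2, htt k, hlow, heps⟩
    exact hch.symm.trans (character_eq hm i₀ hρ (hπi k l) hC (hl ▸ hπc k l) hk (hπP k l))

end CfsgLib.MinDeg.SpLow
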