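import Cfsg.Agent.MinDeg.SympLowBasic

/-!
Projections to rank one weight spaces of the Siegel radical, as operators.
-/

set_option autoImplicit false
set_option linter.style.haveILetI false
set_option linter.unusedSectionVars false

namespace CfsgLib.MinDeg.SpLow

open Matrix CfsgLib.MinDeg CfsgLib.Symp

universe u v

section General

variable {G : Type*} [Monoid G] {V : Type*} [AddCommGroup V] [Module ℂ V] (ρ : Representation ℂ G V)
  {X Y : Type*} [AddCommGroup X] [Fintype X] [AddCommGroup Y] [Fintype Y]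
  (e : Multiplicative X →* G) (e' : Multiplicative Y →* G)

theorem rho_mul_proj (χ : AddChar X ℂ) (x : X) :
    ρ (e (Multiplicative.ofAdd x)) * proj ρ e χ = χ x • proj ρ e χ :=
  LinearMap.ext fun u => proj_mem ρ e χ u x

theorem rho_proj (g : G) (φ : X ≃+ Y)
    (hφ : ∀ x, g * e (Multiplicative.ofAdd x) = e' (Multiplicative.ofAdd (φ x)) * g)
    (χ : AddChar X ℂ) (χ' : AddChar Y ℂ) (hχ : ∀ x, χ' (φ x) = χ x) :
    ρ g * proj ρ e χ = proj ρ e' χ' * ρ g := by
  rw [proj, proj, mul_smul_comm, smul_mul_assoc, Finset.mul_sum, Finset.sum_mul,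
    Fintype.card_congr φ.toEquiv]
  congr 1
  refine Fintype.sum_equiv φ.toEquiv _ _ fun x => ?_
  show ρ g * χ (-x) • ρ (e (Multiplicative.ofAdd x)) = χ' (-φ x) • ρ (e' (Multiplicative.ofAdd (φ x))) * ρ g
  rw [mul_smul_comm, smul_mul_assoc, ← map_neg φ, hχ, ← map_mul, ← map_mul, hφ]

theorem proj_mul_rho (χ : AddChar X ℂ) (x : X) :
    proj ρ e χ * ρ (e (Multiplicative.ofAdd x)) = χ x • proj ρ e χ := by
  rw [← rho_proj ρ e e _ (AddEquiv.refl X) (fun y => by
    rw [AddEquiv.refl_apply, ← map_mul e, ← map_mul e, mul_comm]) χ χ fun _ => rfl, rho_mul_proj]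

theorem proj_mul_proj [DecidableEq (AddChar X ℂ)] (χ χ' : AddChar X ℂ) :
    proj ρ e χ * proj ρ e χ' = if χ' = χ then proj ρ e χ' else 0 := by
  refine LinearMap.ext fun u => ?_
  rw [Module.End.mul_apply, proj_of_mem ρ e (proj_mem ρ e χ' u)]
  split_ifs <;> simp

theorem proj_eq_zero {χ : AddChar X ℂ} (h : weight ρ e χ = ⊥) : proj ρ e χ = 0 :=
  LinearMap.ext fun u => (Submodule.mem_bot ℂ).1 (h ▸ proj_mem ρ e χ u)

theorem weight_ne_bot {χ : AddChar X ℂ} (h : proj ρ e χ ≠ 0) : weight ρ e χ ≠ ⊥ := fun hb =>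
  h (proj_eq_zero ρ e hb)

theorem sum_proj_eq_one : ∑ χ : AddChar X ℂ, proj ρ e χ = (1 : Module.End ℂ V) :=
  LinearMap.ext fun u => by rw [LinearMap.sum_apply, Module.End.one_apply, sum_proj]

theorem proj_sub_mul [DecidableEq (AddChar Y ℂ)] (φ : Y →+ X) (χ : AddChar X ℂ) (χ' : AddChar Y ℂ) :
    proj ρ (e.comp (AddMonoidHom.toMultiplicative φ)) χ' * proj ρ e χ =
      if χ.compAddMonoidHom φ = χ' then proj ρ e χ else 0 := by
  refine LinearMap.ext fun u => ?_
  rw [Module.End.mul_apply, proj_of_mem ρ _ (χ' := χ.compAddMonoidHom φ) fun y => proj_mem ρ e χ u (φ y)]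
  split_ifs <;> simp

theorem proj_mul_sub [DecidableEq (AddChar Y ℂ)] (φ : Y →+ X) (χ : AddChar X ℂ) (χ' : AddChar Y ℂ) :
    proj ρ e χ * proj ρ (e.comp (AddMonoidHom.toMultiplicative φ)) χ' =
      if χ.compAddMonoidHom φ = χ' then proj ρ e χ else 0 := by
  have hc : Commute (proj ρ e χ) (proj ρ (e.comp (AddMonoidHom.toMultiplicative φ)) χ') := by
    refine Commute.smul_right (Commute.sum_right _ _ _ fun y _ => Commute.smul_right ?_ _) _
    show proj ρ e χ * ρ (e (Multiplicative.ofAdd (φ y))) = ρ (e (Multiplicative.ofAdd (φ y))) * proj ρ e χ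
    rw [proj_mul_rho, rho_mul_proj]
  rw [hc.eq, proj_sub_mul]

end General

variable {F : Type u} [Field F] [Fintype F] [DecidableEq F] {m : ℕ}
  {V : Type v} [AddCommGroup V] [Module ℂ V]
  (ρ : Representation ℂ (Matrix.symplecticGroup (Fin m) F) V) (ψ : AddChar F ℂ) (t : F) (i₀ : Fin m)

/-- The projection to a rank one weight space. -/
noncomputable def P (v : Fin m → F) : Module.End ℂ V := proj ρ (symHom F m) (chi ψ t v)

/-- The squares of the distinguished coordinate vector. -/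
def zMap : F →+ symSub F m :=
  AddMonoidHom.mk' (fun c => symSquare c (dl i₀)) fun a b => Subtype.ext (add_smul a b _)

/-- The long root subgroup of the distinguished point. -/
def zHom : Multiplicative F →* Matrix.symplecticGroup (Fin m) F :=
  (symHom F m).comp (AddMonoidHom.toMultiplicative (zMap i₀))

theorem zHom_apply (c : F) : zHom i₀ (Multiplicative.ofAdd c) = tv (pt i₀) c := (tv_pt i₀ c).symm

theorem dl_self : dl (F := F) i₀ i₀ = 1 := Pi.single_eq_same _ _

/-- The projection to an eigenspace of the long root subgroup. -/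
noncomputable def Z : Module.End ℂ V :=
  proj ρ (zHom i₀) ((chi ψ t (dl i₀)).compAddMonoidHom (zMap i₀))

/-- The distinguished elements moving the coordinate vector. -/
abbrev tau (b : Fin m → F) : Matrix.symplecticGroup (Fin m) F := hw (pt i₀) (vr b)

theorem zChar_apply (c : F) : (chi ψ t (dl i₀)).compAddMonoidHom (zMap i₀) c = ψ (t * c) := by
  show chi ψ t (dl i₀) (symSquare c (dl i₀)) = _
  rw [chi_square, single_dotProduct, dl_self, mul_one, mul_one, mul_one]

theorem rho_P (S : symSub F m) (v : Fin m → F) :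
    ρ (symHom F m (Multiplicative.ofAdd S)) * P ρ ψ t v = chi ψ t v S • P ρ ψ t v := rho_mul_proj _ _ _ S

theorem P_rho (S : symSub F m) (v : Fin m → F) :
    P ρ ψ t v * ρ (symHom F m (Multiplicative.ofAdd S)) = chi ψ t v S • P ρ ψ t v := proj_mul_rho _ _ _ S

theorem P_mul_P_eq {v w : Fin m → F} (h : chi ψ t v = chi ψ t w) : P ρ ψ t v * P ρ ψ t w = P ρ ψ t w := by
  classical
  rw [P, P, proj_mul_proj, if_pos h.symm]

theorem P_idem (v : Fin m → F) : P ρ ψ t v * P ρ ψ t v = P ρ ψ t v := P_mul_P_eq ρ ψ t rfl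

theorem P_mul_P_ne {v w : Fin m → F} (h : chi ψ t v ≠ chi ψ t w) : P ρ ψ t v * P ρ ψ t w = 0 := by
  classical
  rw [P, P, proj_mul_proj, if_neg (Ne.symm h)]

theorem P_neg (v : Fin m → F) : P ρ ψ t (-v) = P ρ ψ t v := by rw [P, P, chi_neg]

/-- Conjugation of symmetric matrices. -/
def conjSym (A : Matrix (Fin m) (Fin m) F) (S : symSub F m) : symSub F m :=
  ⟨A * (S : Matrix (Fin m) (Fin m) F) * Aᵀ, by
    show (_ : Matrix (Fin m) (Fin m) F)ᵀ = _
    rw [Matrix.transpose_mul, Matrix.transpose_mul, Matrix.transpose_transpose,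
      show (S : Matrix (Fin m) (Fin m) F)ᵀ = S from S.2, Matrix.mul_assoc]⟩

theorem conjSym_val (A : Matrix (Fin m) (Fin m) F) (S : symSub F m) :
    (conjSym A S : Matrix (Fin m) (Fin m) F) = A * (S : Matrix (Fin m) (Fin m) F) * Aᵀ := rfl

/-- Levi elements permute the rank one weight spaces. -/
theorem lev_P (A B : Matrix (Fin m) (Fin m) F) (h : Aᵀ * B = 1) (v : Fin m → F) :
    ρ (lev A B h) * P ρ ψ t v = P ρ ψ t (B *ᵥ v) * ρ (lev A B h) := by
  have h' : Bᵀ * A = 1 := by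
    rw [← Matrix.transpose_one, ← h, Matrix.transpose_mul, Matrix.transpose_transpose]
  have h'' : A * Bᵀ = 1 := mul_eq_one_comm.1 h'
  let φ : symSub F m ≃+ symSub F m :=
    { toFun := conjSym A
      invFun := conjSym Bᵀ
      left_inv := fun S => Subtype.ext (by
        rw [conjSym_val, conjSym_val, Matrix.transpose_transpose, ← Matrix.mul_assoc, ← Matrix.mul_assoc, h',
          Matrix.one_mul, Matrix.mul_assoc, h, Matrix.mul_one])
      right_inv := fun S => Subtype.ext (by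
        have hb : B * Aᵀ = 1 := mul_eq_one_comm.1 h
        rw [conjSym_val, conjSym_val, Matrix.transpose_transpose, ← Matrix.mul_assoc, ← Matrix.mul_assoc, h'',
          Matrix.one_mul, Matrix.mul_assoc, hb, Matrix.mul_one])
      map_add' := fun S T => Subtype.ext (by
        simp [conjSym_val, Matrix.mul_add, Matrix.add_mul]) }
  refine rho_proj ρ _ _ _ φ (fun S => (symHom_lev A B h (conjSym A S) S ?_).symm) _ _ fun S => ?_
  · rw [conjSym_val, Matrix.mul_assoc, h, Matrix.mul_one]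
  · show chi ψ t (B *ᵥ v) (conjSym A S) = chi ψ t v S
    rw [chi_apply, chi_apply, conjSym_val]
    congr 2
    rw [Matrix.mulVec_mulVec, Matrix.mul_assoc, h, Matrix.mul_one, ← Matrix.mulVec_mulVec,
      Matrix.dotProduct_mulVec, ← Matrix.mulVec_transpose A, Matrix.mulVec_mulVec, h, Matrix.one_mulVec]

theorem tau_zero : tau (F := F) i₀ 0 = 1 := by
  refine symp_ext fun x => ?_
  have h0 : (vr 0 : Fin m ⊕ Fin m → F) = 0 := by
    funext i; rcases i with i | i <;> simp [vr]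
  show hw (pt i₀) (vr 0) • x = _
  rw [h0, hw_smul (form_zero_right _), one_smul, form_zero_right]
  simp

theorem form_pt_vr0 {b : Fin m → F} (hb : b i₀ = 0) : form (pt i₀) (vr b) = 0 := by
  rw [form_pt_vr, hb, neg_zero]

theorem form_vr_vr (a b : Fin m → F) : form (vr a) (vr b) = 0 := by
  rw [form_vr]; simp [vr, dotProduct]

theorem tau_mul_neg {b : Fin m → F} (hb : b i₀ = 0) : tau i₀ b * tau i₀ (-b) = 1 := by
  have h : vr b + vr (-b) = (vr 0 : Fin m ⊕ Fin m → F) := by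
    funext i; rcases i with i | i <;> simp [vr]
  rw [hw_mul (form_pt_vr0 i₀ hb) (form_pt_vr0 i₀ (by simp [hb])), form_vr_vr, tv_zero, one_mul, h]
  exact tau_zero i₀

theorem tau_P {b : Fin m → F} (hb : b i₀ = 0) (v : Fin m → F) :
    ρ (tau i₀ b) * P ρ ψ t v = P ρ ψ t (v + v i₀ • b) * ρ (tau i₀ b) := by
  rw [show tau i₀ b = lev _ _ (lev_tau_cond i₀ hb) from hw_vr i₀ hb, lev_P]
  congr 2
  rw [Matrix.add_mulVec, Matrix.one_mulVec, Matrix.vecMulVec_mulVec, op_smul_eq_smul, single_dotProduct, one_mul]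

theorem tau_E {b : Fin m → F} (hb : b i₀ = 0) :
    ρ (tau i₀ b) * P ρ ψ t (dl i₀) = P ρ ψ t (dl i₀ + b) * ρ (tau i₀ b) := by
  rw [tau_P ρ ψ t i₀ hb, dl_self, one_smul]

theorem E_tau {b : Fin m → F} (hb : b i₀ = 0) :
    P ρ ψ t (dl i₀) * ρ (tau i₀ b) = ρ (tau i₀ b) * P ρ ψ t (dl i₀ - b) := by
  have h : ((dl i₀ - b : Fin m → F)) i₀ = 1 := by rw [Pi.sub_apply, dl_self, hb, sub_zero]
  rw [tau_P ρ ψ t i₀ hb, h, one_smul, sub_add_cancel]

theorem P_shift {b : Fin m → F} (hb : b i₀ = 0) :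
    P ρ ψ t (dl i₀ + b) = ρ (tau i₀ b) * P ρ ψ t (dl i₀) * ρ (tau i₀ (-b)) := by
  rw [tau_E ρ ψ t i₀ hb, mul_assoc, ← map_mul, tau_mul_neg i₀ hb, map_one, mul_one]

theorem Z_mul_P [DecidableEq (AddChar F ℂ)] (χ : AddChar (symSub F m) ℂ) :
    Z ρ ψ t i₀ * proj ρ (symHom F m) χ =
      if χ.compAddMonoidHom (zMap i₀) = (chi ψ t (dl i₀)).compAddMonoidHom (zMap i₀) then
        proj ρ (symHom F m) χ else 0 :=
  proj_sub_mul ρ _ _ _ _

theorem Z_idem : Z ρ ψ t i₀ * Z ρ ψ t i₀ = Z ρ ψ t i₀ := by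
  classical
  rw [Z, proj_mul_proj, if_pos rfl]

theorem tv_Z (c : F) : ρ (tv (pt i₀) c) * Z ρ ψ t i₀ = ψ (t * c) • Z ρ ψ t i₀ := by
  rw [← zHom_apply, Z, rho_mul_proj, zChar_apply]

theorem Z_comm {g : Matrix.symplecticGroup (Fin m) F} (hg : g • pt (F := F) i₀ = pt i₀) :
    ρ g * Z ρ ψ t i₀ = Z ρ ψ t i₀ * ρ g :=
  rho_proj ρ _ _ _ (AddEquiv.refl F) (fun c => by
    rw [AddEquiv.refl_apply, zHom_apply]
    conv_rhs => rw [← hg, ← tv_conj, inv_mul_cancel_right]) _ _ fun _ => rfl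

theorem E_Z : P ρ ψ t (dl i₀) * Z ρ ψ t i₀ = P ρ ψ t (dl i₀) := by
  classical
  rw [P, Z, zHom, proj_mul_sub, if_pos rfl]

theorem Z_E : Z ρ ψ t i₀ * P ρ ψ t (dl i₀) = P ρ ψ t (dl i₀) := by
  classical
  rw [P, Z_mul_P, if_pos rfl]

end CfsgLib.MinDeg.SpLow
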