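import Cfsg.Agent.MinDeg.SympLowProj

/-!
The stabiliser of a point acts on an eigenspace of its long root group through the Heisenberg operators.
-/

set_option autoImplicit false
set_option linter.style.haveILetI false
set_option linter.unusedSectionVars false

namespace CfsgLib.MinDeg.SpLow

open Matrix CfsgLib.MinDeg CfsgLib.Symp

universe u v

variable {F : Type u} [Field F] [Fintype F] [DecidableEq F] {m : ℕ}

/-- Minus the identity. -/
def negOne : Matrix.symplecticGroup (Fin m) F := lev (-1) (-1) (by simp)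

variable {V : Type v} [AddCommGroup V] [Module ℂ V]

/-- A representation with only rank one weights and a fixed central character. -/
structure Ctx (ρ : Representation ℂ (Matrix.symplecticGroup (Fin m) F) V) (ψ : AddChar F ℂ) (t : F) (ε : ℂ) :
    Prop where
  prim : ψ.IsPrimitive
  two : (2 : F) ≠ 0
  ht : t ≠ 0
  low : ∀ χ : AddChar (symSub F m) ℂ, weight ρ (symHom F m) χ ≠ ⊥ → ∃ s v, χ = chi ψ s v
  eps : ρ negOne = ε • (1 : Module.End ℂ V)

/-- Membership in a line of operators. -/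
def Scal (E X : Module.End ℂ V) : Prop := ∃ c : ℂ, X = c • E

theorem Scal.zero (E : Module.End ℂ V) : Scal E 0 := ⟨0, (zero_smul ℂ E).symm⟩

theorem Scal.self (E : Module.End ℂ V) : Scal E E := ⟨1, (one_smul ℂ E).symm⟩

theorem Scal.add {E X Y : Module.End ℂ V} (h : Scal E X) (h' : Scal E Y) : Scal E (X + Y) := by
  obtain ⟨a, rfl⟩ := h
  obtain ⟨b, rfl⟩ := h'
  exact ⟨a + b, (add_smul a b E).symm⟩

theorem Scal.smul {E X : Module.End ℂ V} (c : ℂ) (h : Scal E X) : Scal E (c • X) := by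
  obtain ⟨a, rfl⟩ := h
  exact ⟨c * a, smul_smul c a E⟩

theorem Scal.sum {E : Module.End ℂ V} {ι : Type*} (s : Finset ι) {X : ι → Module.End ℂ V}
    (h : ∀ i ∈ s, Scal E (X i)) : Scal E (∑ i ∈ s, X i) :=
  Finset.sum_induction _ (Scal E) (fun _ _ => Scal.add) (Scal.zero E) h

variable {ρ : Representation ℂ (Matrix.symplecticGroup (Fin m) F) V} {ψ : AddChar F ℂ} {t : F} {ε : ℂ}
  {i₀ : Fin m}

/-- Vectors vanishing at the distinguished coordinate. -/
def Bs (i₀ : Fin m) : Finset (Fin m → F) := Finset.univ.filter fun b => b i₀ = 0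

theorem mem_Bs {b : Fin m → F} : b ∈ Bs i₀ ↔ b i₀ = 0 := by simp [Bs]

theorem zero_mem_Bs : (0 : Fin m → F) ∈ Bs i₀ := mem_Bs.2 rfl

theorem chi_zMap (s : F) (v : Fin m → F) (c : F) :
    (chi ψ s v).compAddMonoidHom (zMap i₀) c = ψ (s * (c * (v i₀ * v i₀))) := by
  show chi ψ s v (symSquare c (dl i₀)) = _
  rw [chi_square, dotProduct_single, mul_one]

theorem chi_dl_add_inj (hC : Ctx ρ ψ t ε) {b b' : Fin m → F} (hb : b i₀ = 0) (hb' : b' i₀ = 0)
    (h : chi ψ t (dl i₀ + b) = chi ψ t (dl i₀ + b')) : b = b' := by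
  rcases chi_eq_iff hC.prim hC.two hC.ht h with e | e
  · exact (add_left_cancel e).symm
  · exfalso
    have h1 := congrFun e i₀
    simp only [Pi.add_apply, Pi.neg_apply, dl_self, hb, hb', add_zero] at h1
    exact hC.two (by linear_combination h1)

theorem Z_eq_sum (hC : Ctx ρ ψ t ε) : Z ρ ψ t i₀ = ∑ b ∈ Bs i₀, P ρ ψ t (dl i₀ + b) := by
  classical
  have h1 : Z ρ ψ t i₀ = ∑ χ : AddChar (symSub F m) ℂ, Z ρ ψ t i₀ * proj ρ (symHom F m) χ := by
    rw [← Finset.mul_sum, sum_proj_eq_one, mul_one]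
  have hP : ∀ b : Fin m → F, b i₀ = 0 → Z ρ ψ t i₀ * P ρ ψ t (dl i₀ + b) = P ρ ψ t (dl i₀ + b) := fun b hb => by
    rw [P, Z_mul_P, if_pos]
    ext c
    rw [chi_zMap, chi_zMap, Pi.add_apply, hb, add_zero]
  rw [h1, ← Finset.sum_congr rfl fun b hb => hP b (mem_Bs.1 hb)]
  refine Eq.trans (Finset.sum_subset (Finset.subset_univ ((Bs i₀).image fun b => chi ψ t (dl i₀ + b)))
    fun χ _ hχ => ?_).symm ?_
  · rw [Z_mul_P]
    split_ifs with h
    · by_contra hne
      obtain ⟨s, v, rfl⟩ := hC.low χ (weight_ne_bot ρ _ hne)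
      have hs : s * (v i₀ * v i₀) = t := psi_inj hC.prim fun c => by
        have h2 := DFunLike.congr_fun h c
        rw [chi_zMap, zChar_apply] at h2
        rw [mul_left_comm, h2, mul_comm]
      have hv : v i₀ ≠ 0 := fun e => hC.ht (by rw [← hs, e]; simp)
      refine hχ (Finset.mem_image.2 ⟨(v i₀)⁻¹ • v - dl i₀, mem_Bs.2 ?_, ?_⟩)
      · rw [Pi.sub_apply, Pi.smul_apply, smul_eq_mul, inv_mul_cancel₀ hv, dl_self, sub_self]
      · rw [add_sub_cancel, chi_smul, ← hs]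
        congr 1
        field_simp
    · rfl
  · rw [Finset.sum_image fun b hb b' hb' h => chi_dl_add_inj hC (mem_Bs.1 hb) (mem_Bs.1 hb') h]
    rfl

variable (ρ ψ t i₀) in
/-- The span of the Heisenberg operators on the eigenspace. -/
noncomputable def kSpan : Submodule ℂ (Module.End ℂ V) :=
  Submodule.span ℂ (Set.range fun w : {w : Fin m ⊕ Fin m → F // form (pt i₀) w = 0} =>
    ρ (hw (pt i₀) w.1) * Z ρ ψ t i₀)

theorem hw_mem_kSpan {w : Fin m ⊕ Fin m → F} (h : form (pt i₀) w = 0) :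
    ρ (hw (pt i₀) w) * Z ρ ψ t i₀ ∈ kSpan ρ ψ t i₀ := Submodule.subset_span ⟨⟨w, h⟩, rfl⟩

theorem hw_zero : hw (pt (F := F) i₀) 0 = 1 := by
  refine symp_ext fun x => ?_
  rw [hw_smul (form_zero_right _), one_smul, form_zero_right]
  simp

theorem Z_mem_kSpan : Z ρ ψ t i₀ ∈ kSpan ρ ψ t i₀ := by
  simpa [hw_zero, map_one] using hw_mem_kSpan (ρ := ρ) (ψ := ψ) (t := t) (form_zero_right (pt (F := F) i₀))

theorem kSpan_mul {X Y : Module.End ℂ V} (hX : X ∈ kSpan ρ ψ t i₀) (hY : Y ∈ kSpan ρ ψ t i₀) :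
    X * Y ∈ kSpan ρ ψ t i₀ := by
  induction hX using Submodule.span_induction with
  | mem X hX =>
    induction hY using Submodule.span_induction with
    | mem Y hY =>
      obtain ⟨⟨w, hw0⟩, rfl⟩ := hX
      obtain ⟨⟨w', hw0'⟩, rfl⟩ := hY
      have h3 : form (pt (F := F) i₀) (w + w') = 0 := by rw [form_add_right, hw0, hw0', add_zero]
      have key : ρ (hw (pt i₀) w) * Z ρ ψ t i₀ * (ρ (hw (pt i₀) w') * Z ρ ψ t i₀) =
          ψ (t * form w' w) • (ρ (hw (pt i₀) (w + w')) * Z ρ ψ t i₀) := by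
        rw [mul_assoc, ← mul_assoc (Z ρ ψ t i₀), ← Z_comm ρ ψ t i₀ (hw_fix hw0'), mul_assoc (ρ _) (Z ρ ψ t i₀),
          Z_idem, ← mul_assoc, ← map_mul, hw_mul hw0 hw0', map_mul, mul_assoc, Z_comm ρ ψ t i₀ (hw_fix h3),
          ← mul_assoc, tv_Z, smul_mul_assoc]
      dsimp only
      rw [key]
      exact Submodule.smul_mem _ _ (hw_mem_kSpan h3)
    | zero => rw [mul_zero]; exact Submodule.zero_mem _
    | add a b _ _ ha hb => rw [mul_add]; exact Submodule.add_mem _ ha hb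
    | smul c a _ ha => rw [mul_smul_comm]; exact Submodule.smul_mem _ _ ha
  | zero => rw [zero_mul]; exact Submodule.zero_mem _
  | add a b _ _ ha hb => rw [add_mul]; exact Submodule.add_mem _ ha hb
  | smul c a _ ha => rw [smul_mul_assoc]; exact Submodule.smul_mem _ _ ha

/-- The Heisenberg radical, first half. -/
def yMap (i₀ : Fin m) : (Fin m → F) →+ symSub F m :=
  AddMonoidHom.mk' (fun a => symPair 1 (dl i₀) a) fun a b => Subtype.ext (by
    rw [AddSubgroup.coe_add, symPair_val, symPair_val, symPair_val, Matrix.vecMulVec_add, Matrix.add_vecMulVec]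
    module)

theorem chi_yMap (v a : Fin m → F) :
    (chi ψ t v).compAddMonoidHom (yMap i₀) a = ψ (t * (2 * (v i₀ * (v ⬝ᵥ a)))) := by
  show chi ψ t v (symPair 1 (dl i₀) a) = _
  rw [chi_pair, dotProduct_single, mul_one, mul_one]

theorem E_mem_kSpan (hC : Ctx ρ ψ t ε) : P ρ ψ t (dl i₀) ∈ kSpan ρ ψ t i₀ := by
  classical
  set χ' := (chi ψ t (dl i₀)).compAddMonoidHom (yMap i₀) with hχ'
  set Q : Module.End ℂ V := proj ρ ((symHom F m).comp (AddMonoidHom.toMultiplicative (yMap i₀))) χ' with hQ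
  have hQE : Q * Z ρ ψ t i₀ = P ρ ψ t (dl i₀) := by
    rw [Z_eq_sum hC, Finset.mul_sum, Finset.sum_eq_single (0 : Fin m → F)]
    · rw [add_zero, hQ, P, proj_sub_mul, if_pos rfl]
    · intro b hb hb0
      rw [hQ, P, proj_sub_mul, if_neg]
      intro e
      refine hb0 (funext fun j => ?_)
      have h1 : 2 * t * (dl i₀ j + b j) = 2 * t * dl i₀ j := psi_inj hC.prim fun c => by
        have h2 := DFunLike.congr_fun e (Pi.single j c)
        rw [hχ', chi_yMap, chi_yMap, dotProduct_single, dotProduct_single, Pi.add_apply, Pi.add_apply, mem_Bs.1 hb,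
          add_zero, dl_self] at h2
        convert h2 using 2 <;> ring
      have h3 := mul_left_cancel₀ (mul_ne_zero hC.two hC.ht) h1
      rw [Pi.zero_apply]
      exact add_eq_left.1 h3
    · exact fun h => absurd zero_mem_Bs h
  rw [← hQE, hQ, proj, smul_mul_assoc, Finset.sum_mul]
  refine Submodule.smul_mem _ _ (Submodule.sum_mem _ fun a _ => ?_)
  rw [smul_mul_assoc]
  refine Submodule.smul_mem _ _ ?_
  show ρ (symHom F m (Multiplicative.ofAdd (symPair 1 (dl i₀) a))) * Z ρ ψ t i₀ ∈ _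
  rw [← hw_vl]
  exact hw_mem_kSpan (form_pt_vl i₀ a)

theorem P_shift_mem (hC : Ctx ρ ψ t ε) {b : Fin m → F} (hb : b i₀ = 0) :
    P ρ ψ t (dl i₀ + b) ∈ kSpan ρ ψ t i₀ := by
  have hb' : (-b) i₀ = 0 := by simp [hb]
  have h : P ρ ψ t (dl i₀ + b) =
      ρ (tau i₀ b) * Z ρ ψ t i₀ * P ρ ψ t (dl i₀) * (ρ (tau i₀ (-b)) * Z ρ ψ t i₀) := by
    rw [P_shift ρ ψ t i₀ hb, Z_comm ρ ψ t i₀ (hw_fix (form_pt_vr0 i₀ hb')), ← mul_assoc,
      mul_assoc (ρ (tau i₀ b)) (Z ρ ψ t i₀), Z_E, mul_assoc (ρ (tau i₀ b)) (P ρ ψ t (dl i₀)) (Z ρ ψ t i₀), E_Z]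
  rw [h]
  exact kSpan_mul (kSpan_mul (hw_mem_kSpan (form_pt_vr0 i₀ hb)) (E_mem_kSpan hC))
    (hw_mem_kSpan (form_pt_vr0 i₀ hb'))

theorem symHom_mem_kSpan (hC : Ctx ρ ψ t ε) (S : symSub F m) :
    ρ (symHom F m (Multiplicative.ofAdd S)) * Z ρ ψ t i₀ ∈ kSpan ρ ψ t i₀ := by
  rw [Z_eq_sum hC, Finset.mul_sum]
  refine Submodule.sum_mem _ fun b hb => ?_
  rw [rho_P]
  exact Submodule.smul_mem _ _ (P_shift_mem hC (mem_Bs.1 hb))

theorem conj_mem_kSpan {g : Matrix.symplecticGroup (Fin m) F} (hg : g • pt (F := F) i₀ = pt i₀)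
    {X : Module.End ℂ V} (hX : X ∈ kSpan ρ ψ t i₀) : ρ g * X * ρ g⁻¹ ∈ kSpan ρ ψ t i₀ := by
  have hg' : g⁻¹ • pt (F := F) i₀ = pt i₀ := by rw [inv_smul_eq_iff, hg]
  induction hX using Submodule.span_induction with
  | mem X hX =>
    obtain ⟨⟨w, hw0⟩, rfl⟩ := hX
    dsimp only
    rw [mul_assoc, mul_assoc (ρ _) (Z ρ ψ t i₀), ← Z_comm ρ ψ t i₀ hg', ← mul_assoc, ← mul_assoc, ← map_mul,
      ← map_mul, hw_conj hg]
    exact hw_mem_kSpan (by rw [← hg, form_smul_smul, hw0])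
  | zero => rw [mul_zero, zero_mul]; exact Submodule.zero_mem _
  | add a b _ _ ha hb => rw [mul_add, add_mul]; exact Submodule.add_mem _ ha hb
  | smul c a _ ha => rw [mul_smul_comm, smul_mul_assoc]; exact Submodule.smul_mem _ _ ha

variable (ρ ψ t i₀) in
/-- An element fixing the point and acting through the Heisenberg operators. -/
def InB (g : Matrix.symplecticGroup (Fin m) F) : Prop :=
  g • pt (F := F) i₀ = pt i₀ ∧ ρ g * Z ρ ψ t i₀ ∈ kSpan ρ ψ t i₀

theorem InB.mul {g h : Matrix.symplecticGroup (Fin m) F} (hg : InB ρ ψ t i₀ g) (hh : InB ρ ψ t i₀ h) :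
    InB ρ ψ t i₀ (g * h) := by
  refine ⟨by rw [mul_smul, hh.1, hg.1], ?_⟩
  have := kSpan_mul hg.2 hh.2
  rwa [mul_assoc, ← mul_assoc (Z ρ ψ t i₀), ← Z_comm ρ ψ t i₀ hh.1, mul_assoc (ρ h), Z_idem, ← mul_assoc,
    ← map_mul] at this

theorem InB.one : InB ρ ψ t i₀ (1 : Matrix.symplecticGroup (Fin m) F) :=
  ⟨one_smul _ _, by rw [map_one, one_mul]; exact Z_mem_kSpan⟩

theorem InB.pow {g : Matrix.symplecticGroup (Fin m) F} (hg : InB ρ ψ t i₀ g) : ∀ n : ℕ, InB ρ ψ t i₀ (g ^ n)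
  | 0 => by rw [pow_zero]; exact InB.one
  | n + 1 => by rw [pow_succ]; exact (InB.pow hg n).mul hg

theorem InB.inv {g : Matrix.symplecticGroup (Fin m) F} (hg : InB ρ ψ t i₀ g) : InB ρ ψ t i₀ g⁻¹ := by
  obtain ⟨n, hn, hn'⟩ := isOfFinOrder_iff_pow_eq_one.1 (isOfFinOrder_of_finite g)
  rw [inv_eq_of_mul_eq_one_right (b := g ^ (n - 1)) (by rw [← pow_succ', Nat.sub_add_cancel hn, hn'])]
  exact hg.pow _

theorem InB.conj {g h : Matrix.symplecticGroup (Fin m) F} (hg : g • pt (F := F) i₀ = pt i₀)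
    (hh : InB ρ ψ t i₀ h) : InB ρ ψ t i₀ (g * h * g⁻¹) := by
  have hg' : g⁻¹ • pt (F := F) i₀ = pt i₀ := by rw [inv_smul_eq_iff, hg]
  refine ⟨by rw [mul_smul, mul_smul, hg', hh.1, hg], ?_⟩
  have := conj_mem_kSpan hg hh.2
  rwa [mul_assoc, mul_assoc (ρ h), ← Z_comm ρ ψ t i₀ hg', ← mul_assoc, ← mul_assoc, ← map_mul, ← map_mul] at this

theorem tv_vl_InB (hC : Ctx ρ ψ t ε) (a : Fin m → F) (c : F) : InB ρ ψ t i₀ (tv (vl a) c) := by
  refine ⟨?_, ?_⟩
  · rw [tv_smul, form_pt_vl, mul_zero, zero_smul, add_zero]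
  · rw [tv_vl]
    exact symHom_mem_kSpan hC _

/-- The stabiliser of the point acts through the Heisenberg operators. -/
theorem stab_InB (hC : Ctx ρ ψ t ε) (hm : 2 ≤ m) {g : Matrix.symplecticGroup (Fin m) F}
    (hg : g • pt (F := F) i₀ = pt i₀) : InB ρ ψ t i₀ g := by
  have hgen : ∀ w ∈ perpPt (F := F) i₀, ∀ c : F, InB ρ ψ t i₀ (tv w c) := by
    intro w hw0 c
    by_cases hdeg : ∀ x ∈ perpPt (F := F) i₀, form w x = 0
    · set f : Fin m ⊕ Fin m → F := Pi.single (Sum.inr i₀) 1 with hf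
      have hfe : form f (pt (F := F) i₀) = 1 := by rw [form_left_pt, hf, Pi.single_eq_same]
      have hz : w + form w f • pt i₀ = 0 := eq_zero_of_form_eq_zero fun x => by
        have h1 := hdeg (x - form x (pt i₀) • f) ((mem_perpPt i₀).2 (by
          rw [form_sub_left, form_smul_left, hfe, mul_one, sub_self]))
        rw [form_sub_right, form_smul_right] at h1
        rw [form_add_right, form_smul_right, form_swap x w]
        linear_combination -h1
      rw [eq_neg_of_add_eq_zero_left hz, ← neg_smul, tv_smul_vec]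
      exact tv_vl_InB hC _ _
    · push_neg at hdeg
      obtain ⟨j, hj⟩ : ∃ j : Fin m, j ≠ i₀ :=
        Fintype.exists_ne_of_one_lt_card (by rw [Fintype.card_fin]; omega) i₀
      have hj0 : (Pi.single j 1 : Fin m → F) i₀ = 0 := Pi.single_eq_of_ne (Ne.symm hj) _
      obtain ⟨k, hk, hkw⟩ := exists_tvGroup_smul (W := perpPt (F := F) i₀) (u := vl (Pi.single j 1)) (v := w)
        ((mem_perpPt i₀).2 (by rw [form_swap, form_pt_vl, neg_zero])) hw0
        ⟨vr (Pi.single j 1), (mem_perpPt i₀).2 (by rw [form_swap, form_pt_vr0 i₀ hj0, neg_zero]), by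
          rw [form_vr]; simp [vl]⟩ hdeg
      rw [← hkw, ← tv_conj]
      exact (tv_vl_InB hC _ _).conj (perpPt_fix i₀ hk)
  refine Subgroup.closure_induction (p := fun g _ => InB ρ ψ t i₀ g) ?_ InB.one (fun a b _ _ ha hb => ha.mul hb)
    (fun a _ ha => ha.inv) (stab_mem_tvGroup i₀ hg)
  rintro _ ⟨w, hw0, c, rfl⟩
  exact hgen w hw0 c

/-- An element fixing the point is decomposed along the two halves. -/
theorem hw_decomp {w : Fin m ⊕ Fin m → F} (hw0 : form (pt i₀) w = 0) :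
    ∃ (S : symSub F m) (b : Fin m → F), b i₀ = 0 ∧
      hw (pt i₀) w = symHom F m (Multiplicative.ofAdd S) * tau i₀ b := by
  obtain ⟨κ, h, hb⟩ := hw_split i₀ hw0
  refine ⟨symSquare (-κ) (dl i₀) + symPair 1 (dl i₀) (fun i => w (Sum.inl i)), fun i => w (Sum.inr i), hb, ?_⟩
  rw [ofAdd_add, map_mul, ← tv_pt, ← hw_vl, mul_assoc]
  show _ = tv (pt i₀) (-κ) * (hw (pt i₀) (vl fun i => w (Sum.inl i)) * hw (pt i₀) (vr fun i => w (Sum.inr i)))
  rw [h, ← mul_assoc, tv_add, neg_add_cancel, tv_zero, one_mul]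

/-- The same with the factors in the other order. -/
theorem hw_decomp' {w : Fin m ⊕ Fin m → F} (hw0 : form (pt i₀) w = 0) :
    ∃ (S : symSub F m) (b : Fin m → F), b i₀ = 0 ∧
      hw (pt i₀) w = tau i₀ b * symHom F m (Multiplicative.ofAdd S) := by
  obtain ⟨S, b, hb, h⟩ := hw_decomp hw0
  refine ⟨conjSym (1 - Matrix.vecMulVec (dl i₀) (-b)) S, b, hb, ?_⟩
  have hb' : (-b) i₀ = 0 := by simp [hb]
  have h2 : tau i₀ (-b) * symHom F m (Multiplicative.ofAdd S) =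
      symHom F m (Multiplicative.ofAdd (conjSym (1 - Matrix.vecMulVec (dl i₀) (-b)) S)) * tau i₀ (-b) := by
    rw [show tau i₀ (-b) = lev _ _ (lev_tau_cond i₀ hb') from hw_vr i₀ hb']
    refine (symHom_lev _ _ _ _ S ?_).symm
    rw [conjSym_val, Matrix.mul_assoc, lev_tau_cond i₀ hb', Matrix.mul_one]
  have h3 : tau i₀ (-b) * tau i₀ b = 1 := by
    simpa using tau_mul_neg i₀ hb'
  calc hw (pt i₀) w = (tau i₀ b * tau i₀ (-b)) * (symHom F m (Multiplicative.ofAdd S) * tau i₀ b) := by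
        rw [tau_mul_neg i₀ hb, one_mul, h]
    _ = tau i₀ b * ((tau i₀ (-b) * symHom F m (Multiplicative.ofAdd S)) * tau i₀ b) := by
        simp only [mul_assoc]
    _ = _ := by rw [h2, mul_assoc (symHom F m _), h3, mul_one]

theorem E_tau_E (hC : Ctx ρ ψ t ε) {b : Fin m → F} (hb : b i₀ = 0) (hb0 : b ≠ 0) :
    P ρ ψ t (dl i₀) * ρ (tau i₀ b) * P ρ ψ t (dl i₀) = 0 := by
  rw [E_tau ρ ψ t i₀ hb, mul_assoc, P_mul_P_ne, mul_zero]
  intro h
  have h' : chi ψ t (dl i₀ + -b) = chi ψ t (dl i₀ + 0) := by rw [add_zero, ← sub_eq_add_neg, h]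
  exact hb0 (neg_eq_zero.1 (chi_dl_add_inj hC (by simp [hb]) rfl h'))

theorem Scal_tau (hC : Ctx ρ ψ t ε) {b : Fin m → F} (hb : b i₀ = 0) :
    Scal (P ρ ψ t (dl i₀)) (P ρ ψ t (dl i₀) * ρ (tau i₀ b) * P ρ ψ t (dl i₀)) := by
  by_cases hb0 : b = 0
  · subst hb0
    rw [tau_zero, map_one, mul_one, P_idem]
    exact Scal.self _
  · rw [E_tau_E hC hb hb0]
    exact Scal.zero _

/-- Elements fixing the point act on the small eigenspace by scalars. -/
theorem Scal_stab (hC : Ctx ρ ψ t ε) (hm : 2 ≤ m) {g : Matrix.symplecticGroup (Fin m) F}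
    (hg : g • pt (F := F) i₀ = pt i₀) :
    Scal (P ρ ψ t (dl i₀)) (P ρ ψ t (dl i₀) * ρ g * P ρ ψ t (dl i₀)) := by
  set E := P ρ ψ t (dl i₀) with hE
  have h1 : E * ρ g * E = E * (ρ g * Z ρ ψ t i₀) * E := by
    simp only [mul_assoc, hE, Z_E]
  rw [h1]
  suffices key : ∀ X ∈ kSpan ρ ψ t i₀, Scal E (E * X * E) from key _ (stab_InB hC hm hg).2
  intro X hX
  induction hX using Submodule.span_induction with
  | mem X hX =>
    obtain ⟨⟨w, hw0⟩, rfl⟩ := hX
    obtain ⟨S, b, hb, e⟩ := hw_decomp hw0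
    dsimp only
    rw [← mul_assoc, mul_assoc _ (Z ρ ψ t i₀), hE, Z_E, e, map_mul, ← mul_assoc, P_rho, smul_mul_assoc,
      smul_mul_assoc]
    exact (Scal_tau hC hb).smul _
  | zero => rw [mul_zero, zero_mul]; exact Scal.zero _
  | add a b _ _ ha hb => rw [mul_add, add_mul]; exact ha.add hb
  | smul c a _ ha => rw [mul_smul_comm, smul_mul_assoc]; exact ha.smul c

/-- Reduction to a double coset representative. -/
theorem Scal_double (hC : Ctx ρ ψ t ε) (hm : 2 ≤ m) {s σ p : Matrix.symplecticGroup (Fin m) F}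
    (hs : s • pt (F := F) i₀ = pt i₀) (hp : p • pt (F := F) i₀ = pt i₀)
    (h : ∀ b b' : Fin m → F, b i₀ = 0 → b' i₀ = 0 → Scal (P ρ ψ t (dl i₀))
      (P ρ ψ t (dl i₀) * ρ (tau i₀ b) * ρ σ * (ρ (tau i₀ b') * P ρ ψ t (dl i₀)))) :
    Scal (P ρ ψ t (dl i₀)) (P ρ ψ t (dl i₀) * ρ (s * σ * p) * P ρ ψ t (dl i₀)) := by
  set E := P ρ ψ t (dl i₀) with hE
  have h1 : E * ρ (s * σ * p) * E = E * (ρ s * Z ρ ψ t i₀) * ρ σ * ((ρ p * Z ρ ψ t i₀) * E) := by
    rw [Z_comm ρ ψ t i₀ hs, ← mul_assoc E (Z ρ ψ t i₀), hE, E_Z, mul_assoc (ρ p), Z_E, map_mul, map_mul]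
    simp only [mul_assoc]
  rw [h1]
  suffices key : ∀ X ∈ kSpan ρ ψ t i₀, ∀ Y ∈ kSpan ρ ψ t i₀, Scal E (E * X * ρ σ * (Y * E)) from
    key _ (stab_InB hC hm hs).2 _ (stab_InB hC hm hp).2
  intro X hX Y hY
  induction hX using Submodule.span_induction with
  | mem X hX =>
    induction hY using Submodule.span_induction with
    | mem Y hY =>
      obtain ⟨⟨w, hw0⟩, rfl⟩ := hX
      obtain ⟨⟨w', hw0'⟩, rfl⟩ := hY
      obtain ⟨S, b, hb, e⟩ := hw_decomp hw0
      obtain ⟨S', b', hb', e'⟩ := hw_decomp' hw0'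
      dsimp only
      rw [hE, Z_comm ρ ψ t i₀ (hw_fix hw0), ← mul_assoc _ (Z ρ ψ t i₀), E_Z, mul_assoc (ρ (hw _ w')), Z_E, e, e',
        map_mul, map_mul, ← mul_assoc _ (ρ (symHom F m _)), P_rho, mul_assoc (ρ (tau i₀ b')), rho_P,
        smul_mul_assoc, smul_mul_assoc, mul_smul_comm, mul_smul_comm, smul_mul_assoc, smul_smul]
      exact (h b b' hb hb').smul _
    | zero => rw [zero_mul, mul_zero]; exact Scal.zero _
    | add a b _ _ ha hb => rw [add_mul, mul_add]; exact ha.add hb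
    | smul c a _ ha => rw [smul_mul_assoc, mul_smul_comm]; exact ha.smul c
  | zero => rw [mul_zero, zero_mul, zero_mul]; exact Scal.zero _
  | add a b _ _ ha hb => rw [mul_add, add_mul, add_mul]; exact ha.add hb
  | smul c a _ ha => rw [mul_smul_comm, smul_mul_assoc, smul_mul_assoc]; exact ha.smul c

end CfsgLib.MinDeg.SpLow
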