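import Cfsg.Agent.MinDeg.SympLowHecke
import Cfsg.Agent.MinDeg.Irreducible
import Cfsg.Agent.MinDeg.QuadOrbit

/-!
Irreducible representations with only rank one weights are determined by one weight and the central character.
-/

set_option autoImplicit false
set_option linter.style.haveILetI false
set_option linter.unusedSectionVars false

namespace CfsgLib.MinDeg.SpLow

open Matrix CfsgLib.MinDeg CfsgLib.Symp

universe u v w

variable {F : Type u} [Field F] [Fintype F] [DecidableEq F] {m : ℕ}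
  {V : Type v} [AddCommGroup V] [Module ℂ V]
  {V' : Type w} [AddCommGroup V'] [Module ℂ V']

theorem negOne_smul (x : Fin m ⊕ Fin m → F) : (negOne : Matrix.symplecticGroup (Fin m) F) • x = -x := by
  rw [negOne, lev_apply, Matrix.neg_mulVec, Matrix.neg_mulVec, Matrix.one_mulVec, Matrix.one_mulVec]
  funext i
  rcases i with i | i <;> simp [vl, vr]

theorem negOne_comm (g : Matrix.symplecticGroup (Fin m) F) : g * negOne = negOne * g := by
  refine symp_ext fun x => ?_
  rw [mul_smul, mul_smul, negOne_smul, negOne_smul, smul_neg]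

theorem negOne_mul_self : (negOne : Matrix.symplecticGroup (Fin m) F) * negOne = 1 :=
  symp_ext fun x => by rw [mul_smul, negOne_smul, negOne_smul, neg_neg, one_smul]

theorem irreducible_eq_top {G : Type*} [Monoid G] {ρ : Representation ℂ G V} (hρ : ρ.IsIrreducible)
    (U : Submodule ℂ V) (hU : ∀ g, ∀ v ∈ U, ρ g v ∈ U) (h0 : U ≠ ⊥) : U = ⊤ := by
  haveI := hρ
  rcases IsSimpleOrder.eq_bot_or_eq_top (⟨U, fun g v hv => hU g v hv⟩ : Subrepresentation ρ) with e | e
  · exact absurd (congrArg Subrepresentation.toSubmodule e) h0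
  · exact congrArg Subrepresentation.toSubmodule e

/-- Minus the identity acts by a sign. -/
theorem exists_eps [FiniteDimensional ℂ V] {ρ : Representation ℂ (Matrix.symplecticGroup (Fin m) F) V}
    (hρ : ρ.IsIrreducible) : ∃ ε : ℂ, (ε = 1 ∨ ε = -1) ∧ ρ negOne = ε • (1 : Module.End ℂ V) := by
  have hinv : ρ negOne * ρ negOne = 1 := by rw [← map_mul, negOne_mul_self, map_one]
  have key : ∀ c : ℂ, ∀ v : V, ρ negOne v = c • v → v ≠ 0 → ρ negOne = c • (1 : Module.End ℂ V) := by
    intro c v hv hv0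
    have htop := irreducible_eq_top hρ (LinearMap.ker (ρ negOne - c • (1 : Module.End ℂ V))) (fun g w hw => by
      rw [LinearMap.mem_ker, LinearMap.sub_apply, sub_eq_zero, LinearMap.smul_apply, Module.End.one_apply] at hw ⊢
      rw [← Module.End.mul_apply, ← map_mul, ← negOne_comm, map_mul, Module.End.mul_apply, hw, map_smul])
      (fun h => hv0 ((Submodule.mem_bot ℂ).1 (h ▸ (by
        rw [LinearMap.mem_ker, LinearMap.sub_apply, sub_eq_zero, LinearMap.smul_apply, Module.End.one_apply, hv] :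
        v ∈ LinearMap.ker (ρ negOne - c • (1 : Module.End ℂ V))))))
    rw [LinearMap.ker_eq_top, sub_eq_zero] at htop
    exact htop
  by_cases h : ρ negOne = 1
  · exact ⟨1, Or.inl rfl, by rw [h, one_smul]⟩
  · obtain ⟨v, hv⟩ : ∃ v, ρ negOne v - v ≠ 0 := by
      by_contra hc
      push_neg at hc
      exact h (LinearMap.ext fun v => sub_eq_zero.1 (hc v))
    refine ⟨-1, Or.inr rfl, key (-1) _ ?_ hv⟩
    rw [map_sub, ← Module.End.mul_apply, hinv, Module.End.one_apply, neg_one_smul, neg_sub]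

theorem proj_prod {G X : Type*} [Monoid G] [AddCommGroup X] [Fintype X] (ρ : Representation ℂ G V)
    (σ : Representation ℂ G V') (e : Multiplicative X →* G) (χ : AddChar X ℂ) (a : V) (b : V') :
    proj (ρ.prod σ) e χ (a, b) = (proj ρ e χ a, proj σ e χ b) := by
  simp only [proj_apply]
  refine Prod.ext ?_ ?_
  · simp [Prod.fst_sum, Representation.prod_apply_apply]
  · simp [Prod.snd_sum, Representation.prod_apply_apply]

theorem Ctx.prod {ρ : Representation ℂ (Matrix.symplecticGroup (Fin m) F) V}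
    {σ : Representation ℂ (Matrix.symplecticGroup (Fin m) F) V'} {ψ : AddChar F ℂ} {t : F} {ε : ℂ}
    (h : Ctx ρ ψ t ε) (h' : Ctx σ ψ t ε) : Ctx (ρ.prod σ) ψ t ε where
  prim := h.prim
  two := h.two
  ht := h.ht
  low χ hχ := by
    obtain ⟨⟨a, b⟩, hw, hne⟩ := Submodule.exists_mem_ne_zero_of_ne_bot hχ
    by_cases ha : a = 0
    · refine h'.low χ fun hb => hne ?_
      have hb0 : b ∈ weight σ (symHom F m) χ := fun x => by
        have h1 := congrArg Prod.snd (hw x)
        simpa [Representation.prod_apply_apply] using h1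
      rw [hb, Submodule.mem_bot] at hb0
      simp [ha, hb0]
    · refine h.low χ fun hb => ha ?_
      have ha0 : a ∈ weight ρ (symHom F m) χ := fun x => by
        have h1 := congrArg Prod.fst (hw x)
        simpa [Representation.prod_apply_apply] using h1
      rwa [hb, Submodule.mem_bot] at ha0
  eps := by
    refine LinearMap.ext fun x => ?_
    rw [Representation.prod_apply_apply, h.eps, h'.eps]
    simp [Prod.ext_iff]

variable {ρ : Representation ℂ (Matrix.symplecticGroup (Fin m) F) V}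
  {σ : Representation ℂ (Matrix.symplecticGroup (Fin m) F) V'} {ψ : AddChar F ℂ} {t : F} {ε : ℂ}

/-- Uniqueness. -/
theorem character_eq (hm : 2 ≤ m) (i₀ : Fin m) (hρ : ρ.IsIrreducible) (hσ : σ.IsIrreducible)
    (h : Ctx ρ ψ t ε) (h' : Ctx σ ψ t ε) (hE : P ρ ψ t (dl i₀) ≠ 0) (hE' : P σ ψ t (dl i₀) ≠ 0) :
    ρ.character = σ.character := by
  obtain ⟨a₀, ha₀⟩ : ∃ a, P ρ ψ t (dl i₀) a ≠ 0 := by
    by_contra hc; push_neg at hc; exact hE (LinearMap.ext hc)
  obtain ⟨b₀, hb₀⟩ : ∃ b, P σ ψ t (dl i₀) b ≠ 0 := by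
    by_contra hc; push_neg at hc; exact hE' (LinearMap.ext hc)
  set x := P ρ ψ t (dl i₀) a₀ with hx
  set y := P σ ψ t (dl i₀) b₀ with hy
  set π := ρ.prod σ with hπ
  have hxy : ∀ (a : V) (b : V'), P π ψ t (dl i₀) (a, b) = (P ρ ψ t (dl i₀) a, P σ ψ t (dl i₀) b) :=
    proj_prod ρ σ _ _
  have hfix : P π ψ t (dl i₀) (x, y) = (x, y) := by
    rw [hxy, hx, hy, ← Module.End.mul_apply, P_idem, ← Module.End.mul_apply, P_idem]
  set U : Submodule ℂ (V × V') :=
    Submodule.span ℂ (Set.range fun g : Matrix.symplecticGroup (Fin m) F => π g (x, y)) with hU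
  have hUinv : ∀ g, ∀ v ∈ U, π g v ∈ U := by
    intro g v hv
    induction hv using Submodule.span_induction with
    | mem v hv =>
      obtain ⟨k, rfl⟩ := hv
      exact Submodule.subset_span ⟨g * k, by simp only [map_mul, Module.End.mul_apply]⟩
    | zero => rw [map_zero]; exact Submodule.zero_mem _
    | add a b _ _ ha hb => rw [map_add]; exact Submodule.add_mem _ ha hb
    | smul c a _ ha => rw [map_smul]; exact Submodule.smul_mem _ _ ha
  have hxU : (x, y) ∈ U := Submodule.subset_span ⟨1, by simp only [map_one, Module.End.one_apply]⟩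
  have hline : ∀ v ∈ U, ∃ c : ℂ, P π ψ t (dl i₀) v = c • (x, y) := by
    intro v hv
    induction hv using Submodule.span_induction with
    | mem v hv =>
      obtain ⟨k, rfl⟩ := hv
      obtain ⟨c, hc⟩ := Scal_all (h.prod h') hm (i₀ := i₀) k
      refine ⟨c, ?_⟩
      have h1 := LinearMap.congr_fun hc (x, y)
      rwa [Module.End.mul_apply, Module.End.mul_apply, hfix, LinearMap.smul_apply, hfix] at h1
    | zero => exact ⟨0, by rw [map_zero, zero_smul]⟩
    | add a b _ _ ha hb =>
      obtain ⟨c, hc⟩ := ha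
      obtain ⟨d, hd⟩ := hb
      exact ⟨c + d, by rw [map_add, hc, hd, add_smul]⟩
    | smul c a _ ha =>
      obtain ⟨d, hd⟩ := ha
      exact ⟨c * d, by rw [map_smul, hd, smul_smul]⟩
  have hl : ∀ v, (v, (0 : V')) ∈ U → v = 0 := by
    intro v hv
    by_contra hv0
    have htop := irreducible_eq_top hρ (U.comap (LinearMap.inl ℂ V V')) (fun g w hw => by
      have h1 := hUinv g _ hw
      simpa [hπ, Representation.prod_apply_apply] using h1)
      (fun hb => hv0 ((Submodule.mem_bot ℂ).1 (hb ▸ (hv : v ∈ U.comap (LinearMap.inl ℂ V V')))))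
    obtain ⟨c, hc⟩ := hline (x, 0) (show x ∈ U.comap (LinearMap.inl ℂ V V') by rw [htop]; trivial)
    rw [hxy, map_zero] at hc
    have hc2 : c = 0 := (smul_eq_zero.1 (congrArg Prod.snd hc).symm).resolve_right hb₀
    have hc1 := congrArg Prod.fst hc
    rw [hc2, Prod.smul_fst, zero_smul, hx, ← Module.End.mul_apply, P_idem] at hc1
    exact ha₀ hc1
  have hr : ∀ v, ((0 : V), v) ∈ U → v = 0 := by
    intro v hv
    by_contra hv0
    have htop := irreducible_eq_top hσ (U.comap (LinearMap.inr ℂ V V')) (fun g w hw => by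
      have h1 := hUinv g _ hw
      simpa [hπ, Representation.prod_apply_apply] using h1)
      (fun hb => hv0 ((Submodule.mem_bot ℂ).1 (hb ▸ (hv : v ∈ U.comap (LinearMap.inr ℂ V V')))))
    obtain ⟨c, hc⟩ := hline (0, y) (show y ∈ U.comap (LinearMap.inr ℂ V V') by rw [htop]; trivial)
    rw [hxy, map_zero] at hc
    have hc2 : c = 0 := (smul_eq_zero.1 (congrArg Prod.fst hc).symm).resolve_right ha₀
    have hc1 := congrArg Prod.snd hc
    rw [hc2, Prod.smul_snd, zero_smul, hy, ← Module.End.mul_apply, P_idem] at hc1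
    exact hb₀ hc1
  set p : U →ₗ[ℂ] V := (LinearMap.fst ℂ V V').comp U.subtype with hp
  set q : U →ₗ[ℂ] V' := (LinearMap.snd ℂ V V').comp U.subtype with hq
  have hpb : Function.Bijective p := by
    refine ⟨LinearMap.ker_eq_bot.1 ((Submodule.eq_bot_iff _).2 ?_), LinearMap.range_eq_top.1 ?_⟩
    · rintro ⟨⟨a, b⟩, hab⟩ h0
      change a = 0 at h0
      subst h0
      exact Subtype.ext (Prod.ext rfl (hr b hab))
    · refine irreducible_eq_top hρ _ ?_ ?_
      · rintro g _ ⟨v, rfl⟩
        exact ⟨⟨π g v, hUinv g _ v.2⟩, congrArg Prod.fst (Representation.prod_apply_apply ρ σ g (v : V × V'))⟩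
      · exact fun hb => ha₀ ((Submodule.mem_bot ℂ).1 (hb ▸ (⟨⟨(x, y), hxU⟩, rfl⟩ : x ∈ LinearMap.range p)))
  have hqb : Function.Bijective q := by
    refine ⟨LinearMap.ker_eq_bot.1 ((Submodule.eq_bot_iff _).2 ?_), LinearMap.range_eq_top.1 ?_⟩
    · rintro ⟨⟨a, b⟩, hab⟩ h0
      change b = 0 at h0
      subst h0
      exact Subtype.ext (Prod.ext (hl a hab) rfl)
    · refine irreducible_eq_top hσ _ ?_ ?_
      · rintro g _ ⟨v, rfl⟩
        exact ⟨⟨π g v, hUinv g _ v.2⟩, congrArg Prod.snd (Representation.prod_apply_apply ρ σ g (v : V × V'))⟩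
      · exact fun hb => hb₀ ((Submodule.mem_bot ℂ).1 (hb ▸ (⟨⟨(x, y), hxU⟩, rfl⟩ : y ∈ LinearMap.range q)))
  let ep := LinearEquiv.ofBijective p hpb
  let eq' := LinearEquiv.ofBijective q hqb
  let f : V ≃ₗ[ℂ] V' := ep.symm.trans eq'
  funext g
  have hconj : σ g = f.conj (ρ g) := by
    refine LinearMap.ext fun b => ?_
    obtain ⟨z, rfl⟩ := eq'.surjective b
    rw [LinearEquiv.conj_apply_apply]
    have e1 : f.symm (eq' z) = ep z := by simp [f]
    rw [e1]
    have e2 : ρ g (ep z) = ep ⟨π g z, hUinv g _ z.2⟩ :=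
      (congrArg Prod.fst (Representation.prod_apply_apply ρ σ g (z : V × V'))).symm
    rw [e2]
    simp only [f, LinearEquiv.trans_apply, LinearEquiv.symm_apply_apply]
    exact (congrArg Prod.snd (Representation.prod_apply_apply ρ σ g (z : V × V'))).symm
  show LinearMap.trace ℂ V (ρ g) = LinearMap.trace ℂ V' (σ g)
  rw [hconj, LinearMap.trace_conj']

/-- A weight can be moved to the coordinate vector. -/
theorem P_dl_ne_zero {s : F} {v : Fin m → F} (hv : v ≠ 0) (i₀ : Fin m)
    (h : P ρ ψ s v ≠ 0) : P ρ ψ s (dl i₀) ≠ 0 := by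
  obtain ⟨g, hg⟩ : ∃ g : (Fin m → F) ≃ₗ[F] (Fin m → F), g v = dl i₀ :=
    exists_equiv_apply hv (fun e => one_ne_zero ((dl_self (F := F) i₀).symm.trans (congrFun e i₀)))
  set B := LinearMap.toMatrix' g.toLinearMap with hB
  set A := (LinearMap.toMatrix' g.symm.toLinearMap)ᵀ with hA
  have hAB : Aᵀ * B = 1 := by
    rw [hA, Matrix.transpose_transpose, hB, ← LinearMap.toMatrix'_comp]
    simp
  intro h0
  have h1 := lev_P ρ ψ s A B hAB v
  have hBv : B *ᵥ v = dl i₀ := by rw [hB, LinearMap.toMatrix'_mulVec]; exact hg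
  rw [hBv, h0, zero_mul] at h1
  apply h
  rw [← one_mul (P ρ ψ s v), ← map_one ρ, ← inv_mul_cancel (lev A B hAB), map_mul, mul_assoc, h1, mul_zero]

theorem P_ne_zero_of_weight {s : F} {v : Fin m → F} (h : weight ρ (symHom F m) (chi ψ s v) ≠ ⊥) :
    P ρ ψ s v ≠ 0 := by
  classical
  intro h0
  obtain ⟨u, hu, hu0⟩ := Submodule.exists_mem_ne_zero_of_ne_bot h
  have h1 := proj_of_mem ρ (symHom F m) (χ := chi ψ s v) hu
  rw [if_pos rfl] at h1
  rw [P] at h0
  rw [h0, LinearMap.zero_apply] at h1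
  exact hu0 h1.symm

/-- The existence of a small projection for one of two square classes. -/
theorem exists_type [FiniteDimensional ℂ V] (hm : 2 ≤ m) (hodd : Odd (Fintype.card F)) (i₀ : Fin m)
    (hρ : ρ.IsIrreducible) (hd : 2 ≤ Module.finrank ℂ V)
    (hlow : ∀ χ : AddChar (symSub F m) ℂ, weight ρ (symHom F m) χ ≠ ⊥ → ∃ s v, χ = chi ψ s v)
    {ν : F} (hν : ¬IsSquare ν) : P ρ ψ 1 (dl i₀) ≠ 0 ∨ P ρ ψ ν (dl i₀) ≠ 0 := by
  have hq : 3 ≤ Fintype.card F := by
    have := Fintype.one_lt_card (α := F)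
    obtain ⟨r, hr⟩ := hodd
    omega
  obtain ⟨χ, u, w, hw, hχ⟩ := exists_offdiag hm (by rw [Nat.card_eq_fintype_card]; omega) hρ hd
  have hne : weight ρ (symHom F m) χ ≠ ⊥ := Submodule.one_le_finrank_iff.1 hw
  obtain ⟨s, v, rfl⟩ := hlow χ hne
  have hs : s ≠ 0 := fun e => hχ (by rw [chi_pair, e, zero_mul, AddChar.map_zero_eq_one])
  have hv : v ≠ 0 := fun e => hχ (by rw [chi_pair, e]; simp)
  have hν0 : ν ≠ 0 := fun e => hν (e ▸ ⟨0, by simp⟩)
  obtain ⟨t, ht, c, hc, hst⟩ : ∃ t : F, (t = 1 ∨ t = ν) ∧ ∃ c : F, c ≠ 0 ∧ s = t * (c * c) := by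
    by_cases h : IsSquare s
    · obtain ⟨c, rfl⟩ := h
      exact ⟨1, Or.inl rfl, c, fun e => hs (by rw [e, mul_zero]), (one_mul _).symm⟩
    · obtain ⟨c, hc⟩ : IsSquare (s / ν) := by
        have h2 : ringChar F ≠ 2 := fun h2 => by
          have := FiniteField.even_card_iff_char_two.1 h2
          rw [Nat.odd_iff] at hodd
          omega
        rw [← quadraticChar_one_iff_isSquare (div_ne_zero hs hν0), div_eq_mul_inv, map_mul,
          quadraticChar_neg_one_iff_not_isSquare.2 h,
          quadraticChar_neg_one_iff_not_isSquare.2 (fun hi => hν (by simpa using hi.inv))]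
        norm_num
      refine ⟨ν, Or.inr rfl, c, fun e => ?_, by rw [← hc]; field_simp⟩
      rw [e, mul_zero] at hc
      exact div_ne_zero hs hν0 hc
  rw [hst, ← chi_smul] at hne
  have := P_dl_ne_zero (smul_ne_zero hc hv) i₀ (P_ne_zero_of_weight hne)
  rcases ht with rfl | rfl
  · exact Or.inl this
  · exact Or.inr this

end CfsgLib.MinDeg.SpLow
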