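import Cfsg.Agent.MinDeg.WeilOperators
import Cfsg.Agent.MinDeg.Irreducible
import Cfsg.Agent.MinDeg.SympBound

/-!
The Weil representation of `Sp(2n, q)`, `q` odd, on odd functions.
-/

set_option autoImplicit false
set_option linter.style.haveILetI false

namespace CfsgLib.MinDeg

open Matrix Module

variable {F : Type*} [Field F] [Fintype F] [DecidableEq F] {m : ℕ}

/-- A normalised intertwiner. -/
structure IsWeil (ψ : AddChar F ℂ) (g : Matrix.symplecticGroup (Fin m) F) (T : Op F m) : Prop where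
  unit : IsUnit T
  inter : ∀ v, wOp ψ ((g : Matrix (Fin m ⊕ Fin m) (Fin m ⊕ Fin m) F) *ᵥ v) * T = T * wOp ψ v
  par_comm : T * par F m = par F m * T
  norm : evenDet T = oddDet T

variable {ψ : AddChar F ℂ}

omit [Fintype F] [DecidableEq F] in
theorem brk_mulVec (g : Matrix.symplecticGroup (Fin m) F) (v w : Fin m ⊕ Fin m → F) :
    brk ((g : Matrix (Fin m ⊕ Fin m) (Fin m ⊕ Fin m) F) *ᵥ v) ((g : Matrix _ _ F) *ᵥ w) = brk v w := by
  have hb : ∀ a b : Fin m ⊕ Fin m → F, brk a b = Symp.form a b := fun a b => by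
    rw [Symp.form, dotProduct, Fintype.sum_sum_type]
    simp only [Symp.J_mulVec_inl, Symp.J_mulVec_inr, brk, dotProduct, mul_neg, Finset.sum_neg_distrib]
    rw [Finset.sum_congr rfl fun i _ => mul_comm (hi b i) (lo a i)]
    ring
  rw [hb, hb, Symp.mem_iff_form.mp g.2]

theorem evenDet_scalar (h2 : (2 : F) ≠ 0) (c : ℂ) :
    evenDet (c • (1 : Op F m)) = c * oddDet (c • (1 : Op F m)) ∧
      (c • (1 : Op F m)) * par F m = par F m * (c • (1 : Op F m)) := by
  rw [show c • (1 : Op F m) = Matrix.diagonal fun _ => c by rw [Matrix.smul_one_eq_diagonal]]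
  exact evenDet_diagonal h2 fun _ => rfl

theorem det_ne_zero_smul (h2 : (2 : F) ≠ 0) {c : ℂ} (hc : c ≠ 0) : oddDet (c • (1 : Op F m)) ≠ 0 := by
  intro h
  have h1 := oddDet_mul (T := c⁻¹ • (1 : Op F m)) (evenDet_scalar (m := m) h2 c).2
  rw [h, mul_zero, Matrix.smul_mul, one_mul, smul_smul, inv_mul_cancel₀ hc, one_smul] at h1
  rw [oddDet, one_mul, add_comm, evenP_add_oddP, Matrix.det_one] at h1
  exact one_ne_zero h1

theorem det_ne_zero_comm (T : Op F m) (hu : IsUnit T) (hc : T * par F m = par F m * T) :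
    evenDet T ≠ 0 ∧ oddDet T ≠ 0 := by
  obtain ⟨u, rfl⟩ := hu
  have h1 : (↑u⁻¹ : Op F m) * par F m = par F m * (↑u⁻¹ : Op F m) := by
    rw [← Units.mul_right_inj u, ← mul_assoc, Units.mul_inv, one_mul, ← mul_assoc, hc, mul_assoc,
      Units.mul_inv, mul_one]
  have he : evenDet (1 : Op F m) = 1 := by rw [evenDet, one_mul, evenP_add_oddP, Matrix.det_one]
  have ho : oddDet (1 : Op F m) = 1 := by rw [oddDet, one_mul, add_comm, evenP_add_oddP, Matrix.det_one]
  refine ⟨fun h => ?_, fun h => ?_⟩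
  · have := evenDet_mul (T := (u : Op F m)) h1
    rw [Units.mul_inv, he, h, zero_mul] at this
    exact one_ne_zero this
  · have := oddDet_mul (T := (u : Op F m)) h1
    rw [Units.mul_inv, ho, h, zero_mul] at this
    exact one_ne_zero this

theorem exists_isWeil (h2 : (2 : F) ≠ 0) (hψ : ψ.IsPrimitive) (g : Matrix.symplecticGroup (Fin m) F) :
    ∃ T, IsWeil ψ g T := by
  obtain ⟨T, hT, hW⟩ := exists_intertwiner h2 hψ (g : Matrix (Fin m ⊕ Fin m) (Fin m ⊕ Fin m) F).mulVecLin
    (brk_mulVec g)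
  have hc := par_comm h2 hψ hT hW
  obtain ⟨he, ho⟩ := det_ne_zero_comm T hT hc
  set c := oddDet T / evenDet T with hcd
  have hc0 : c ≠ 0 := div_ne_zero ho he
  have hs := evenDet_scalar (m := m) h2 c
  refine ⟨(c • (1 : Op F m)) * T, ?_, fun v => ?_, ?_, ?_⟩
  · refine IsUnit.mul ?_ hT
    exact IsUnit.of_mul_eq_one (c⁻¹ • (1 : Op F m)) (by
      rw [Matrix.smul_mul, one_mul, smul_smul, mul_inv_cancel₀ hc0, one_smul])
  · have h := hW v
    rw [Matrix.mulVecLin_apply] at h
    rw [Matrix.smul_mul, one_mul, Matrix.mul_smul, h, Matrix.smul_mul]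
  · rw [Matrix.smul_mul, one_mul, Matrix.smul_mul, hc, Matrix.mul_smul]
  · rw [evenDet_mul hc, oddDet_mul hc, hs.1, mul_assoc, mul_comm (oddDet (c • (1 : Op F m))), ← mul_assoc,
      hcd, div_mul_cancel₀ _ he, mul_comm]

theorem isWeil_unique (h2 : (2 : F) ≠ 0) (hψ : ψ.IsPrimitive) {g : Matrix.symplecticGroup (Fin m) F}
    {T T' : Op F m} (hT : IsWeil ψ g T) (hT' : IsWeil ψ g T') : T = T' := by
  obtain ⟨u, rfl⟩ := hT.unit
  obtain ⟨c, hc⟩ : ∃ c : ℂ, (↑u⁻¹ : Op F m) * T' = c • 1 := ⟨_, scalar_of_commute_wOp hψ fun v => by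
    rw [mul_assoc, ← hT'.inter v, ← mul_assoc, ← mul_assoc,
      show (↑u⁻¹ : Op F m) * wOp ψ ((g : Matrix _ _ F) *ᵥ v) = wOp ψ v * (↑u⁻¹ : Op F m) from by
        rw [← Units.mul_left_inj u, mul_assoc, hT.inter v, mul_assoc, Units.inv_mul, mul_one, ← mul_assoc,
          Units.inv_mul, one_mul]]⟩
  have hT'c : T' = (c • (1 : Op F m)) * (u : Op F m) := by
    rw [Matrix.smul_mul, one_mul, ← Units.mul_right_inj u⁻¹, hc, Matrix.mul_smul, Units.inv_mul]
  have h := hT'.norm
  rw [hT'c, evenDet_mul hT.par_comm, oddDet_mul hT.par_comm, hT.norm, (evenDet_scalar (m := m) h2 c).1] at h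
  have hc0 : c ≠ 0 := by
    rintro rfl
    rw [zero_smul, zero_mul] at hT'c
    exact not_isUnit_zero (hT'c ▸ hT'.unit)
  have hc1 : c = 1 := by
    have h3 : (c - 1) * (oddDet (c • (1 : Op F m)) * oddDet (u : Op F m)) = 0 := by linear_combination h
    exact sub_eq_zero.1 ((mul_eq_zero.1 h3).resolve_right
      (mul_ne_zero (det_ne_zero_smul h2 hc0) (det_ne_zero_comm _ ⟨u, rfl⟩ hT.par_comm).2))
  rw [hT'c, hc1, one_smul, one_mul]

/-- The odd functions. -/
def oddFun (F : Type*) [Field F] (m : ℕ) : Submodule ℂ ((Fin m → F) → ℂ) where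
  carrier := {f | ∀ x, f (-x) = -f x}
  add_mem' := fun {f g} hf hg x => by simp [hf x, hg x]; ring
  zero_mem' := fun x => by simp
  smul_mem' := fun c f hf x => by simp [hf x]

theorem par_mulVec (f : (Fin m → F) → ℂ) (x : Fin m → F) : (par F m *ᵥ f) x = f (-x) := by
  rw [Matrix.mulVec, dotProduct, Finset.sum_eq_single (-x)]
  · simp [par]
  · intro b _ hb; simp [par, hb]
  · simp

theorem mulVec_odd {T : Op F m} (h : T * par F m = par F m * T) {f : (Fin m → F) → ℂ}
    (hf : f ∈ oddFun F m) : T *ᵥ f ∈ oddFun F m := by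
  intro x
  rw [← par_mulVec (T *ᵥ f) x, Matrix.mulVec_mulVec, ← h, ← Matrix.mulVec_mulVec,
    show par F m *ᵥ f = -f from funext fun y => (par_mulVec f y).trans (hf y), Matrix.mulVec_neg]
  rfl

theorem finrank_oddFun (h2 : (2 : F) ≠ 0) : finrank ℂ (oddFun F m) = (Fintype.card F ^ m - 1) / 2 := by
  have hP : LinearMap.IsProj (oddFun F m) (Matrix.toLin' (oddP F m)) := by
    refine ⟨fun f x => ?_, fun f hf => ?_⟩
    · simp only [Matrix.toLin'_apply, oddP, Matrix.smul_mulVec, Matrix.sub_mulVec, Matrix.one_mulVec,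
        Pi.smul_apply, Pi.sub_apply, par_mulVec, neg_neg, smul_eq_mul]
      ring
    · funext x
      simp only [Matrix.toLin'_apply, oddP, Matrix.smul_mulVec, Matrix.sub_mulVec, Matrix.one_mulVec,
        Pi.smul_apply, Pi.sub_apply, par_mulVec, smul_eq_mul, hf x]
      ring
  have h := hP.trace
  rw [Matrix.trace_toLin'_eq] at h
  have h' : (finrank ℂ (oddFun F m) : ℂ) = (oddP F m).trace := by
    rw [← h]
  simp only [oddP, Matrix.trace_smul, Matrix.trace_sub, Matrix.trace_one, trace_par h2, smul_eq_mul,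
    Fintype.card_fun, Fintype.card_fin] at h'
  have hpos := Nat.one_le_pow m (Fintype.card F) Fintype.card_pos
  have e : ((2 * finrank ℂ (oddFun F m) + 1 : ℕ) : ℂ) = ((Fintype.card F ^ m : ℕ) : ℂ) := by
    push_cast at h' ⊢; linear_combination 2 * h'
  have e' := Nat.cast_injective e
  omega

/-- The Weil representation on odd functions. -/
theorem exists_weil_odd (hm : 2 ≤ m) (hodd : Odd (Fintype.card F)) :
    ∃ π : Representation ℂ (Matrix.symplecticGroup (Fin m) F) (Fin ((Fintype.card F ^ m - 1) / 2) → ℂ),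
      π.IsIrreducible := by
  classical
  have h2 : (2 : F) ≠ 0 := Ring.two_ne_zero fun h => by
    have := FiniteField.even_card_iff_char_two.1 h
    rw [Nat.odd_iff] at hodd
    omega
  have hq : 3 ≤ Fintype.card F := by
    have := Fintype.one_lt_card (α := F)
    obtain ⟨r, hr⟩ := hodd
    omega
  obtain ⟨ψ, hψ⟩ := exists_primitive F
  choose T hT using fun g : Matrix.symplecticGroup (Fin m) F => exists_isWeil (m := m) h2 hψ g
  have hmul : ∀ g g', T (g * g') = T g * T g' := fun g g' => by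
    refine isWeil_unique h2 hψ (hT _) ⟨(hT g).unit.mul (hT g').unit, fun v => ?_, ?_, ?_⟩
    · rw [Submonoid.coe_mul, ← Matrix.mulVec_mulVec, ← mul_assoc, (hT g).inter, mul_assoc, (hT g').inter,
        mul_assoc]
    · rw [mul_assoc, (hT g').par_comm, ← mul_assoc, (hT g).par_comm, mul_assoc]
    · rw [evenDet_mul (hT g').par_comm, oddDet_mul (hT g').par_comm, (hT g).norm, (hT g').norm]
  have hone : T 1 = 1 := isWeil_unique h2 hψ (hT _) ⟨isUnit_one, fun v => by simp,
    by rw [one_mul, mul_one],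
    by rw [evenDet, oddDet, one_mul, one_mul, add_comm (oddP F m)]⟩
  let π₀ : Representation ℂ (Matrix.symplecticGroup (Fin m) F) (oddFun F m) :=
    { toFun := fun g => (Matrix.mulVecLin (T g)).restrict fun f hf => mulVec_odd (hT g).par_comm hf
      map_one' := LinearMap.ext fun f => Subtype.ext (by
        show T 1 *ᵥ (f : (Fin m → F) → ℂ) = f
        rw [hone, Matrix.one_mulVec])
      map_mul' := fun g g' => LinearMap.ext fun f => Subtype.ext (by
        show T (g * g') *ᵥ (f : (Fin m → F) → ℂ) = T g *ᵥ (T g' *ᵥ (f : (Fin m → F) → ℂ))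
        rw [hmul, Matrix.mulVec_mulVec]) }
  set d := (Fintype.card F ^ m - 1) / 2 with hd
  let e : oddFun F m ≃ₗ[ℂ] (Fin d → ℂ) :=
    LinearEquiv.ofFinrankEq _ _ (by rw [finrank_oddFun h2, Module.finrank_fin_fun])
  let π : Representation ℂ (Matrix.symplecticGroup (Fin m) F) (Fin d → ℂ) :=
    { toFun := fun g => e.toLinearMap ∘ₗ π₀ g ∘ₗ e.symm.toLinearMap
      map_one' := LinearMap.ext fun f => by simp
      map_mul' := fun g g' => LinearMap.ext fun f => by simp }
  have hd2 : 2 ≤ d := by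
    have : 3 ^ 2 ≤ Fintype.card F ^ m :=
      (Nat.pow_le_pow_left hq 2).trans (Nat.pow_le_pow_right (by omega) hm)
    omega
  haveI : Nonempty (Fin m) := ⟨⟨0, by omega⟩⟩
  have hex : 3 ≤ m ∨ (m = 2 ∧ 3 ≤ Nat.card F) ∨ 4 ≤ Nat.card F := by
    rw [Nat.card_eq_fintype_card]; omega
  refine ⟨π, irreducible_of_bound π hd2 (Symp.commutator_eq_top (Symp.cond_of_finite (F := F) m hex)) ?_ ?_⟩
  · intro v hv
    -- the unipotent radical acts by phases
    have hphase : ∀ S : symSub F m, T (symHom F m (Multiplicative.ofAdd S)) =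
        Matrix.diagonal fun x => ψ (-((2 : F)⁻¹ * (x ⬝ᵥ ((S : Matrix (Fin m) (Fin m) F) *ᵥ x)))) := by
      intro S
      have hsymm : (S : Matrix (Fin m) (Fin m) F)ᵀ = S := S.2
      have heven := evenDet_diagonal (m := m) h2
        (d := fun x => ψ (-((2 : F)⁻¹ * (x ⬝ᵥ ((S : Matrix (Fin m) (Fin m) F) *ᵥ x))))) fun x => by
          simp [Matrix.mulVec_neg]
      refine isWeil_unique h2 hψ (hT _) ⟨?_, fun v => ?_, heven.2, ?_⟩
      · rw [Matrix.isUnit_iff_isUnit_det, Matrix.det_diagonal, isUnit_iff_ne_zero, Finset.prod_ne_zero_iff]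
        exact fun x _ => (ψ.val_isUnit _).ne_zero
      · ext x y
        rw [Matrix.mul_diagonal, Matrix.diagonal_mul]
        have ehi : hi (((symHom F m (Multiplicative.ofAdd S) : Matrix.symplecticGroup (Fin m) F) :
            Matrix _ _ F) *ᵥ v) = hi v + (S : Matrix (Fin m) (Fin m) F) *ᵥ lo v := by
          funext i
          show ((Matrix.fromBlocks 1 (S : Matrix (Fin m) (Fin m) F) 0 1) *ᵥ v) (Sum.inl i) = _
          rw [Matrix.fromBlocks_mulVec]
          simp [hi, lo]
          rfl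
        have elo : lo (((symHom F m (Multiplicative.ofAdd S) : Matrix.symplecticGroup (Fin m) F) :
            Matrix _ _ F) *ᵥ v) = lo v := by
          funext i
          show ((Matrix.fromBlocks 1 (S : Matrix (Fin m) (Fin m) F) 0 1) *ᵥ v) (Sum.inr i) = _
          rw [Matrix.fromBlocks_mulVec]
          simp [lo]
        simp only [wOp, Matrix.of_apply, ehi, elo]
        split_ifs with hy
        · rw [hy, ← AddChar.map_add_eq_mul, ← AddChar.map_add_eq_mul]
          congr 1
          have hxb : lo v ⬝ᵥ ((S : Matrix (Fin m) (Fin m) F) *ᵥ x) =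
              ((S : Matrix (Fin m) (Fin m) F) *ᵥ lo v) ⬝ᵥ x := by
            rw [dotProduct_mulVec, ← Matrix.mulVec_transpose, hsymm]
          simp only [add_dotProduct, dotProduct_add, Matrix.mulVec_add, dotProduct_comm x
            ((S : Matrix (Fin m) (Fin m) F) *ᵥ lo v), hxb,
            dotProduct_comm ((S : Matrix (Fin m) (Fin m) F) *ᵥ lo v) (lo v)]
          field_simp
          ring
        · simp
      · rw [heven.1]; simp
    set f := e.symm v with hf
    have hfix : ∀ g, T g *ᵥ (f : (Fin m → F) → ℂ) = (f : (Fin m → F) → ℂ) := fun g => by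
      have h := congrArg (fun w => ((e.symm w : oddFun F m) : (Fin m → F) → ℂ)) (hv g)
      simp only [π, MonoidHom.coe_mk, OneHom.coe_mk, LinearMap.comp_apply, LinearEquiv.coe_coe,
        LinearEquiv.symm_apply_apply] at h
      exact h
    have hf0 : (f : (Fin m → F) → ℂ) = 0 := by
      funext x
      by_contra hx
      by_cases hx0 : x = 0
      · subst hx0
        have h := f.2 0
        rw [neg_zero] at h
        exact hx (by simpa using CharZero.eq_neg_self_iff.1 h)
      obtain ⟨i, hi⟩ := Function.ne_iff.1 hx0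
      have hne : -((2 : F)⁻¹ * (x i * x i)) ≠ 0 :=
        neg_ne_zero.2 (mul_ne_zero (inv_ne_zero h2) (mul_ne_zero hi hi))
      refine hψ hne ?_
      ext t
      have h := congrFun (hfix (symHom F m (Multiplicative.ofAdd (symSquare t (Pi.single i 1))))) x
      rw [hphase, Matrix.mulVec_diagonal] at h
      have h1 := (mul_eq_right₀ hx).1 h
      rw [AddChar.mulShift_apply, AddChar.one_apply, ← h1]
      congr 1
      rw [symSquare_val, Matrix.smul_mulVec, dotProduct_smul, Matrix.vecMulVec_mulVec, single_dotProduct,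
        dotProduct_smul, dotProduct_single]
      simp
      ring
    have : f = 0 := Subtype.ext hf0
    rw [← e.apply_symm_apply v, ← hf, this, map_zero]
  · intro S hS h2S
    exact symp_odd_bound hm hodd hS h2S

end CfsgLib.MinDeg
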