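import Cfsg.Agent.MinDeg.SympLowUnique
import Cfsg.Agent.MinDeg.Weil

/-!
The four Weil representations.
-/

set_option autoImplicit false
set_option linter.style.haveILetI false
set_option linter.unusedSectionVars false

namespace CfsgLib.MinDeg.SpLow

open Matrix CfsgLib.MinDeg CfsgLib.Symp
open Module (finrank)

universe u v

variable {F : Type u} [Field F] [Fintype F] [DecidableEq F] {m : ℕ}

/-- The functions with a given parity. -/
def parFun (F : Type u) [Field F] (m : ℕ) (s : ℂ) : Submodule ℂ ((Fin m → F) → ℂ) where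
  carrier := {f | ∀ x, f (-x) = s * f x}
  add_mem' := fun {f g} hf hg x => by
    show f (-x) + g (-x) = s * (f x + g x)
    rw [hf x, hg x, mul_add]
  zero_mem' := fun x => by simp
  smul_mem' := fun c f hf x => by
    show c * f (-x) = s * (c * f x)
    rw [hf x, mul_left_comm]

theorem mem_parFun {s : ℂ} {f : (Fin m → F) → ℂ} : f ∈ parFun F m s ↔ ∀ x, f (-x) = s * f x := Iff.rfl

theorem par_mulVec_parFun {s : ℂ} {f : (Fin m → F) → ℂ} (hf : f ∈ parFun F m s) : par F m *ᵥ f = s • f :=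
  funext fun x => (par_mulVec f x).trans (hf x)

theorem mulVec_parFun {T : Op F m} (h : T * par F m = par F m * T) {s : ℂ} {f : (Fin m → F) → ℂ}
    (hf : f ∈ parFun F m s) : T *ᵥ f ∈ parFun F m s := by
  intro x
  rw [← par_mulVec (T *ᵥ f) x, Matrix.mulVec_mulVec, ← h, ← Matrix.mulVec_mulVec, par_mulVec_parFun hf,
    Matrix.mulVec_smul]
  rfl

theorem finrank_parFun (h2 : (2 : F) ≠ 0) {s : ℂ} (hs : s * s = 1) :
    (2 : ℂ) * (finrank ℂ (parFun F m s) : ℂ) = ((Fintype.card F ^ m : ℕ) : ℂ) + s := by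
  set Q : Op F m := (2 : ℂ)⁻¹ • (1 + s • par F m) with hQ
  have hP : LinearMap.IsProj (parFun F m s) (Matrix.toLin' Q) := by
    refine ⟨fun f x => ?_, fun f hf => ?_⟩
    · simp only [Matrix.toLin'_apply, hQ, Matrix.smul_mulVec, Matrix.add_mulVec, Matrix.one_mulVec,
        Pi.smul_apply, Pi.add_apply, par_mulVec, neg_neg, smul_eq_mul]
      linear_combination -(2 : ℂ)⁻¹ * f (-x) * hs
    · funext x
      simp only [Matrix.toLin'_apply, hQ, Matrix.smul_mulVec, Matrix.add_mulVec, Matrix.one_mulVec,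
        Pi.smul_apply, Pi.add_apply, par_mulVec, smul_eq_mul, hf x]
      linear_combination (2 : ℂ)⁻¹ * f x * hs
  have h := hP.trace
  rw [Matrix.trace_toLin'_eq, hQ, Matrix.trace_smul, Matrix.trace_add, Matrix.trace_smul, Matrix.trace_one,
    trace_par h2, smul_eq_mul, smul_eq_mul, mul_one, Fintype.card_fun, Fintype.card_fin] at h
  linear_combination -2 * h

theorem weil_mul (h2 : (2 : F) ≠ 0) {ψ : AddChar F ℂ} (hψ : ψ.IsPrimitive)
    {g g' : Matrix.symplecticGroup (Fin m) F} {T T' T'' : Op F m} (h : IsWeil ψ g T) (h' : IsWeil ψ g' T')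
    (h'' : IsWeil ψ (g * g') T'') : T'' = T * T' := by
  refine isWeil_unique h2 hψ h'' ⟨h.unit.mul h'.unit, fun v => ?_, ?_, ?_⟩
  · rw [Submonoid.coe_mul, ← Matrix.mulVec_mulVec, ← mul_assoc, h.inter, mul_assoc, h'.inter, mul_assoc]
  · rw [mul_assoc, h'.par_comm, ← mul_assoc, h.par_comm, mul_assoc]
  · rw [evenDet_mul h'.par_comm, oddDet_mul h'.par_comm, h.norm, h'.norm]

theorem weil_one (h2 : (2 : F) ≠ 0) {ψ : AddChar F ℂ} (hψ : ψ.IsPrimitive) {T : Op F m} (h : IsWeil ψ 1 T) :
    T = 1 := by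
  refine isWeil_unique h2 hψ h ⟨isUnit_one, fun v => by simp, by rw [one_mul, mul_one], ?_⟩
  rw [evenDet, oddDet, one_mul, one_mul, add_comm (oddP F m)]

/-- The unipotent radical acts by phases. -/
theorem weil_phase (h2 : (2 : F) ≠ 0) {ψ : AddChar F ℂ} (hψ : ψ.IsPrimitive) (S : symSub F m) {T : Op F m}
    (h : IsWeil ψ (symHom F m (Multiplicative.ofAdd S)) T) :
    T = Matrix.diagonal fun x => ψ (-((2 : F)⁻¹ * (x ⬝ᵥ ((S : Matrix (Fin m) (Fin m) F) *ᵥ x)))) := by
  have hsymm : (S : Matrix (Fin m) (Fin m) F)ᵀ = S := S.2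
  have heven := evenDet_diagonal (m := m) h2
    (d := fun x => ψ (-((2 : F)⁻¹ * (x ⬝ᵥ ((S : Matrix (Fin m) (Fin m) F) *ᵥ x))))) fun x => by
      simp [Matrix.mulVec_neg]
  refine isWeil_unique h2 hψ h ⟨?_, fun v => ?_, heven.2, ?_⟩
  · rw [Matrix.isUnit_iff_isUnit_det, Matrix.det_diagonal, isUnit_iff_ne_zero, Finset.prod_ne_zero_iff]
    exact fun x _ => (ψ.val_isUnit _).ne_zero
  · ext x y
    rw [Matrix.mul_diagonal, Matrix.diagonal_mul]
    have ehi : hi (((symHom F m (Multiplicative.ofAdd S) : Matrix.symplecticGroup (Fin m) F) :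
        Matrix _ _ F) *ᵥ v) = hi v + (S : Matrix (Fin m) (Fin m) F) *ᵥ lo v := by
      funext i
      show ((Matrix.fromBlocks 1 (S : Matrix (Fin m) (Fin m) F) 0 1) *ᵥ v) (Sum.inl i) = _
      rw [Matrix.fromBlocks_mulVec]
      simp [hi, lo]
      rfl
    have elo : lo (((symHom F m (Multiplicative.ofAdd S) : Matrix.symplecticGroup (Fin m) F) :
        Matrix _ _ F) *ᵥ v) = lo v := by
      funext i
      show ((Matrix.fromBlocks 1 (S : Matrix (Fin m) (Fin m) F) 0 1) *ᵥ v) (Sum.inr i) = _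
      rw [Matrix.fromBlocks_mulVec]
      simp [lo]
    simp only [wOp, Matrix.of_apply, ehi, elo]
    split_ifs with hy
    · rw [hy, ← AddChar.map_add_eq_mul, ← AddChar.map_add_eq_mul]
      congr 1
      have hxb : lo v ⬝ᵥ ((S : Matrix (Fin m) (Fin m) F) *ᵥ x) =
          ((S : Matrix (Fin m) (Fin m) F) *ᵥ lo v) ⬝ᵥ x := by
        rw [dotProduct_mulVec, ← Matrix.mulVec_transpose, hsymm]
      simp only [add_dotProduct, dotProduct_add, Matrix.mulVec_add, dotProduct_comm x
        ((S : Matrix (Fin m) (Fin m) F) *ᵥ lo v), hxb,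
        dotProduct_comm ((S : Matrix (Fin m) (Fin m) F) *ᵥ lo v) (lo v)]
      field_simp
      ring
    · simp
  · rw [heven.1]; simp

/-- Minus the identity acts by a multiple of the parity. -/
theorem weil_negOne (h2 : (2 : F) ≠ 0) {ψ : AddChar F ℂ} (hψ : ψ.IsPrimitive) {T : Op F m}
    (h : IsWeil ψ (negOne : Matrix.symplecticGroup (Fin m) F) T) : ∃ c : ℂ, c ≠ 0 ∧ T = c • par F m := by
  obtain ⟨c, hc⟩ : ∃ c : ℂ, par F m * T = c • 1 := ⟨_, scalar_of_commute_wOp hψ fun v => by
    have e : ((negOne : Matrix.symplecticGroup (Fin m) F) : Matrix _ _ F) *ᵥ v = -v := negOne_smul v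
    have e' := h.inter v
    rw [e] at e'
    have e'' := par_wOp (ψ := ψ) (-v)
    rw [neg_neg] at e''
    rw [mul_assoc, ← e', ← mul_assoc, e'', mul_assoc]⟩
  refine ⟨c, ?_, ?_⟩
  · rintro rfl
    rw [zero_smul] at hc
    have : T = 0 := by rw [← one_mul T, ← par_sq, mul_assoc, hc, mul_zero]
    exact not_isUnit_zero (this ▸ h.unit)
  · rw [← one_mul T, ← par_sq, mul_assoc, hc, Matrix.mul_smul, mul_one]

theorem chi_zero_vec (ψ : AddChar F ℂ) (t : F) (S : symSub F m) : chi ψ t 0 S = 1 := by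
  rw [chi_apply, zero_dotProduct, mul_zero, AddChar.map_zero_eq_one]

theorem bound_of_no_fixed (hm : 2 ≤ m) (hodd : Odd (Fintype.card F))
    (hperf : commutator (Matrix.symplecticGroup (Fin m) F) = ⊤) {V : Type v} [AddCommGroup V] [Module ℂ V]
    [FiniteDimensional ℂ V] (π : Representation ℂ (Matrix.symplecticGroup (Fin m) F) V)
    (hfix : ∀ f : V, (∀ g, π g f = f) → f = 0) (S : Subrepresentation π) (hS : S.toRepresentation.IsIrreducible) :
    (Fintype.card F ^ m - 1) / 2 ≤ finrank ℂ S.toSubmodule := by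
  refine symp_odd_bound hm hodd hS ?_
  by_contra hlt
  have hpos : 1 ≤ finrank ℂ S.toSubmodule := by
    rw [Submodule.one_le_finrank_iff]
    intro hb
    haveI := hS
    obtain ⟨a, b, hab⟩ := exists_pair_ne (Subrepresentation S.toRepresentation)
    refine hab (Subrepresentation.toSubmodule_injective (Submodule.ext fun w => ?_))
    have hw : w = 0 := Subtype.ext ((Submodule.mem_bot ℂ).1 (hb ▸ w.2))
    simp [hw]
  have h1 : finrank ℂ S.toSubmodule = 1 := by omega
  obtain ⟨v, hv, hspan⟩ := finrank_eq_one_iff'.1 h1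
  refine hv (Subtype.ext (hfix v fun g => ?_))
  let K : Subgroup (Matrix.symplecticGroup (Fin m) F) := S.toRepresentation.toHomUnits.ker
  have hsc : ∀ g, ∃ c : ℂ, ∀ w, S.toRepresentation g w = c • w := fun g => by
    obtain ⟨c, hc⟩ := hspan (S.toRepresentation g v)
    refine ⟨c, fun w => ?_⟩
    obtain ⟨a, rfl⟩ := hspan w
    rw [map_smul, ← hc, smul_comm]
  have hle : commutator (Matrix.symplecticGroup (Fin m) F) ≤ K := by
    rw [_root_.commutator_def, Subgroup.commutator_le]
    intro g _ h _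
    obtain ⟨a, ha⟩ := hsc g
    obtain ⟨b, hb⟩ := hsc h
    rw [MonoidHom.mem_ker, map_commutatorElement, commutatorElement_eq_one_iff_mul_comm, Units.ext_iff]
    refine LinearMap.ext fun w => ?_
    show S.toRepresentation g (S.toRepresentation h w) = S.toRepresentation h (S.toRepresentation g w)
    rw [ha, hb, ha, hb, smul_comm]
  have h3 : g ∈ K := hle (hperf ▸ Subgroup.mem_top g)
  rw [MonoidHom.mem_ker, Units.ext_iff] at h3
  exact congrArg Subtype.val (LinearMap.congr_fun h3 v)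

/-- The two Weil representations of a square class. -/
theorem exists_weil_pair (hm : 2 ≤ m) (hodd : Odd (Fintype.card F)) {ψ : AddChar F ℂ} (hψ : ψ.IsPrimitive)
    {t : F} (ht : t ≠ 0) (i₀ : Fin m) :
    ∃ c : ℂ, ∀ s : ℂ, (s = 1 ∨ s = -1) →
      ∃ π : Representation ℂ (Matrix.symplecticGroup (Fin m) F) (parFun F m s),
        π.IsIrreducible ∧ Ctx π ψ t (c * s) ∧ P π ψ t (dl i₀) ≠ 0 ∧
          ∀ χ, weight π (symHom F m) χ ≠ ⊥ → ∃ x, χ = chi ψ t x := by
  classical
  have h2 : (2 : F) ≠ 0 := Ring.two_ne_zero fun h => by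
    have := FiniteField.even_card_iff_char_two.1 h
    rw [Nat.odd_iff] at hodd
    omega
  have hq : 3 ≤ Fintype.card F := by
    have := Fintype.one_lt_card (α := F)
    obtain ⟨r, hr⟩ := hodd
    omega
  set ψ' := AddChar.mulShift ψ (-2 * t) with hψ'
  have hψ'p : ψ'.IsPrimitive := AddChar.IsPrimitive.of_ne_one (hψ (by simp [h2, ht]))
  choose T hT using fun g : Matrix.symplecticGroup (Fin m) F => exists_isWeil (m := m) h2 hψ'p g
  have hmul : ∀ g g', T (g * g') = T g * T g' := fun g g' => weil_mul h2 hψ'p (hT g) (hT g') (hT _)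
  have hone : T 1 = 1 := weil_one h2 hψ'p (hT 1)
  have hphase : ∀ (S : symSub F m) (f : (Fin m → F) → ℂ) (x : Fin m → F),
      (T (symHom F m (Multiplicative.ofAdd S)) *ᵥ f) x = chi ψ t x S * f x := by
    intro S f x
    rw [weil_phase h2 hψ'p S (hT _), Matrix.mulVec_diagonal, hψ', AddChar.mulShift_apply, chi_apply]
    congr 2
    field_simp
  obtain ⟨c, hc0, hc⟩ := weil_negOne h2 hψ'p (hT negOne)
  refine ⟨c, fun s hs => ?_⟩
  have hss : s * s = 1 := by rcases hs with rfl | rfl <;> norm_num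
  let π : Representation ℂ (Matrix.symplecticGroup (Fin m) F) (parFun F m s) :=
    { toFun := fun g => (Matrix.mulVecLin (T g)).restrict fun f hf => mulVec_parFun (hT g).par_comm hf
      map_one' := LinearMap.ext fun f => Subtype.ext (by
        show T 1 *ᵥ (f : (Fin m → F) → ℂ) = f
        rw [hone, Matrix.one_mulVec])
      map_mul' := fun g g' => LinearMap.ext fun f => Subtype.ext (by
        show T (g * g') *ᵥ (f : (Fin m → F) → ℂ) = T g *ᵥ (T g' *ᵥ (f : (Fin m → F) → ℂ))
        rw [hmul, Matrix.mulVec_mulVec]) }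
  have hπ : ∀ g (f : parFun F m s), ((π g f : parFun F m s) : (Fin m → F) → ℂ) = T g *ᵥ f := fun g f => rfl
  have hlow : ∀ χ, weight π (symHom F m) χ ≠ ⊥ → ∃ x, χ = chi ψ t x := by
    intro χ hχ
    obtain ⟨f, hf, hf0⟩ := Submodule.exists_mem_ne_zero_of_ne_bot hχ
    obtain ⟨x, hx⟩ := Function.ne_iff.1 (fun e => hf0 (Subtype.ext e) : (f : (Fin m → F) → ℂ) ≠ 0)
    refine ⟨x, DFunLike.ext _ _ fun S => ?_⟩
    have h1 := congrFun (congrArg Subtype.val (hf S)) x
    rw [hπ, hphase, SetLike.val_smul, Pi.smul_apply, smul_eq_mul] at h1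
    exact (mul_right_cancel₀ hx h1).symm
  have hctx : Ctx π ψ t (c * s) := by
    refine ⟨hψ, h2, ht, fun χ hχ => ?_, LinearMap.ext fun f => Subtype.ext ?_⟩
    · obtain ⟨x, hx⟩ := hlow χ hχ
      exact ⟨t, x, hx⟩
    · rw [hπ, hc, Matrix.smul_mulVec, par_mulVec_parFun f.2, smul_smul]
      rfl
  have hP : P π ψ t (dl i₀) ≠ 0 := by
    refine P_ne_zero_of_weight fun hb => ?_
    set δ : Fin m → F := dl i₀ with hδ
    have hne : -δ ≠ δ := fun e => h2 (by
      have h1 := congrFun e i₀
      rw [Pi.neg_apply, hδ, dl_self] at h1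
      linear_combination -h1)
    set f : (Fin m → F) → ℂ := fun x => (if x = δ then 1 else 0) + s * (if x = -δ then 1 else 0) with hf
    have hfm : f ∈ parFun F m s := by
      intro x
      simp only [hf, neg_eq_iff_eq_neg, neg_inj]
      rw [neg_neg, mul_add, ← mul_assoc, hss, one_mul, add_comm]
    have hw : (⟨f, hfm⟩ : parFun F m s) ∈ weight π (symHom F m) (chi ψ t δ) := by
      intro S
      refine Subtype.ext (funext fun x => ?_)
      rw [hπ, hphase]
      show chi ψ t x S * f x = chi ψ t δ S * f x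
      by_cases h1 : x = δ
      · rw [h1]
      · by_cases h3 : x = -δ
        · rw [h3, chi_neg]
        · simp [hf, h1, h3]
    rw [hb, Submodule.mem_bot] at hw
    have h4 := congrFun (congrArg Subtype.val hw) δ
    simp [hf, Ne.symm hne] at h4
  refine ⟨π, ?_, hctx, hP, hlow⟩
  -- irreducibility
  haveI : Nonempty (Fin m) := ⟨i₀⟩
  have hperf := Symp.commutator_eq_top
    (Symp.cond_of_finite (F := F) m (by rw [Nat.card_eq_fintype_card]; omega))
  have hfix : ∀ f : parFun F m s, (∀ g, π g f = f) → f = 0 := by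
    intro f hf
    have hg : ∀ g, T g *ᵥ (f : (Fin m → F) → ℂ) = f := fun g => congrArg Subtype.val (hf g)
    have hsupp : ∀ x, x ≠ 0 → (f : (Fin m → F) → ℂ) x = 0 := by
      intro x hx
      by_contra hfx
      have e : chi ψ t x = chi ψ t 0 := DFunLike.ext _ _ fun S => by
        have h1 := congrFun (hg (symHom F m (Multiplicative.ofAdd S))) x
        rw [hphase] at h1
        rw [chi_zero_vec]
        exact (mul_eq_right₀ hfx).1 h1
      rcases chi_eq_iff hψ h2 ht e with e' | e'
      · exact hx e'.symm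
      · exact hx (neg_eq_zero.1 e'.symm)
    refine Subtype.ext (funext fun x => ?_)
    by_cases hx : x = 0
    swap
    · exact hsupp x hx
    subst hx
    set g := wEl i₀ (1 : F) with hgdef
    have hv : ((g : Matrix.symplecticGroup (Fin m) F) : Matrix _ _ F) *ᵥ (pt i₀ : Fin m ⊕ Fin m → F) =
        vr (dl i₀) := (wEl_pt (i₀ := i₀) one_ne_zero).trans (one_smul _ _)
    have h1 := congrArg (fun M : Op F m => M *ᵥ (f : (Fin m → F) → ℂ)) ((hT g).inter (pt i₀))
    simp only [← Matrix.mulVec_mulVec, hg, hv] at h1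
    have hlo : lo (pt i₀ : Fin m ⊕ Fin m → F) = 0 := funext fun i => by simp [vl]
    have hhi : hi (pt i₀ : Fin m ⊕ Fin m → F) = dl i₀ := funext fun i => by simp [vl, Pi.single_apply]
    have hpt : wOp ψ' (pt i₀ : Fin m ⊕ Fin m → F) *ᵥ (f : (Fin m → F) → ℂ) = (f : (Fin m → F) → ℂ) := by
      funext x
      rw [Matrix.mulVec, dotProduct, Finset.sum_eq_single (0 : Fin m → F)]
      · by_cases hx : x = 0
        · subst hx
          simp [wOp, hlo, hhi]
        · rw [hsupp x hx]
          simp [wOp, hlo, hhi, Ne.symm hx]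
      · intro b _ hb; rw [hsupp b hb, mul_zero]
      · simp
    rw [hpt, hg] at h1
    have h3 := congrFun h1 0
    rw [Matrix.mulVec, dotProduct, Finset.sum_eq_single (0 : Fin m → F)] at h3
    · rw [← h3]
      simp [wOp, lo, hi, vr]
      intro h
      exact absurd (congrFun h i₀) (by simp)
    · intro b _ hb; rw [hsupp b hb, mul_zero]
    · simp
  have hdim := bound_of_no_fixed hm hodd hperf π hfix
  have hdimW : 2 * finrank ℂ (parFun F m s) ≤ Fintype.card F ^ m + 1 ∧
      0 < finrank ℂ (parFun F m s) := by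
    have h := finrank_parFun (m := m) h2 hss
    have h1 : 9 ≤ Fintype.card F ^ m :=
      (Nat.pow_le_pow_left hq 2).trans (Nat.pow_le_pow_right (by omega) hm)
    rcases hs with rfl | rfl
    · have h' : ((2 * finrank ℂ (parFun F m (1 : ℂ)) : ℕ) : ℂ) = ((Fintype.card F ^ m + 1 : ℕ) : ℂ) := by
        push_cast at h ⊢; linear_combination h
      have := Nat.cast_injective h'
      omega
    · have h' : ((2 * finrank ℂ (parFun F m (-1 : ℂ)) + 1 : ℕ) : ℂ) = ((Fintype.card F ^ m : ℕ) : ℂ) := by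
        push_cast at h ⊢; linear_combination h
      have := Nat.cast_injective h'
      omega
  haveI : Nontrivial (Subrepresentation π) := by
    refine ⟨⟨⊥, ⊤, fun e => ?_⟩⟩
    have h1 : (⊥ : Submodule ℂ (parFun F m s)) = ⊤ := congrArg Subrepresentation.toSubmodule e
    have h2' := congrArg (fun W : Submodule ℂ (parFun F m s) => finrank ℂ W) h1
    simp only [finrank_bot, finrank_top] at h2'
    omega
  refine ⟨fun S => ?_⟩
  by_cases hS : S.toSubmodule = ⊥
  · exact Or.inl (Subrepresentation.toSubmodule_injective hS)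
  refine Or.inr (Subrepresentation.toSubmodule_injective ?_)
  obtain ⟨e, he1, he2, he3⟩ := exists_equivariant π S.toSubmodule S.apply_mem_toSubmodule
  by_contra hne
  have hker : LinearMap.ker e ≠ ⊥ := by
    intro hb
    refine hne (eq_top_iff.2 fun v _ => ?_)
    have h1 : e (e v - v) = 0 := by rw [map_sub, he2 _ (he1 v), sub_self]
    have h3 : e v - v = 0 := LinearMap.ker_eq_bot'.1 hb _ h1
    rw [← sub_eq_zero.1 h3]
    exact he1 v
  have hkinv : ∀ g, ∀ v ∈ LinearMap.ker e, π g v ∈ LinearMap.ker e := fun g v hv => by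
    rw [LinearMap.mem_ker] at hv ⊢
    rw [← LinearMap.comp_apply, he3, LinearMap.comp_apply, hv, map_zero]
  obtain ⟨A, hAS, hA0, hA⟩ := exists_irreducible_sub π S.apply_mem_toSubmodule hS
  obtain ⟨B, hBK, hB0, hB⟩ := exists_irreducible_sub π hkinv hker
  have hdisj : A.toSubmodule ⊓ B.toSubmodule = ⊥ := (Submodule.eq_bot_iff _).2 fun v hv => by
    have h1 := he2 v (hAS hv.1)
    rw [LinearMap.mem_ker.1 (hBK hv.2)] at h1
    exact h1.symm
  have hsum := Submodule.finrank_sup_add_finrank_inf_eq A.toSubmodule B.toSubmodule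
  rw [hdisj, finrank_bot, add_zero] at hsum
  have hle : finrank ℂ (A.toSubmodule ⊔ B.toSubmodule : Submodule ℂ (parFun F m s)) ≤
      finrank ℂ (parFun F m s) := Submodule.finrank_le _
  have hA' := hdim A hA
  have hB' := hdim B hB
  have h9 : 9 ≤ Fintype.card F ^ m :=
    (Nat.pow_le_pow_left hq 2).trans (Nat.pow_le_pow_right (by omega) hm)
  omega

end CfsgLib.MinDeg.SpLow
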