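import Cfsg.Agent.Unitary.Simple

/-!
A model of the standard unitary group in a basis of hyperbolic pairs.
-/

set_option autoImplicit false
set_option linter.style.haveILetI false

namespace CfsgLib.MinDeg

open Matrix CfsgLib.Forms CfsgLib.Unitary

variable {F : Type*} [Field F] {q n m d : ℕ}

/-- The index type of the model. -/
abbrev UIdx (m d : ℕ) := (Fin m ⊕ Fin d) ⊕ Fin m

/-- The block triangular matrices. -/
def tri (A : Matrix (Fin m) (Fin m) F) (β : Matrix (Fin m) (Fin d) F) (γ : Matrix (Fin d) (Fin d) F)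
    (S : Matrix (Fin m) (Fin m) F) (φ : Matrix (Fin d) (Fin m) F) (B : Matrix (Fin m) (Fin m) F) :
    Matrix (UIdx m d) (UIdx m d) F :=
  Matrix.fromBlocks (Matrix.fromBlocks A β 0 γ) (Matrix.fromRows S φ) 0 B

theorem tri_mul (A A' : Matrix (Fin m) (Fin m) F) (β β' : Matrix (Fin m) (Fin d) F)
    (γ γ' : Matrix (Fin d) (Fin d) F) (S S' : Matrix (Fin m) (Fin m) F) (φ φ' : Matrix (Fin d) (Fin m) F)
    (B B' : Matrix (Fin m) (Fin m) F) :
    tri A β γ S φ B * tri A' β' γ' S' φ' B' =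
      tri (A * A') (A * β' + β * γ') (γ * γ') (A * S' + β * φ' + S * B') (γ * φ' + φ * B') (B * B') := by
  rw [tri, tri, tri, Matrix.fromBlocks_multiply, Matrix.fromBlocks_multiply, Matrix.fromBlocks_mul_fromRows,
    Matrix.fromRows_mul]
  simp only [Matrix.mul_zero, Matrix.zero_mul, add_zero, zero_add, Matrix.fromRows_mul]
  rw [Matrix.fromBlocks_inj]
  refine ⟨?_, ?_, rfl, rfl⟩
  · ext (i | i) j <;> simp
  ext (i | i) j <;> simp

theorem det_tri (A : Matrix (Fin m) (Fin m) F) (β : Matrix (Fin m) (Fin d) F) (γ : Matrix (Fin d) (Fin d) F)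
    (S : Matrix (Fin m) (Fin m) F) (φ : Matrix (Fin d) (Fin m) F) (B : Matrix (Fin m) (Fin m) F) :
    (tri A β γ S φ B).det = A.det * γ.det * B.det := by
  rw [tri, Matrix.det_fromBlocks_zero₂₁, Matrix.det_fromBlocks_zero₂₁]

/-- The isotropic part. -/
def pE (x : UIdx m d → F) : Fin m → F := fun i => x (Sum.inl (Sum.inl i))

/-- The anisotropic part. -/
def pD (x : UIdx m d → F) : Fin d → F := fun i => x (Sum.inl (Sum.inr i))

/-- The dual isotropic part. -/
def pF (x : UIdx m d → F) : Fin m → F := fun i => x (Sum.inr i)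

theorem tri_mulVec (A : Matrix (Fin m) (Fin m) F) (β : Matrix (Fin m) (Fin d) F) (γ : Matrix (Fin d) (Fin d) F)
    (S : Matrix (Fin m) (Fin m) F) (φ : Matrix (Fin d) (Fin m) F) (B : Matrix (Fin m) (Fin m) F)
    (x : UIdx m d → F) :
    pE (tri A β γ S φ B *ᵥ x) = A *ᵥ pE x + β *ᵥ pD x + S *ᵥ pF x ∧
      pD (tri A β γ S φ B *ᵥ x) = γ *ᵥ pD x + φ *ᵥ pF x ∧
      pF (tri A β γ S φ B *ᵥ x) = B *ᵥ pF x := by
  refine ⟨?_, ?_, ?_⟩ <;> funext i <;>
    simp [pE, pD, pF, tri, Matrix.mulVec, dotProduct, Fintype.sum_sum_type, add_assoc]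

/-- Conjugate a vector. -/
def sigV {k : Type*} (q : ℕ) (v : k → F) : k → F := fun i => v i ^ q

/-- The form of the model. -/
def jForm (q : ℕ) (x y : UIdx m d → F) : F :=
  pE x ⬝ᵥ sigV q (pF y) + pF x ⬝ᵥ sigV q (pE y) + pD x ⬝ᵥ sigV q (pD y)

/-- Membership in the model group. -/
def IsIso (q : ℕ) (N : Matrix (UIdx m d) (UIdx m d) F) : Prop :=
  N.det = 1 ∧ ∀ x y, jForm q (N *ᵥ x) (N *ᵥ y) = jForm q x y

theorem IsIso.mul {N N' : Matrix (UIdx m d) (UIdx m d) F} (h : IsIso q N) (h' : IsIso q N') :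
    IsIso q (N * N') :=
  ⟨by rw [Matrix.det_mul, h.1, h'.1, mul_one], fun x y => by
    rw [← Matrix.mulVec_mulVec, ← Matrix.mulVec_mulVec, h.2, h'.2]⟩

variable [Finite F] (hF : Nat.card F = q ^ 2)
include hF

theorem exists_frame (hn : n = 2 * m + d) :
    ∃ L : (UIdx m d → F) ≃ₗ[F] (Fin n → F), ∀ x y, Cfsg.hermForm n F q (L x) (L y) = jForm q x y := by
  classical
  obtain ⟨t, ht⟩ := exists_add_σ_eq_one (frobQ_ne_id hF) (frobQ_invol hF)
  set s := -t with hs
  have hss : s + s ^ q = -1 := by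
    have h1 : frobQ hF s = -frobQ hF t := map_neg _ _
    rw [frobQ_apply, frobQ_apply] at h1
    rw [frobQ_apply] at ht
    rw [h1, hs, ← ht]
    ring
  obtain ⟨α, hα⟩ : ∃ α : F, α ^ (q + 1) = -1 := by
    have h1 : frobQ hF (-1 : F) = -1 := by rw [map_neg, map_one]
    obtain ⟨⟨α, hα⟩⟩ := (Nat.card_pos_iff.1 (show 0 < Nat.card {x : F // x ^ (q + 1) = -1} by
      rw [card_norm_fiber hF (μ := (-1 : F)) (neg_ne_zero.2 one_ne_zero) h1]; omega)).1
    exact ⟨α, hα⟩
  have hα0 : α ≠ 0 := fun h => by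
    rw [h, zero_pow (by omega)] at hα
    exact one_ne_zero (neg_eq_zero.1 hα.symm)
  let e : Fin n ≃ (Fin m × Fin 2) ⊕ Fin d :=
    (Fintype.equivFinOfCardEq (by simp [hn, mul_comm])).symm
  let P : (UIdx m d → F) →ₗ[F] ((Fin m × Fin 2) ⊕ Fin d → F) :=
    { toFun := fun x => Sum.elim
        (fun p => ![pE x p.1 + pF x p.1 * (1 + s), α * (pE x p.1 + pF x p.1 * s)] p.2) (pD x)
      map_add' := fun x y => by
        funext j
        rcases j with ⟨i, k⟩ | k
        · fin_cases k <;> simp [pE, pF] <;> ring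
        · simp [pD]
      map_smul' := fun c x => by
        funext j
        rcases j with ⟨i, k⟩ | k
        · fin_cases k <;> simp [pE, pF] <;> ring
        · simp [pD] }
  have hP : Function.Injective P := by
    intro x y h
    have h0 : ∀ i, pE x i + pF x i * (1 + s) = pE y i + pF y i * (1 + s) := fun i => congrFun h (Sum.inl (i, 0))
    have h1 : ∀ i, α * (pE x i + pF x i * s) = α * (pE y i + pF y i * s) := fun i => congrFun h (Sum.inl (i, 1))
    funext j
    rcases j with (i | k) | i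
    · have a := mul_left_cancel₀ hα0 (h1 i)
      have b : pF x i = pF y i := by linear_combination h0 i - a
      show pE x i = pE y i
      rw [b] at a
      exact add_right_cancel a
    · exact congrFun h (Sum.inr k)
    · show pF x i = pF y i
      linear_combination h0 i - mul_left_cancel₀ hα0 (h1 i)
  let Lm : (UIdx m d → F) →ₗ[F] (Fin n → F) := (LinearMap.funLeft F F e).comp P
  have hinj : Function.Injective Lm := fun x y h => hP (funext fun j => by
    have := congrFun h (e.symm j)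
    simpa [Lm, LinearMap.funLeft_apply] using this)
  refine ⟨LinearEquiv.ofInjectiveOfFinrankEq Lm hinj (by simp [hn, two_mul]; ring), fun x y => ?_⟩
  show Cfsg.hermForm n F q (Lm x) (Lm y) = _
  simp only [Cfsg.hermForm, Lm, LinearMap.comp_apply, LinearMap.funLeft_apply]
  rw [e.sum_comp (fun j => P x j * P y j ^ q), Fintype.sum_sum_type, Fintype.sum_prod_type]
  simp only [P, LinearMap.coe_mk, AddHom.coe_mk, Sum.elim_inl, Sum.elim_inr, Fin.sum_univ_two,
    Matrix.cons_val_zero, Matrix.cons_val_one, jForm, dotProduct, sigV]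
  rw [← Finset.sum_add_distrib]
  congr 1
  refine Finset.sum_congr rfl fun i _ => ?_
  have hadd : ∀ a b : F, (a + b) ^ q = a ^ q + b ^ q := fun a b => by
    rw [← frobQ_apply hF, ← frobQ_apply hF, ← frobQ_apply hF, map_add]
  rw [mul_pow, hadd, hadd, mul_pow, mul_pow, hadd, one_pow]
  linear_combination (pE x i + pF x i * s) * (pE y i ^ q + pF y i ^ q * s ^ q) * hα +
    pF x i * pF y i ^ q * hss

/-- A member of the model as an element of `SU`. -/
noncomputable def suOf (L : (UIdx m d → F) ≃ₗ[F] (Fin n → F))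
    (hL : ∀ x y, Cfsg.hermForm n F q (L x) (L y) = jForm q x y) (N : Matrix (UIdx m d) (UIdx m d) F)
    (hN : IsIso q N) : Cfsg.SU n F q :=
  ⟨⟨LinearMap.toMatrix' (L.toLinearMap ∘ₗ Matrix.toLin' N ∘ₗ L.symm.toLinearMap), by
      rw [LinearMap.det_toMatrix', LinearMap.det_conj, LinearMap.det_toLin', hN.1]⟩,
    fun u v => by
      change Cfsg.hermForm n F q (LinearMap.toMatrix' (L.toLinearMap ∘ₗ Matrix.toLin' N ∘ₗ L.symm.toLinearMap) *ᵥ u)
        (LinearMap.toMatrix' (L.toLinearMap ∘ₗ Matrix.toLin' N ∘ₗ L.symm.toLinearMap) *ᵥ v) = _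
      rw [LinearMap.toMatrix'_mulVec, LinearMap.toMatrix'_mulVec]
      simp only [LinearMap.comp_apply, LinearEquiv.coe_coe, Matrix.toLin'_apply]
      rw [hL, hN.2, ← hL, L.apply_symm_apply, L.apply_symm_apply]⟩

omit [Finite F] hF in
theorem suOf_mul (L : (UIdx m d → F) ≃ₗ[F] (Fin n → F))
    (hL : ∀ x y, Cfsg.hermForm n F q (L x) (L y) = jForm q x y) {N N' : Matrix (UIdx m d) (UIdx m d) F}
    (hN : IsIso q N) (hN' : IsIso q N') :
    suOf L hL N hN * suOf L hL N' hN' = suOf L hL (N * N') (hN.mul hN') := by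
  refine Subtype.ext (Subtype.ext ?_)
  show LinearMap.toMatrix' _ * LinearMap.toMatrix' _ = LinearMap.toMatrix' _
  rw [← LinearMap.toMatrix'_comp, Matrix.toLin'_mul]
  congr 1
  ext x
  simp

omit [Finite F] hF in
theorem suOf_congr (L : (UIdx m d → F) ≃ₗ[F] (Fin n → F))
    (hL : ∀ x y, Cfsg.hermForm n F q (L x) (L y) = jForm q x y) {N N' : Matrix (UIdx m d) (UIdx m d) F}
    (hN : IsIso q N) (hN' : IsIso q N') (h : N = N') : suOf L hL N hN = suOf L hL N' hN' := by
  subst h; rfl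

theorem suOf_not_central (hn : 2 ≤ n) (L : (UIdx m d → F) ≃ₗ[F] (Fin n → F))
    (hL : ∀ x y, Cfsg.hermForm n F q (L x) (L y) = jForm q x y) {N : Matrix (UIdx m d) (UIdx m d) F}
    (hN : IsIso q N) {i j : UIdx m d} (hij : i ≠ j) (he : N i j ≠ 0) :
    suOf L hL N hN ∉ Subgroup.center (Cfsg.SU n F q) := by
  classical
  intro hc
  obtain ⟨a, ha⟩ := (mem_center_SU_iff hF hn).1 hc
  have h1 : ∀ x, N *ᵥ x = a • x := fun x => by
    refine L.injective ?_
    have h2 := congrArg (fun M : Matrix (Fin n) (Fin n) F => M *ᵥ L x) ha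
    simp only [suOf, suMat, LinearMap.toMatrix'_mulVec, LinearMap.comp_apply, LinearEquiv.coe_coe,
      L.symm_apply_apply, Matrix.toLin'_apply] at h2
    rw [map_smul]
    refine Eq.trans ?_ (h2.trans ?_)
    · simp [Matrix.SpecialLinearGroup.toGL]
    · simp [Matrix.smul_mulVec]
  have h2 := congrFun (h1 (Pi.single j 1)) i
  simp [hij] at h2
  exact he h2

end CfsgLib.MinDeg
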