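import Cfsg.Agent.MinDeg.Weight
import Cfsg.Agent.MinDeg.Faithful
import Cfsg.Agent.MinDeg.SesqOrbit
import Cfsg.Agent.MinDeg.QuadOrbit
import Cfsg.Agent.MinDeg.UnitaryModel
import Cfsg.Agent.PermChar.Vectors

/-!
Lower bounds for the degrees of non-trivial representations of special unitary groups, from the characters
of the centre of the unipotent radical of the stabiliser of a maximal totally isotropic subspace.
-/

set_option autoImplicit false
set_option linter.style.haveILetI false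

namespace CfsgLib.MinDeg

open Matrix Module CfsgLib.Forms CfsgLib.Unitary

variable {F : Type*} [Field F] [Finite F] {q n m d : ℕ} (hF : Nat.card F = q ^ 2)

omit [Finite F] in
theorem adj_dot {k l : Type*} [Fintype k] [Fintype l] (M : Matrix k l F) (v : l → F) (w : k → F) :
    (M *ᵥ v) ⬝ᵥ w = v ⬝ᵥ (Mᵀ *ᵥ w) := by
  rw [dotProduct_comm, dotProduct_mulVec, ← Matrix.mulVec_transpose, dotProduct_comm]

include hF in
theorem sigV_mulVec {k l : Type*} [Fintype l] (M : Matrix k l F) (v : l → F) :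
    sigV q (M *ᵥ v) = M.map (frobQ hF) *ᵥ sigV q v := by
  funext i
  exact RingHom.map_mulVec (frobQ hF) M v i

include hF in
theorem sigV_add {k : Type*} (v w : k → F) : sigV q (v + w) = sigV q v + sigV q w := by
  funext i; exact add_pow_q hF _ _

include hF in
theorem sigV_neg {k : Type*} (v : k → F) : sigV q (-v) = -sigV q v := by
  funext i; exact map_neg (frobQ hF) (v i)

/-- The skew-Hermitian matrices. -/
def skSub (m : ℕ) : AddSubgroup (Matrix (Fin m) (Fin m) F) where
  carrier := {S | Sᵀ + S.map (frobQ hF) = 0}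
  add_mem' := fun {a b} ha hb => by
    show (a + b)ᵀ + (a + b).map (frobQ hF) = 0
    rw [Matrix.transpose_add, Matrix.map_add _ (map_add _), add_add_add_comm, ha, hb, add_zero]
  zero_mem' := by
    show (0 : Matrix (Fin m) (Fin m) F)ᵀ + (0 : Matrix (Fin m) (Fin m) F).map (frobQ hF) = 0
    rw [Matrix.transpose_zero, Matrix.map_zero _ (map_zero _), add_zero]
  neg_mem' := fun {a} ha => by
    show (-a)ᵀ + (-a).map (frobQ hF) = 0
    rw [Matrix.transpose_neg, show (-a).map (frobQ hF) = -(a.map (frobQ hF)) from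
      Matrix.ext fun i j => map_neg (frobQ hF) (a i j), ← neg_add, ha, neg_zero]

noncomputable instance fintypeSkSub (m : ℕ) : Fintype (skSub hF m) := Fintype.ofFinite _

include hF in
theorem isIso_uni {S : Matrix (Fin m) (Fin m) F} (hS : Sᵀ + S.map (frobQ hF) = 0) :
    IsIso (d := d) q (tri 1 0 1 S 0 1) := by
  refine ⟨by simp [det_tri], fun x y => ?_⟩
  obtain ⟨h1, h2, h3⟩ := tri_mulVec 1 (0 : Matrix (Fin m) (Fin d) F) 1 S 0 1 x
  obtain ⟨k1, k2, k3⟩ := tri_mulVec 1 (0 : Matrix (Fin m) (Fin d) F) 1 S 0 1 y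
  simp only [Matrix.one_mulVec, Matrix.zero_mulVec, add_zero] at h1 h2 h3 k1 k2 k3
  have key : (S *ᵥ pF x) ⬝ᵥ sigV q (pF y) + pF x ⬝ᵥ sigV q (S *ᵥ pF y) = 0 := by
    rw [adj_dot, sigV_mulVec hF, ← dotProduct_add, ← Matrix.add_mulVec, hS, Matrix.zero_mulVec, dotProduct_zero]
  simp only [jForm, h1, h2, h3, k1, k2, k3, sigV_add hF, add_dotProduct, dotProduct_add]
  linear_combination key

include hF in
theorem isIso_levi {A B : Matrix (Fin m) (Fin m) F} {γ : Matrix (Fin d) (Fin d) F}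
    (h1 : Aᵀ * B.map (frobQ hF) = 1) (h2 : Bᵀ * A.map (frobQ hF) = 1) (h3 : γᵀ * γ.map (frobQ hF) = 1)
    (hdet : A.det * γ.det * B.det = 1) : IsIso q (tri A 0 γ 0 0 B) := by
  refine ⟨by rw [det_tri, hdet], fun x y => ?_⟩
  obtain ⟨a1, a2, a3⟩ := tri_mulVec A 0 γ 0 0 B x
  obtain ⟨b1, b2, b3⟩ := tri_mulVec A 0 γ 0 0 B y
  simp only [Matrix.zero_mulVec, add_zero] at a1 a2 b1 b2
  simp only [jForm, a1, a2, a3, b1, b2, b3, sigV_mulVec hF, adj_dot, Matrix.mulVec_mulVec, h1, h2, h3,
    Matrix.one_mulVec]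

/-- The element of the radical over a vector. -/
def radMat (s : F) (β : Matrix (Fin m) (Fin d) F) : Matrix (UIdx m d) (UIdx m d) F :=
  tri 1 β 1 (s • (β * (β.map (frobQ hF))ᵀ)) (-(β.map (frobQ hF))ᵀ) 1

include hF in
theorem isIso_rad {s : F} (hs : s + frobQ hF s = -1) (β : Matrix (Fin m) (Fin d) F) :
    IsIso q (radMat hF s β) := by
  refine ⟨by simp [radMat, det_tri], fun x y => ?_⟩
  obtain ⟨a1, a2, a3⟩ := tri_mulVec 1 β 1 (s • (β * (β.map (frobQ hF))ᵀ)) (-(β.map (frobQ hF))ᵀ) 1 x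
  obtain ⟨b1, b2, b3⟩ := tri_mulVec 1 β 1 (s • (β * (β.map (frobQ hF))ᵀ)) (-(β.map (frobQ hF))ᵀ) 1 y
  simp only [Matrix.one_mulVec] at a1 a2 a3 b1 b2 b3
  have hσσ : ∀ {k l : Type} (M : Matrix k l F), (M.map (frobQ hF)).map (frobQ hF) = M := fun M =>
    Matrix.ext fun i j => frobQ_invol hF (M i j)
  have hφσ : (-(β.map (frobQ hF))ᵀ).map (frobQ hF) = -βᵀ := by
    refine Matrix.ext fun i j => ?_
    simp only [Matrix.map_apply, Matrix.neg_apply, Matrix.transpose_apply, map_neg, frobQ_invol]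
  have hSσ : (s • (β * (β.map (frobQ hF))ᵀ)).map (frobQ hF) = frobQ hF s • (β.map (frobQ hF) * βᵀ) := by
    rw [Matrix.map_smul' _ s _ (map_mul _), Matrix.map_mul, Matrix.transpose_map, hσσ]
  have key : pF x ⬝ᵥ ((s • (β.map (frobQ hF) * βᵀ) + frobQ hF s • (β.map (frobQ hF) * βᵀ) +
      β.map (frobQ hF) * βᵀ) *ᵥ sigV q (pF y)) = 0 := by
    rw [← add_smul, hs, neg_one_smul, neg_add_cancel, Matrix.zero_mulVec, dotProduct_zero]
  rw [radMat]
  simp only [jForm, a1, a2, a3, b1, b2, b3, sigV_add hF, add_dotProduct, dotProduct_add, sigV_mulVec hF,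
    adj_dot, hφσ, hSσ, sigV_neg hF, hσσ, Matrix.transpose_map, Matrix.transpose_smul, Matrix.transpose_mul, Matrix.transpose_transpose,
    Matrix.transpose_neg, Matrix.neg_mulVec, Matrix.mulVec_neg, dotProduct_neg, neg_dotProduct,
    Matrix.mulVec_mulVec, neg_mul, mul_neg, neg_neg, Matrix.mulVec_add]
  simp only [Matrix.add_mulVec, dotProduct_add] at key
  linear_combination key

/-- The central part of the radical as a homomorphism. -/
noncomputable def uHom (L : (UIdx m d → F) ≃ₗ[F] (Fin n → F))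
    (hL : ∀ x y, Cfsg.hermForm n F q (L x) (L y) = jForm q x y) :
    Multiplicative (skSub hF m) →* Cfsg.SU n F q :=
  MonoidHom.mk' (fun S => suOf L hL (tri 1 0 1 ((Multiplicative.toAdd S : skSub hF m) : Matrix (Fin m) (Fin m) F) 0 1)
      (isIso_uni hF (Multiplicative.toAdd S : skSub hF m).2)) fun S T => by
    rw [suOf_mul]
    refine suOf_congr L hL _ _ ?_
    rw [tri_mul]
    simp [add_comm]

theorem uHom_apply (L : (UIdx m d → F) ≃ₗ[F] (Fin n → F))
    (hL : ∀ x y, Cfsg.hermForm n F q (L x) (L y) = jForm q x y) (S : skSub hF m) :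
    uHom hF L hL (Multiplicative.ofAdd S) =
      suOf L hL (tri 1 0 1 (S : Matrix (Fin m) (Fin m) F) 0 1) (isIso_uni hF S.2) := rfl

/-- `c u σ(v)ᵗ - σ(c) v σ(u)ᵗ`. -/
def herPair (c : F) (u v : Fin m → F) : skSub hF m :=
  ⟨c • Matrix.vecMulVec u (sigV q v) - frobQ hF c • Matrix.vecMulVec v (sigV q u), by
    show _ + _ = (0 : Matrix (Fin m) (Fin m) F)
    ext i j
    simp only [Matrix.add_apply, Matrix.transpose_apply, Matrix.map_apply, Matrix.sub_apply, Matrix.smul_apply,
      Matrix.vecMulVec_apply, smul_eq_mul, map_sub, map_mul, sigV, ← frobQ_apply hF, frobQ_invol,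
      Matrix.zero_apply]
    ring⟩

theorem herPair_val (c : F) (u v : Fin m → F) : (herPair hF c u v : Matrix (Fin m) (Fin m) F) =
    c • Matrix.vecMulVec u (sigV q v) - frobQ hF c • Matrix.vecMulVec v (sigV q u) := rfl

theorem herPair_apply (c : F) (u v : Fin m → F) (i j : Fin m) :
    (herPair hF c u v : Matrix (Fin m) (Fin m) F) i j =
      c * (u i * v j ^ q) - c ^ q * (v i * u j ^ q) := rfl

/-- Translate a character by a matrix. -/
def skPush (χ : AddChar (skSub hF m) ℂ) (M : Matrix (Fin m) (Fin m) F) : AddChar (skSub hF m) ℂ :=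
  χ.compAddMonoidHom
    { toFun := fun S => ⟨M * (S : Matrix (Fin m) (Fin m) F) * (M.map (frobQ hF))ᵀ, by
        show _ + _ = (0 : Matrix (Fin m) (Fin m) F)
        have hS : (S : Matrix (Fin m) (Fin m) F)ᵀ + (S : Matrix (Fin m) (Fin m) F).map (frobQ hF) = 0 := S.2
        have hσσ : (Mᵀ.map (frobQ hF)).map (frobQ hF) = Mᵀ := Matrix.ext fun i j => frobQ_invol hF (M j i)
        rw [Matrix.transpose_mul, Matrix.transpose_mul, Matrix.transpose_transpose, Matrix.map_mul,
          Matrix.map_mul, ← Matrix.transpose_map, hσσ, ← mul_assoc, ← add_mul, ← mul_add, hS, mul_zero,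
          zero_mul]⟩
      map_zero' := Subtype.ext (by simp)
      map_add' := fun S T => Subtype.ext (by simp [Matrix.mul_add, Matrix.add_mul]) }

theorem skPush_her (χ : AddChar (skSub hF m) ℂ) (M : Matrix (Fin m) (Fin m) F) (c : F) (u v : Fin m → F) :
    skPush hF χ M (herPair hF c u v) = χ (herPair hF c (M *ᵥ u) (M *ᵥ v)) := by
  refine congrArg χ (Subtype.ext ?_)
  show M * (herPair hF c u v : Matrix (Fin m) (Fin m) F) * (M.map (frobQ hF))ᵀ = _
  simp only [herPair_val, Matrix.mul_sub, Matrix.sub_mul, Matrix.mul_smul, Matrix.smul_mul, Matrix.mul_vecMulVec,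
    Matrix.vecMulVec_mul, Matrix.vecMul_transpose, sigV_mulVec hF]

/-- Conjugating weight spaces by the Levi factor. -/
theorem weight_skPush_le (L : (UIdx m d → F) ≃ₗ[F] (Fin n → F))
    (hL : ∀ x y, Cfsg.hermForm n F q (L x) (L y) = jForm q x y) {V : Type*} [AddCommGroup V] [Module ℂ V]
    [FiniteDimensional ℂ V] (ρ : Representation ℂ (Cfsg.SU n F q) V) (χ : AddChar (skSub hF m) ℂ)
    (g : (Fin m → F) ≃ₗ[F] (Fin m → F)) {γ : Matrix (Fin d) (Fin d) F} (hγ : γᵀ * γ.map (frobQ hF) = 1)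
    (hdet : (LinearMap.toMatrix' g.symm.toLinearMap).det * γ.det *
      frobQ hF (LinearMap.toMatrix' g.toLinearMap).det = 1) :
    finrank ℂ (weight ρ (uHom hF L hL) χ) ≤
      finrank ℂ (weight ρ (uHom hF L hL) (skPush hF χ (LinearMap.toMatrix' g.toLinearMap))) := by
  set M := LinearMap.toMatrix' g.toLinearMap with hM
  set N := LinearMap.toMatrix' g.symm.toLinearMap with hN
  have hMN : M * N = 1 := by
    rw [hM, hN, ← LinearMap.toMatrix'_comp]
    simp
  have hNM : N * M = 1 := mul_eq_one_comm.1 hMN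
  have hσσ : (Mᵀ.map (frobQ hF)).map (frobQ hF) = Mᵀ := Matrix.ext fun i j => frobQ_invol hF (M j i)
  have hiso : IsIso q (tri N (0 : Matrix (Fin m) (Fin d) F) γ 0 0 (M.map (frobQ hF))ᵀ) := by
    refine isIso_levi hF ?_ ?_ hγ ?_
    · rw [← Matrix.transpose_map, hσσ, ← Matrix.transpose_mul, hMN, Matrix.transpose_one]
    · rw [Matrix.transpose_transpose, ← Matrix.map_mul, hMN, Matrix.map_one _ (map_zero _) (map_one _)]
    · rw [Matrix.det_transpose, show (M.map (frobQ hF)).det = frobQ hF M.det from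
        (RingHom.map_det (frobQ hF) M).symm]
      exact hdet
  refine finrank_weight_conj ρ (uHom hF L hL) (g := suOf L hL _ hiso) (g' := (suOf L hL _ hiso)⁻¹)
    (inv_mul_cancel _) _ (fun S => ?_) (fun S => rfl)
  rw [uHom_apply, uHom_apply, suOf_mul, suOf_mul]
  refine suOf_congr L hL _ _ ?_
  rw [tri_mul, tri_mul]
  simp only [Matrix.mul_one, Matrix.one_mul, Matrix.mul_zero, Matrix.zero_mul, add_zero, zero_add]
  congr 1
  show (S : Matrix (Fin m) (Fin m) F) * (M.map (frobQ hF))ᵀ =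
    N * (M * (S : Matrix (Fin m) (Fin m) F) * (M.map (frobQ hF))ᵀ)
  rw [← Matrix.mul_assoc, ← Matrix.mul_assoc, hNM, Matrix.one_mul]

/-- An invariant primitive character. -/
theorem exists_primitive_invariant [Fintype F] :
    ∃ ψ : AddChar F ℂ, ψ.IsPrimitive ∧ ∀ x, ψ (frobQ hF x) = ψ x := by
  obtain ⟨ψ₁, hψ₁⟩ := exists_primitive F
  obtain ⟨y, hy⟩ : ∃ y, y + frobQ hF y ≠ 0 := by
    obtain ⟨t, ht⟩ := exists_add_σ_eq_one (frobQ_ne_id hF) (frobQ_invol hF)
    exact ⟨t, by rw [ht]; exact one_ne_zero⟩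
  obtain ⟨z, hz⟩ : ∃ z, ψ₁ z ≠ 1 := by
    by_contra hc
    push_neg at hc
    refine hψ₁ one_ne_zero ?_
    ext c
    simpa using hc c
  let ψ : AddChar F ℂ := ψ₁.compAddMonoidHom
    (AddMonoidHom.mk' (fun x => z / (y + frobQ hF y) * (x + frobQ hF x)) fun a b => by rw [map_add]; ring)
  refine ⟨ψ, AddChar.IsPrimitive.of_ne_one fun h => hz ?_, fun x => ?_⟩
  · have h1 := DFunLike.congr_fun h y
    simp only [ψ, AddChar.compAddMonoidHom_apply, AddMonoidHom.mk'_apply, div_mul_cancel₀ _ hy] at h1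
    exact h1
  · simp only [ψ, AddChar.compAddMonoidHom_apply, AddMonoidHom.mk'_apply, frobQ_invol, add_comm]

/-- The sesquilinear form of a character. -/
theorem exists_herm [Fintype F] (χ : AddChar (skSub hF m) ℂ) {ψ : AddChar F ℂ} (hψ : ψ.IsPrimitive) :
    ∃ H : (Fin m → F) → (Fin m → F) → F, IsSesq q H ∧ ∀ c u v, χ (herPair hF c u v) = ψ (c * H u v) := by
  have hb : ∀ u v : Fin m → F, ∃ a : F, ∀ c, χ (herPair hF c u v) = ψ (c * a) := fun u v =>
    (exists_mulShift hψ (χ.compAddMonoidHom (AddMonoidHom.mk' (fun c => herPair hF c u v)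
      fun a b => Subtype.ext (Matrix.ext fun i j => by
        rw [AddSubgroup.coe_add, Matrix.add_apply, herPair_apply, herPair_apply, herPair_apply, add_pow_q hF]
        ring)))).exists
  choose H hH using hb
  have uniq : ∀ {a b : F}, (∀ c, ψ (c * a) = ψ (c * b)) → a = b := fun {a b} h => by
    refine AddChar.to_mulShift_inj_of_isPrimitive hψ ?_
    ext c
    rw [AddChar.mulShift_apply, AddChar.mulShift_apply, mul_comm a, mul_comm b, h]
  have eqv : ∀ {S T : skSub hF m}, (∀ i j, (S : Matrix (Fin m) (Fin m) F) i j = (T : Matrix (Fin m) (Fin m) F) i j) →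
      χ S = χ T := fun h => by rw [Subtype.ext (Matrix.ext h)]
  refine ⟨H, ⟨fun u u' v => uniq fun c => ?_, fun u v v' => uniq fun c => ?_, fun a u v => uniq fun c => ?_,
    fun a u v => uniq fun c => ?_⟩, fun c u v => hH u v c⟩
  · rw [mul_add, AddChar.map_add_eq_mul, ← hH, ← hH, ← hH, ← AddChar.map_add_eq_mul]
    refine eqv fun i j => ?_
    simp only [AddSubgroup.coe_add, Matrix.add_apply, herPair_apply, Pi.add_apply, add_pow_q hF]
    ring
  · rw [mul_add, AddChar.map_add_eq_mul, ← hH, ← hH, ← hH, ← AddChar.map_add_eq_mul]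
    refine eqv fun i j => ?_
    simp only [AddSubgroup.coe_add, Matrix.add_apply, herPair_apply, Pi.add_apply, add_pow_q hF]
    ring
  · rw [← mul_assoc, ← hH, ← hH]
    refine eqv fun i j => ?_
    simp only [herPair_apply, Pi.smul_apply, smul_eq_mul, mul_pow]
    ring
  · rw [← mul_assoc, ← hH, ← hH]
    refine eqv fun i j => ?_
    simp only [herPair_apply, Pi.smul_apply, smul_eq_mul, mul_pow, pow_q_q hF]
    ring

/-- A character with an anisotropic vector occurs. -/
theorem exists_aniso (hn : 3 ≤ n) (h32 : ¬ (n = 3 ∧ q = 2)) (hm : 0 < m)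
    (L : (UIdx m d → F) ≃ₗ[F] (Fin n → F))
    (hL : ∀ x y, Cfsg.hermForm n F q (L x) (L y) = jForm q x y) {V : Type*} [AddCommGroup V] [Module ℂ V]
    [FiniteDimensional ℂ V] {ρ : Representation ℂ (Cfsg.SU n F q) V} (hρ : ρ.IsIrreducible)
    (h2 : 2 ≤ finrank ℂ V) :
    ∃ (χ : AddChar (skSub hF m) ℂ) (c : F) (e : Fin m → F),
      1 ≤ finrank ℂ (weight ρ (uHom hF L hL) χ) ∧ χ (herPair hF c e e) ≠ 1 := by
  classical
  haveI := isSimpleGroup_PSU hF hn h32
  obtain ⟨c, hc⟩ : ∃ c : F, c - c ^ q ≠ 0 := by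
    by_contra hc
    push_neg at hc
    exact frobQ_ne_id hF (RingHom.ext fun x => (sub_eq_zero.1 (hc x)).symm)
  let i : Fin m := ⟨0, hm⟩
  have hS : (herPair hF c (Pi.single i 1) (Pi.single i 1) : Matrix (Fin m) (Fin m) F) i i = c - c ^ q := by
    rw [herPair_apply]; simp
  have hnc := suOf_not_central hF (n := n) (m := m) (d := d) (by omega) L hL
    (isIso_uni hF (d := d) (herPair hF c (Pi.single i 1) (Pi.single i 1)).2)
    (i := Sum.inl (Sum.inl i)) (j := Sum.inr i) Sum.inl_ne_inr (by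
      show (herPair hF c (Pi.single i 1) (Pi.single i 1) : Matrix (Fin m) (Fin m) F) i i ≠ 0
      rw [hS]; exact hc)
  obtain ⟨χ, hχ, hw⟩ := exists_weight ρ (uHom hF L hL) (x₀ := herPair hF c (Pi.single i 1) (Pi.single i 1))
    (rho_ne_one (commutator_SU_eq_top hF hn h32) hρ h2 hnc)
  exact ⟨χ, c, _, Submodule.one_le_finrank_iff.2 hw, hχ⟩

/-- The common bound: orbit size times multiplicity. -/
theorem unitary_core [Fintype F] (L : (UIdx m d → F) ≃ₗ[F] (Fin n → F))
    (hL : ∀ x y, Cfsg.hermForm n F q (L x) (L y) = jForm q x y) {V : Type*} [AddCommGroup V] [Module ℂ V]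
    [FiniteDimensional ℂ V] (ρ : Representation ℂ (Cfsg.SU n F q) V) (χ : AddChar (skSub hF m) ℂ)
    {ψ : AddChar F ℂ} (hψ : ψ.IsPrimitive) {H : (Fin m → F) → (Fin m → F) → F} (hH : IsSesq q H)
    (hHχ : ∀ c u v, χ (herPair hF c u v) = ψ (c * H u v)) {e : Fin m → F} (he : H e e ≠ 0)
    (P : ((Fin m → F) ≃ₗ[F] (Fin m → F)) → Prop)
    (hγ : ∀ g, P g → ∃ γ : Matrix (Fin d) (Fin d) F, γᵀ * γ.map (frobQ hF) = 1 ∧
      (LinearMap.toMatrix' g.symm.toLinearMap).det * γ.det *
        frobQ hF (LinearMap.toMatrix' g.toLinearMap).det = 1)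
    (htrans : ∀ v : Fin m → F, v ≠ 0 → ∃ g : (Fin m → F) ≃ₗ[F] (Fin m → F), g v = e ∧
      ∀ (f : (Fin m → F) →ₗ[F] F) (hf : f e = 0), P (g.trans (shiftEquiv e f hf)))
    {k : ℕ} (hk : k ≤ finrank ℂ (weight ρ (uHom hF L hL) χ)) :
    (q ^ (2 * m) - 1) * k ≤ (q + 1) * finrank ℂ V := by
  classical
  haveI : Finite ((Fin m → F) ≃ₗ[F] (Fin m → F)) := Finite.of_injective _ DFunLike.coe_injective
  haveI : Fintype {g // P g} := Fintype.ofFinite _
  have horb := card_orbit_ge hH (by have := two_le_q hF; omega) he (fun g : {g // P g} => g.1.toLinearMap)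
    (fun g => g.1.surjective) (fun v hv => by
      obtain ⟨g, hg, hgP⟩ := htrans v hv
      exact ⟨g.toLinearMap, g.surjective, hg, fun f hf => ⟨⟨_, hgP f hf⟩, rfl⟩⟩)
  set R := Set.range fun g : {g // P g} => fun x y => H (g.1 x) (g.1 y) with hR
  haveI : Fintype R := Fintype.ofFinite R
  choose gT hgT using fun T : R => T.2
  have hinj : Function.Injective fun T : R => skPush hF χ (LinearMap.toMatrix' (gT T).1.toLinearMap) := by
    intro T T' h
    refine Subtype.ext ?_
    rw [← hgT T, ← hgT T']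
    funext x y
    refine AddChar.to_mulShift_inj_of_isPrimitive hψ ?_
    ext c
    have h1 := DFunLike.congr_fun h (herPair hF c x y)
    rw [skPush_her, skPush_her, LinearMap.toMatrix'_mulVec, LinearMap.toMatrix'_mulVec,
      LinearMap.toMatrix'_mulVec, LinearMap.toMatrix'_mulVec, hHχ, hHχ] at h1
    rw [AddChar.mulShift_apply, AddChar.mulShift_apply, mul_comm, mul_comm _ c]
    exact h1
  have hb := card_mul_le_finrank ρ (uHom hF L hL) (d := k) _ hinj fun T => hk.trans (by
    obtain ⟨γ, hg1, hg2⟩ := hγ _ (gT T).2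
    exact weight_skPush_le hF L hL ρ χ (gT T).1 hg1 hg2)
  have horb' : Fintype.card (Fin m → F) - 1 ≤ (q + 1) * Nat.card R := horb
  rw [Fintype.card_fun, Fintype.card_fin, ← Nat.card_eq_fintype_card (α := F), hF, ← pow_mul,
    Nat.card_eq_fintype_card] at horb'
  calc (q ^ (2 * m) - 1) * k ≤ (q + 1) * Fintype.card R * k := Nat.mul_le_mul_right _ horb'
    _ = (q + 1) * (Fintype.card R * k) := by ring
    _ ≤ (q + 1) * finrank ℂ V := Nat.mul_le_mul_left _ hb

/-- In odd dimension each weight space has dimension at least `q`. -/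
theorem weight_ge_q [Fintype F] (L : (UIdx m 1 → F) ≃ₗ[F] (Fin n → F))
    (hL : ∀ x y, Cfsg.hermForm n F q (L x) (L y) = jForm q x y) {V : Type*} [AddCommGroup V] [Module ℂ V]
    [FiniteDimensional ℂ V] (ρ : Representation ℂ (Cfsg.SU n F q) V) (χ : AddChar (skSub hF m) ℂ)
    {ψ : AddChar F ℂ} (hψ : ψ.IsPrimitive) {H : (Fin m → F) → (Fin m → F) → F}
    (hHχ : ∀ c u v, χ (herPair hF c u v) = ψ (c * H u v)) {e : Fin m → F} (he : H e e ≠ 0)
    (hw : weight ρ (uHom hF L hL) χ ≠ ⊥) : q ≤ finrank ℂ (weight ρ (uHom hF L hL) χ) := by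
  classical
  obtain ⟨t, ht⟩ := exists_add_σ_eq_one (frobQ_ne_id hF) (frobQ_invol hF)
  have hs : -t + frobQ hF (-t) = -1 := by rw [map_neg, ← neg_add, ht]
  let β : F → Matrix (Fin m) (Fin 1) F := fun a => Matrix.of fun i _ => a * e i
  let S : F → Cfsg.SU n F q := fun a => suOf L hL _ (isIso_rad hF hs (β a))
  have hcen : ∀ (a : F) (T : skSub hF m),
      uHom hF L hL (Multiplicative.ofAdd T) * S a = S a * uHom hF L hL (Multiplicative.ofAdd T) := by
    intro a T
    simp only [S, uHom_apply]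
    rw [suOf_mul, suOf_mul]
    refine suOf_congr L hL _ _ ?_
    rw [radMat, tri_mul, tri_mul]
    simp [add_comm]
  have hcomm : ∀ a b : F, S b * S a =
      S a * S b * uHom hF L hL (Multiplicative.ofAdd (herPair hF (-(b * a ^ q)) e e)) := by
    intro a b
    simp only [S, uHom_apply]
    rw [suOf_mul, suOf_mul, suOf_mul]
    refine suOf_congr L hL _ _ ?_
    simp only [radMat, tri_mul]
    simp only [Matrix.one_mul, Matrix.mul_one, Matrix.mul_zero, Matrix.zero_mul, add_zero, zero_add,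
      toAdd_ofAdd, herPair_val, β]
    congr 1
    · exact add_comm _ _
    · ext i j
      simp only [Matrix.add_apply, Matrix.sub_apply, Matrix.smul_apply, Matrix.mul_apply, Matrix.map_apply,
        Matrix.transpose_apply, Matrix.neg_apply, Matrix.of_apply, Fin.sum_univ_one, Matrix.vecMulVec_apply,
        sigV, smul_eq_mul, map_mul, map_neg, frobQ_apply, pow_q_q hF]
      ring
    · exact add_comm _ _
  have hinv : ∀ a, ∀ w ∈ weight ρ (uHom hF L hL) χ, ρ (S a) w ∈ weight ρ (uHom hF L hL) χ := by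
    intro a w hw' T
    rw [← Module.End.mul_apply, ← map_mul, hcen, map_mul, Module.End.mul_apply, hw' T, map_smul]
  have hinv' : ∀ a, ∀ w ∈ weight ρ (uHom hF L hL) χ, ρ (S a)⁻¹ w ∈ weight ρ (uHom hF L hL) χ := by
    intro a w hw' T
    rw [← Module.End.mul_apply, ← map_mul,
      show uHom hF L hL (Multiplicative.ofAdd T) * (S a)⁻¹ = (S a)⁻¹ * uHom hF L hL (Multiplicative.ofAdd T) from
        (Commute.inv_right (hcen a T)).eq, map_mul, Module.End.mul_apply, hw' T, map_smul]
  let W := weight ρ (uHom hF L hL) χ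
  let T : F → Module.End ℂ W := fun a => (ρ (S a)).restrict (hinv a)
  let T' : F → Module.End ℂ W := fun a => (ρ (S a)⁻¹).restrict (hinv' a)
  have hT : ∀ a, T a ≠ 0 := by
    intro a h0
    obtain ⟨w, hwm, hw0⟩ := Submodule.exists_mem_ne_zero_of_ne_bot hw
    have h1 := congrArg Subtype.val (LinearMap.congr_fun h0 ⟨w, hwm⟩)
    change ρ (S a) w = 0 at h1
    refine hw0 ?_
    have h2 : ρ ((S a)⁻¹ * S a) w = 0 := by rw [map_mul, Module.End.mul_apply, h1, map_zero]
    rwa [inv_mul_cancel, map_one, Module.End.one_apply] at h2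
  have hkey := card_le_sq_finrank T hT
    (fun b => (LinearMap.mulLeft ℂ (T b)).comp (LinearMap.mulRight ℂ (T' b)))
    (fun b a => ψ (-(b * a ^ q) * H e e)) (fun b a => ?_) (fun a a' h => ?_)
  · rw [← Nat.card_eq_fintype_card, hF] at hkey
    exact (Nat.pow_le_pow_iff_left two_ne_zero).1 hkey
  · refine LinearMap.ext fun w => Subtype.ext ?_
    show ρ (S b) (ρ (S a) (ρ (S b)⁻¹ (w : V))) = ψ (-(b * a ^ q) * H e e) • ρ (S a) (w : V)
    have hw1 : ρ (S b)⁻¹ (w : V) ∈ W := hinv' b _ w.2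
    rw [← Module.End.mul_apply, ← map_mul, hcomm, map_mul, Module.End.mul_apply, hw1, hHχ, map_smul,
      ← Module.End.mul_apply (ρ (S a * S b)), ← map_mul, mul_inv_cancel_right]
  · have h1 : a ^ q * H e e = a' ^ q * H e e := by
      refine AddChar.to_mulShift_inj_of_isPrimitive hψ ?_
      ext c
      have h2 := congrFun h (-c)
      simp only [neg_mul, neg_neg] at h2
      rw [AddChar.mulShift_apply, AddChar.mulShift_apply, mul_comm, ← mul_assoc, mul_comm (a' ^ q * _), ← mul_assoc]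
      exact h2
    have h3 := congrArg (frobQ hF) (mul_right_cancel₀ he h1)
    rwa [frobQ_apply, frobQ_apply, pow_q_q hF, pow_q_q hF] at h3

include hF in
/-- Landazuri–Seitz bound for unitary groups of odd dimension. -/
theorem unitary_odd_bound [Fintype F] (hn : n = 2 * m + 1) (hm : 0 < m) (h32 : ¬ (n = 3 ∧ q = 2))
    {V : Type*} [AddCommGroup V] [Module ℂ V] [FiniteDimensional ℂ V]
    {ρ : Representation ℂ (Cfsg.SU n F q) V} (hρ : ρ.IsIrreducible) (h2 : 2 ≤ finrank ℂ V) :
    (q ^ (2 * m) - 1) * q ≤ (q + 1) * finrank ℂ V := by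
  classical
  obtain ⟨L, hL⟩ := exists_frame hF (m := m) (d := 1) hn
  obtain ⟨χ, c, e, hw, hχ⟩ := exists_aniso hF (by omega) h32 hm L hL hρ h2
  obtain ⟨ψ, hψ, -⟩ := exists_primitive_invariant hF
  obtain ⟨H, hH, hHχ⟩ := exists_herm hF χ hψ
  have he : H e e ≠ 0 := fun h => hχ (by rw [hHχ, h, mul_zero, AddChar.map_zero_eq_one])
  have he0 : e ≠ 0 := fun h => he (by
    subst h
    have := hH.smul_left 0 (0 : Fin m → F) 0
    rwa [zero_smul, zero_mul] at this)
  refine unitary_core hF L hL ρ χ hψ hH hHχ he (fun _ => True) (fun g _ => ?_) (fun v hv => ?_)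
    (weight_ge_q hF L hL ρ χ hψ hHχ he (Submodule.one_le_finrank_iff.1 hw))
  · have hne : (LinearMap.toMatrix' g.toLinearMap).det ≠ 0 := by
      rw [LinearMap.det_toMatrix']; exact g.isUnit_det'.ne_zero
    set D := (LinearMap.toMatrix' g.toLinearMap).det with hD
    have hsymm : (LinearMap.toMatrix' g.symm.toLinearMap).det = D⁻¹ := by
      refine eq_inv_of_mul_eq_one_left ?_
      rw [hD, ← Matrix.det_mul, ← LinearMap.toMatrix'_comp]
      simp
    have hσD : frobQ hF D ≠ 0 := fun h => hne (by rw [← frobQ_invol hF D, h, map_zero])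
    refine ⟨(D / frobQ hF D) • 1, ?_, ?_⟩
    · ext i j
      fin_cases i; fin_cases j
      simp [Matrix.mul_apply, frobQ_invol]
      field_simp
    · rw [hsymm, Matrix.det_smul, Fintype.card_fin, pow_one, Matrix.det_one]
      field_simp
  · obtain ⟨g, hg⟩ : ∃ g : (Fin m → F) ≃ₗ[F] (Fin m → F), g v = e := exists_equiv_apply hv he0
    exact ⟨g, hg, fun _ _ => trivial⟩

include hF in
/-- Landazuri–Seitz bound for unitary groups of even dimension. -/
theorem unitary_even_bound [Fintype F] (hn : n = 2 * m) (hm : 2 ≤ m)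
    {V : Type*} [AddCommGroup V] [Module ℂ V] [FiniteDimensional ℂ V]
    {ρ : Representation ℂ (Cfsg.SU n F q) V} (hρ : ρ.IsIrreducible) (h2 : 2 ≤ finrank ℂ V) :
    q ^ (2 * m) - 1 ≤ (q + 1) * finrank ℂ V := by
  classical
  obtain ⟨L, hL⟩ := exists_frame hF (m := m) (d := 0) hn
  obtain ⟨χ, c, e, hw, hχ⟩ := exists_aniso hF (by omega) (by omega) (by omega) L hL hρ h2
  obtain ⟨ψ, hψ, -⟩ := exists_primitive_invariant hF
  obtain ⟨H, hH, hHχ⟩ := exists_herm hF χ hψ
  have he : H e e ≠ 0 := fun h => hχ (by rw [hHχ, h, mul_zero, AddChar.map_zero_eq_one])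
  have he0 : e ≠ 0 := fun h => he (by
    subst h
    have := hH.smul_left 0 (0 : Fin m → F) 0
    rwa [zero_smul, zero_mul] at this)
  have h := unitary_core hF L hL ρ χ hψ hH hHχ he
    (fun g => LinearMap.det g.toLinearMap = 1) (fun g hg => ?_) (fun v hv => ?_) hw
  · rwa [mul_one] at h
  · refine ⟨1, by simp, ?_⟩
    have h1 : (LinearMap.toMatrix' g.toLinearMap).det = 1 := by rw [LinearMap.det_toMatrix', hg]
    have h2 : (LinearMap.toMatrix' g.symm.toLinearMap).det = 1 := by
      have h3 : (LinearMap.toMatrix' g.symm.toLinearMap).det * (LinearMap.toMatrix' g.toLinearMap).det = 1 := by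
        rw [← Matrix.det_mul, ← LinearMap.toMatrix'_comp]
        simp
      rwa [h1, mul_one] at h3
    rw [h1, h2, Matrix.det_one, map_one, mul_one, mul_one]
  · obtain ⟨A, hA⟩ := CfsgLib.Char.exists_sl_map (k := 1) (b := fun _ : Fin 1 => v) hm
      ((linearIndependent_unique_iff (R := F) (v := fun _ : Fin 1 => v)).2 hv)
    obtain ⟨B, hB⟩ := CfsgLib.Char.exists_sl_map (k := 1) (b := fun _ : Fin 1 => e) hm
      ((linearIndependent_unique_iff (R := F) (v := fun _ : Fin 1 => e)).2 he0)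
    let g : (Fin m → F) ≃ₗ[F] (Fin m → F) :=
      Matrix.SpecialLinearGroup.toLin' (B * A⁻¹)
    have hgap : ∀ x, g x = ((B * A⁻¹ : Matrix.SpecialLinearGroup (Fin m) F) : Matrix _ _ F) *ᵥ x := fun x => rfl
    refine ⟨g, ?_, fun f hf => ?_⟩
    · rw [hgap, ← hA 0, Matrix.mulVec_mulVec, ← Matrix.SpecialLinearGroup.coe_mul, inv_mul_cancel_right]
      exact hB 0
    · show LinearMap.det ((shift e f).comp g.toLinearMap) = 1
      rw [LinearMap.det_comp]
      have hg1 : LinearMap.det g.toLinearMap = 1 := by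
        rw [← LinearMap.det_toMatrix']
        have hm' : LinearMap.toMatrix' g.toLinearMap =
            ((B * A⁻¹ : Matrix.SpecialLinearGroup (Fin m) F) : Matrix _ _ F) :=
          Matrix.toLin'.injective (LinearMap.ext fun x => by
            rw [Matrix.toLin'_toMatrix', Matrix.toLin'_apply]; exact hgap x)
        rw [hm']
        exact (B * A⁻¹).2
      have hs1 : LinearMap.det (shift e f) = 1 := by
        rw [← LinearMap.det_toMatrix']
        have hm' : LinearMap.toMatrix' (shift e f) =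
            1 + Matrix.vecMulVec e (fun j => f (Pi.single j 1)) := by
          ext i j
          rw [LinearMap.toMatrix'_apply, shift_apply]
          simp [Matrix.one_apply, Matrix.vecMulVec_apply, Pi.single_apply, mul_comm]
        rw [hm', Matrix.vecMulVec_eq (Fin 1), Matrix.det_one_add_replicateCol_mul_replicateRow]
        have : (fun j => f (Pi.single j 1)) ⬝ᵥ e = f e := by
          conv_rhs => rw [pi_eq_sum_univ' e, map_sum]
          simp [dotProduct, mul_comm]
        rw [this, hf, add_zero]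
      rw [hg1, hs1, mul_one]

end CfsgLib.MinDeg
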