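import Mathlib

/-!
Weight spaces of an abelian subgroup in a finite dimensional complex representation, and lower bounds
for the degree.
-/

set_option autoImplicit false
set_option linter.style.haveILetI false

namespace CfsgLib.MinDeg

open Module

variable {G : Type*} [Monoid G] {V : Type*} [AddCommGroup V] [Module ℂ V]
  (ρ : Representation ℂ G V) {X : Type*} [AddCommGroup X] (e : Multiplicative X →* G)

/-- The vectors on which `e x` acts by `χ x`. -/
def weight (χ : AddChar X ℂ) : Submodule ℂ V where
  carrier := {v | ∀ x, ρ (e (Multiplicative.ofAdd x)) v = χ x • v}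
  add_mem' := fun {v w} hv hw x => by rw [map_add, hv, hw, smul_add]
  zero_mem' := fun x => by rw [map_zero, smul_zero]
  smul_mem' := fun c v hv x => by rw [map_smul, hv, smul_comm]

theorem mem_weight {χ : AddChar X ℂ} {v : V} :
    v ∈ weight ρ e χ ↔ ∀ x, ρ (e (Multiplicative.ofAdd x)) v = χ x • v := Iff.rfl

variable [Fintype X]

/-- The projection to a weight space. -/
noncomputable def proj (χ : AddChar X ℂ) : V →ₗ[ℂ] V :=
  (Fintype.card X : ℂ)⁻¹ • ∑ x, χ (-x) • ρ (e (Multiplicative.ofAdd x))

theorem proj_apply (χ : AddChar X ℂ) (v : V) :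
    proj ρ e χ v = (Fintype.card X : ℂ)⁻¹ • ∑ x, χ (-x) • ρ (e (Multiplicative.ofAdd x)) v := by
  simp [proj, LinearMap.sum_apply]

theorem proj_mem (χ : AddChar X ℂ) (v : V) : proj ρ e χ v ∈ weight ρ e χ := by
  intro y
  simp only [proj_apply, map_smul, map_sum, Finset.smul_sum]
  refine Fintype.sum_equiv (Equiv.addLeft y) _ _ fun x => ?_
  rw [Equiv.coe_addLeft, ← Module.End.mul_apply, ← map_mul, ← map_mul, ← ofAdd_add, smul_smul,
    smul_smul, smul_smul]
  congr 1
  rw [show -(y + x) = -x + -y by abel, AddChar.map_add_eq_mul]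
  have h : χ y * χ (-y) = 1 := by rw [← AddChar.map_add_eq_mul, add_neg_cancel, AddChar.map_zero_eq_one]
  linear_combination (-(Fintype.card X : ℂ)⁻¹ * χ (-x)) * h

theorem proj_of_mem [DecidableEq (AddChar X ℂ)] {χ χ' : AddChar X ℂ} {v : V}
    (hv : v ∈ weight ρ e χ') : proj ρ e χ v = if χ' = χ then v else 0 := by
  have hN : (Fintype.card X : ℂ) ≠ 0 := by simp
  have h : ∀ x, χ (-x) • ρ (e (Multiplicative.ofAdd x)) v = (χ' * χ⁻¹) x • v := fun x => by
    rw [hv x, smul_smul, AddChar.mul_apply, AddChar.inv_apply, mul_comm]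
  rw [proj_apply, Finset.sum_congr rfl fun x _ => h x, ← Finset.sum_smul]
  split_ifs with hc
  · subst hc
    have h1 : ∀ x, (χ' * χ'⁻¹) x = 1 := fun x => by rw [mul_inv_cancel]; rfl
    rw [Finset.sum_congr rfl fun x _ => h1 x, Finset.sum_const, Finset.card_univ, nsmul_one, smul_smul,
      inv_mul_cancel₀ hN, one_smul]
  · have h1 : χ' * χ⁻¹ ≠ 1 := fun h1 => hc (mul_inv_eq_one.1 h1)
    rw [(AddChar.sum_eq_zero_iff_ne_zero).2 h1, zero_smul, smul_zero]

theorem sum_proj (v : V) : ∑ χ : AddChar X ℂ, proj ρ e χ v = v := by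
  classical
  have hN : (Fintype.card X : ℂ) ≠ 0 := by simp
  simp only [proj_apply, ← Finset.smul_sum]
  rw [Finset.sum_comm]
  simp only [← Finset.sum_smul, AddChar.sum_apply_eq_ite, neg_eq_zero, ite_smul, zero_smul]
  rw [Finset.sum_ite_eq' Finset.univ (0 : X), if_pos (Finset.mem_univ _), ofAdd_zero, map_one, map_one,
    Module.End.one_apply, smul_smul, inv_mul_cancel₀ hN, one_smul]

/-- An element acting non-trivially is moved by a character occurring in `V`. -/
theorem exists_weight {x₀ : X} (h : ρ (e (Multiplicative.ofAdd x₀)) ≠ 1) :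
    ∃ χ : AddChar X ℂ, χ x₀ ≠ 1 ∧ weight ρ e χ ≠ ⊥ := by
  by_contra hc
  push_neg at hc
  refine h (LinearMap.ext fun v => ?_)
  rw [Module.End.one_apply]
  conv_lhs => rw [← sum_proj ρ e v]
  rw [map_sum]
  refine Eq.trans (Finset.sum_congr rfl fun χ _ => ?_) (sum_proj ρ e v)
  by_cases h1 : χ x₀ = 1
  · rw [proj_mem ρ e χ v x₀, h1, one_smul]
  · have h2 : proj ρ e χ v = 0 := (Submodule.mem_bot ℂ).1 (hc χ h1 ▸ proj_mem ρ e χ v)
    rw [h2, map_zero]

omit [Fintype X] in
/-- Conjugate characters have weight spaces of the same dimension. -/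
theorem finrank_weight_conj [FiniteDimensional ℂ V] {g g' : G} (hg : g' * g = 1) (φ : X → X)
    (hφ : ∀ x, e (Multiplicative.ofAdd x) * g = g * e (Multiplicative.ofAdd (φ x)))
    {χ χ' : AddChar X ℂ} (hχ : ∀ x, χ' x = χ (φ x)) :
    finrank ℂ (weight ρ e χ) ≤ finrank ℂ (weight ρ e χ') := by
  let f : weight ρ e χ →ₗ[ℂ] weight ρ e χ' :=
    ((ρ g).comp (weight ρ e χ).subtype).codRestrict _ fun v x => by
      show ρ (e (Multiplicative.ofAdd x)) (ρ g v) = χ' x • ρ g v
      rw [← Module.End.mul_apply, ← map_mul, hφ, map_mul, Module.End.mul_apply, v.2 (φ x), map_smul, hχ]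
  refine LinearMap.finrank_le_finrank_of_injective (f := f) fun v w h => Subtype.ext ?_
  have h1 := congrArg (fun z : weight ρ e χ' => ρ g' (z : V)) h
  change ρ g' (ρ g v) = ρ g' (ρ g w) at h1
  rwa [← Module.End.mul_apply, ← Module.End.mul_apply, ← map_mul, hg, map_one] at h1

/-- Distinct characters with large weight spaces force a large degree. -/
theorem card_mul_le_finrank [FiniteDimensional ℂ V] {ι : Type*} [Fintype ι] {d : ℕ}
    (χ : ι → AddChar X ℂ) (hχ : Function.Injective χ) (hd : ∀ i, d ≤ finrank ℂ (weight ρ e (χ i))) :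
    Fintype.card ι * d ≤ finrank ℂ V := by
  classical
  let f : ((i : ι) → weight ρ e (χ i)) →ₗ[ℂ] V :=
    ∑ i, (weight ρ e (χ i)).subtype.comp (LinearMap.proj i)
  have hf : Function.Injective f := by
    intro v w h
    funext i
    refine Subtype.ext ?_
    have key : ∀ u : (i : ι) → weight ρ e (χ i), proj ρ e (χ i) (f u) = (u i : V) := by
      intro u
      simp only [f, LinearMap.sum_apply, map_sum, LinearMap.comp_apply, LinearMap.proj_apply,
        Submodule.subtype_apply]
      rw [Finset.sum_eq_single i]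
      · rw [proj_of_mem ρ e (u i).2, if_pos rfl]
      · intro j _ hj
        rw [proj_of_mem ρ e (u j).2, if_neg (fun e => hj (hχ e))]
      · simp
    rw [← key v, ← key w, h]
  have h1 := LinearMap.finrank_le_finrank_of_injective hf
  rw [Module.finrank_pi_fintype] at h1
  refine le_trans ?_ h1
  rw [← smul_eq_mul, ← Finset.card_univ]
  exact Finset.card_nsmul_le_sum _ _ _ fun i _ => hd i

/-- Twisted-commuting operators with separating multipliers are linearly independent. -/
theorem card_le_sq_finrank {W : Type*} [AddCommGroup W] [Module ℂ W] [FiniteDimensional ℂ W] {I J : Type*}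
    [Fintype I] (T : I → Module.End ℂ W) (hT : ∀ i, T i ≠ 0) (L : J → Module.End ℂ W →ₗ[ℂ] Module.End ℂ W)
    (c : J → I → ℂ) (hL : ∀ j i, L j (T i) = c j i • T i) (hc : Function.Injective fun i j => c j i) :
    Fintype.card I ≤ finrank ℂ W ^ 2 := by
  classical
  have hind : LinearIndependent ℂ T := by
    rw [linearIndependent_iff']
    intro s
    induction s using Finset.induction_on with
    | empty => simp
    | insert a s ha ih =>
      intro g hg
      have hs : ∀ i ∈ s, g i = 0 := by
        intro i hi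
        obtain ⟨j, hj⟩ := Function.ne_iff.1 (fun h => (fun e : i = a => ha (e ▸ hi)) (hc h))
        have h1 : ∑ k ∈ s, (g k * (c j k - c j a)) • T k = 0 := by
          have h2 := congrArg (L j) hg
          rw [map_sum, map_zero] at h2
          have h3 : ∑ k ∈ insert a s, (g k * (c j k - c j a)) • T k = 0 := by
            have h4 : ∀ k, (g k * (c j k - c j a)) • T k = L j (g k • T k) - c j a • (g k • T k) := fun k => by
              rw [map_smul, hL, smul_smul, smul_smul, ← sub_smul]; ring_nf
            rw [Finset.sum_congr rfl fun k _ => h4 k, Finset.sum_sub_distrib, h2, ← Finset.smul_sum, hg,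
              smul_zero, sub_zero]
          rwa [Finset.sum_insert ha, sub_self, mul_zero, zero_smul, zero_add] at h3
        exact (mul_eq_zero.1 (ih _ h1 i hi)).resolve_right (sub_ne_zero.2 hj)
      intro i hi
      rcases Finset.mem_insert.1 hi with rfl | hi
      · rw [Finset.sum_insert ha, Finset.sum_eq_zero (fun k hk => by rw [hs k hk, zero_smul]), add_zero] at hg
        exact (smul_eq_zero.1 hg).resolve_right (hT _)
      · exact hs i hi
  have h1 := hind.fintype_card_le_finrank
  rwa [Module.finrank_linearMap, ← sq] at h1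

/-- Primitive additive characters identify a finite field with its character group. -/
theorem exists_mulShift {F : Type*} [Field F] [Fintype F] {ψ : AddChar F ℂ} (hψ : ψ.IsPrimitive)
    (χ : AddChar F ℂ) : ∃! a : F, ∀ c, χ c = ψ (c * a) := by
  classical
  have hinj : Function.Injective (AddChar.mulShift ψ) := AddChar.to_mulShift_inj_of_isPrimitive hψ
  have hb : Function.Bijective (AddChar.mulShift ψ) :=
    (Fintype.bijective_iff_injective_and_card _).2 ⟨hinj, AddChar.card_eq.symm⟩
  obtain ⟨a, rfl⟩ := hb.2 χ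
  refine ⟨a, fun c => by rw [AddChar.mulShift_apply, mul_comm], fun b hb' => hinj ?_⟩
  ext c
  rw [AddChar.mulShift_apply, AddChar.mulShift_apply, mul_comm b, ← hb', AddChar.mulShift_apply, mul_comm]

theorem exists_primitive (F : Type*) [Field F] [Fintype F] : ∃ ψ : AddChar F ℂ, ψ.IsPrimitive := by
  obtain ⟨ψ, hψ⟩ := (AddChar.exists_apply_ne_zero (a := (1 : F))).2 one_ne_zero
  exact ⟨ψ, AddChar.IsPrimitive.of_ne_one fun h => hψ (by rw [h]; rfl)⟩

/-- If every vector spans an invariant line the irreducible representation has degree one. -/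
theorem rho_trivial_degree [FiniteDimensional ℂ V] (hρ : ρ.IsIrreducible) (htriv : ∀ g, ρ g = 1) :
    finrank ℂ V ≤ 1 := by
  by_contra h
  haveI : Nontrivial V := Module.nontrivial_of_finrank_pos (R := ℂ) (by omega)
  obtain ⟨v, hv⟩ := exists_ne (0 : V)
  let S : Subrepresentation ρ :=
    ⟨Submodule.span ℂ {v}, fun g w hw => by rw [htriv g]; exact hw⟩
  rcases (IsSimpleOrder.eq_bot_or_eq_top S) with e | e
  · have h1 : v ∈ S.toSubmodule := Submodule.mem_span_singleton_self v
    rw [e] at h1
    exact hv ((Submodule.mem_bot ℂ).1 h1)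
  · have h1 : S.toSubmodule = ⊤ := by rw [e]; rfl
    have h2 := finrank_span_singleton (K := ℂ) hv
    rw [show Submodule.span ℂ {v} = S.toSubmodule from rfl, h1, finrank_top] at h2
    omega

end CfsgLib.MinDeg
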