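import Mathlib

/-!
Heisenberg operators on functions on `Fⁿ`, their intertwiners, and the normalisation of intertwiners by
determinants on even and odd functions.
-/

set_option autoImplicit false
set_option linter.style.haveILetI false

namespace CfsgLib.MinDeg

open Matrix

variable {F : Type*} [Field F] [Fintype F] [DecidableEq F] {m : ℕ}

/-- Operators on functions. -/
abbrev Op (F : Type*) (m : ℕ) := Matrix (Fin m → F) (Fin m → F) ℂ

/-- The first half of a vector. -/
abbrev hi (v : Fin m ⊕ Fin m → F) : Fin m → F := fun i => v (Sum.inl i)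

/-- The second half of a vector. -/
abbrev lo (v : Fin m ⊕ Fin m → F) : Fin m → F := fun i => v (Sum.inr i)

omit [Field F] [Fintype F] [DecidableEq F] in
@[simp] theorem hi_elim (a b : Fin m → F) : hi (Sum.elim a b) = a := rfl

omit [Field F] [Fintype F] [DecidableEq F] in
@[simp] theorem lo_elim (a b : Fin m → F) : lo (Sum.elim a b) = b := rfl

/-- The Heisenberg operator of a vector. -/
noncomputable def wOp (ψ : AddChar F ℂ) (v : Fin m ⊕ Fin m → F) : Op F m :=
  Matrix.of fun x y => if y = x + lo v then ψ (hi v ⬝ᵥ x + (2 : F)⁻¹ * (hi v ⬝ᵥ lo v)) else 0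

/-- The bracket of two vectors. -/
def brk (v w : Fin m ⊕ Fin m → F) : F := hi w ⬝ᵥ lo v - hi v ⬝ᵥ lo w

/-- Parity. -/
def par (F : Type*) [Field F] [DecidableEq F] (m : ℕ) : Op F m :=
  Matrix.of fun x y => if y = -x then 1 else 0

variable {ψ : AddChar F ℂ}

theorem wOp_mul (h2 : (2 : F) ≠ 0) (v w : Fin m ⊕ Fin m → F) :
    wOp ψ v * wOp ψ w = ψ ((2 : F)⁻¹ * brk v w) • wOp ψ (v + w) := by
  ext x y
  rw [Matrix.mul_apply, Finset.sum_eq_single (x + lo v), Matrix.smul_apply, smul_eq_mul]
  · simp only [wOp, Matrix.of_apply, if_pos]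
    have e : lo (v + w) = lo v + lo w := rfl
    rw [e, ← add_assoc, mul_ite, mul_zero, mul_ite, mul_zero]
    split_ifs
    · rw [← AddChar.map_add_eq_mul, ← AddChar.map_add_eq_mul]
      congr 1
      rw [show hi (v + w) = hi v + hi w from rfl, brk]
      simp only [add_dotProduct, dotProduct_add]
      field_simp
      ring
    · rfl
  · intro b _ hb
    simp [wOp, hb]
  · simp

theorem wOp_zero : wOp (m := m) ψ 0 = 1 := by
  ext x y
  simp only [wOp, Matrix.of_apply, Matrix.one_apply]
  have e : lo (0 : Fin m ⊕ Fin m → F) = 0 := rfl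
  have e' : hi (0 : Fin m ⊕ Fin m → F) = 0 := rfl
  rw [e, e', add_zero]
  simp [eq_comm]

theorem par_wOp (v : Fin m ⊕ Fin m → F) : par F m * wOp ψ v = wOp ψ (-v) * par F m := by
  ext x y
  rw [Matrix.mul_apply, Matrix.mul_apply, Finset.sum_eq_single (-x),
    Finset.sum_eq_single (x + lo (-v))]
  · simp only [par, wOp, Matrix.of_apply, if_pos, one_mul, mul_ite, mul_one, mul_zero]
    have e : lo (-v) = -lo v := rfl
    have e' : hi (-v) = -hi v := rfl
    rw [e, e']
    simp only [neg_dotProduct, dotProduct_neg, neg_neg, neg_add]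
  · intro b _ hb; simp [wOp, hb]
  · simp
  · intro b _ hb; simp [par, hb]
  · simp

theorem par_sq : par F m * par F m = 1 := by
  ext x y
  rw [Matrix.mul_apply, Finset.sum_eq_single (-x)]
  · simp [par, Matrix.one_apply, eq_comm]
  · intro b _ hb; simp [par, hb]
  · simp

theorem trace_par (h2 : (2 : F) ≠ 0) : (par F m).trace = 1 := by
  rw [Matrix.trace, Finset.sum_eq_single 0]
  · simp [par]
  · intro b _ hb
    simp only [Matrix.diag_apply, par, Matrix.of_apply]
    refine if_neg fun e => hb ?_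
    funext i
    have h := congrFun e i
    simp only [Pi.neg_apply] at h
    exact (mul_eq_zero.1 (show (2 : F) * b i = 0 by linear_combination h)).resolve_left h2
  · simp

theorem sum_psi_dot (hψ : ψ.IsPrimitive) (a : Fin m → F) :
    ∑ x : Fin m → F, ψ (a ⬝ᵥ x) = if a = 0 then (Fintype.card (Fin m → F) : ℂ) else 0 := by
  split_ifs with h
  · subst h; simp
  · obtain ⟨i, hi⟩ := Function.ne_iff.1 h
    let χ : AddChar (Fin m → F) ℂ :=
      ψ.compAddMonoidHom (AddMonoidHom.mk' (fun x => a ⬝ᵥ x) fun x y => dotProduct_add a x y)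
    have hχ : χ ≠ 0 := by
      intro e
      refine hψ hi ?_
      ext c
      have h1 := DFunLike.congr_fun e (Pi.single i c : Fin m → F)
      simpa [χ] using h1
    exact AddChar.sum_eq_zero_iff_ne_zero.2 hχ

/-- The operators are linearly independent. -/
theorem wOp_indep (hψ : ψ.IsPrimitive) {c : (Fin m ⊕ Fin m → F) → ℂ} (h : ∑ v, c v • wOp ψ v = 0)
    (v₀ : Fin m ⊕ Fin m → F) : c v₀ = 0 := by
  classical
  have hsum : ∀ x : Fin m → F,
      ∑ a : Fin m → F, c (Sum.elim a (lo v₀)) * ψ (a ⬝ᵥ x + (2 : F)⁻¹ * (a ⬝ᵥ lo v₀)) = 0 := by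
    intro x
    have h1 := congrFun (congrFun h x) (x + lo v₀)
    rw [Matrix.sum_apply, ← (Equiv.sumArrowEquivProdArrow (Fin m) (Fin m) F).symm.sum_comp,
      Fintype.sum_prod_type] at h1
    refine Eq.trans (Finset.sum_congr rfl fun a _ => ?_) h1
    rw [Finset.sum_eq_single (lo v₀)]
    · simp only [Matrix.smul_apply, smul_eq_mul, wOp, Matrix.of_apply]
      rw [show lo ((Equiv.sumArrowEquivProdArrow (Fin m) (Fin m) F).symm (a, lo v₀)) = lo v₀ from rfl,
        if_pos rfl]
      rfl
    · intro b _ hb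
      simp only [Matrix.smul_apply, smul_eq_mul, wOp, Matrix.of_apply]
      rw [show lo ((Equiv.sumArrowEquivProdArrow (Fin m) (Fin m) F).symm (a, b)) = b from rfl,
        if_neg (fun e => hb (add_left_cancel e).symm), mul_zero]
    · simp
  have h2 : ∑ x : Fin m → F, ψ (-(hi v₀ ⬝ᵥ x)) *
      ∑ a : Fin m → F, c (Sum.elim a (lo v₀)) * ψ (a ⬝ᵥ x + (2 : F)⁻¹ * (a ⬝ᵥ lo v₀)) = 0 :=
    Finset.sum_eq_zero fun x _ => by rw [hsum x, mul_zero]
  simp only [Finset.mul_sum] at h2
  rw [Finset.sum_comm, Finset.sum_eq_single (hi v₀)] at h2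
  · have e : Sum.elim (hi v₀) (lo v₀) = v₀ := by funext i; cases i <;> rfl
    have h3 : ∑ x : Fin m → F, ψ (-(hi v₀ ⬝ᵥ x)) * (c (Sum.elim (hi v₀) (lo v₀)) *
        ψ (hi v₀ ⬝ᵥ x + (2 : F)⁻¹ * (hi v₀ ⬝ᵥ lo v₀))) =
        (Fintype.card (Fin m → F) : ℂ) * (c v₀ * ψ ((2 : F)⁻¹ * (hi v₀ ⬝ᵥ lo v₀))) := by
      rw [e]
      have : ∀ x : Fin m → F, ψ (-(hi v₀ ⬝ᵥ x)) * (c v₀ * ψ (hi v₀ ⬝ᵥ x + (2 : F)⁻¹ * (hi v₀ ⬝ᵥ lo v₀))) =
          c v₀ * ψ ((2 : F)⁻¹ * (hi v₀ ⬝ᵥ lo v₀)) := fun x => by
        rw [mul_left_comm, ← AddChar.map_add_eq_mul, neg_add_cancel_left]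
      rw [Finset.sum_congr rfl fun x _ => this x, Finset.sum_const, Finset.card_univ, nsmul_eq_mul]
    rw [h3] at h2
    rcases mul_eq_zero.1 h2 with h4 | h4
    · simp at h4
    · rcases mul_eq_zero.1 h4 with h5 | h5
      · exact h5
      · exact absurd h5 (ψ.val_isUnit _).ne_zero
  · intro a _ ha
    have : ∀ x : Fin m → F, ψ (-(hi v₀ ⬝ᵥ x)) * (c (Sum.elim a (lo v₀)) *
        ψ (a ⬝ᵥ x + (2 : F)⁻¹ * (a ⬝ᵥ lo v₀))) =
        (c (Sum.elim a (lo v₀)) * ψ ((2 : F)⁻¹ * (a ⬝ᵥ lo v₀))) * ψ ((a - hi v₀) ⬝ᵥ x) := fun x => by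
      rw [mul_left_comm, mul_assoc, ← AddChar.map_add_eq_mul, ← AddChar.map_add_eq_mul, sub_dotProduct]
      ring_nf
    rw [Finset.sum_congr rfl fun x _ => this x, ← Finset.mul_sum, sum_psi_dot hψ,
      if_neg (sub_ne_zero.2 ha), mul_zero]
  · simp

/-- Only scalars commute with all the operators. -/
theorem scalar_of_commute_wOp (hψ : ψ.IsPrimitive) {T : Op F m} (h : ∀ v, T * wOp ψ v = wOp ψ v * T) :
    T = T 0 0 • (1 : Op F m) := by
  have e1 : ∀ (a : Fin m → F) x y, T x y * ψ (a ⬝ᵥ y) = ψ (a ⬝ᵥ x) * T x y := fun a x y => by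
    have h1 := congrFun (congrFun (h (Sum.elim a 0)) x) y
    rw [Matrix.mul_apply, Matrix.mul_apply, Finset.sum_eq_single y, Finset.sum_eq_single x] at h1
    · simpa [wOp, hi, lo] using h1
    · intro b _ hb; simp [wOp, lo, hb]
    · simp
    · intro b _ hb; simp [wOp, lo, Ne.symm hb]
    · simp
  have hdiag : ∀ x y, x ≠ y → T x y = 0 := by
    intro x y hxy
    by_contra hT
    obtain ⟨i, hi⟩ := Function.ne_iff.1 hxy
    refine hψ (sub_ne_zero.2 hi) ?_
    ext c
    have h1 := e1 (Pi.single i c) x y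
    rw [mul_comm, mul_left_inj' hT, single_dotProduct, single_dotProduct] at h1
    rw [AddChar.mulShift_apply, AddChar.one_apply, sub_mul, AddChar.map_sub_eq_div, mul_comm (x i), ← h1,
      mul_comm c, div_self (ψ.val_isUnit _).ne_zero]
  have hconst : ∀ b, T b b = T 0 0 := by
    intro b
    have h1 := congrFun (congrFun (h (Sum.elim 0 b)) 0) b
    rw [Matrix.mul_apply, Matrix.mul_apply, Finset.sum_eq_single 0, Finset.sum_eq_single b] at h1
    · simpa [wOp, hi, lo] using h1.symm
    · intro c _ hc; simp [wOp, lo, hc]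
    · simp
    · intro c _ hc; rw [hdiag 0 c (Ne.symm hc), zero_mul]
    · simp
  ext x y
  rcases eq_or_ne x y with rfl | hxy
  · simp [hconst x]
  · simp [hdiag x y hxy, hxy]

/-- A non-zero intertwiner is invertible. -/
theorem isUnit_intertwiner (hψ : ψ.IsPrimitive) {T : Op F m} (hT : T ≠ 0)
    {σ : (Fin m ⊕ Fin m → F) → Fin m ⊕ Fin m → F} (h : ∀ v, wOp ψ (σ v) * T = T * wOp ψ v) : IsUnit T := by
  by_contra hu
  rw [Matrix.isUnit_iff_isUnit_det, isUnit_iff_ne_zero, not_not, ← Matrix.exists_mulVec_eq_zero_iff] at hu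
  obtain ⟨f, hf0, hf⟩ := hu
  have hTW : ∀ v, T *ᵥ (wOp ψ v *ᵥ f) = 0 := fun v => by
    rw [Matrix.mulVec_mulVec, ← h, ← Matrix.mulVec_mulVec, hf, Matrix.mulVec_zero]
  obtain ⟨x₀, hx₀⟩ := Function.ne_iff.1 hf0
  -- the column of `x₀` vanishes
  have hcol : ∀ y, T *ᵥ (Pi.single y (1 : ℂ)) = 0 := by
    intro y
    have e : ∑ a : Fin m → F, ψ (-(a ⬝ᵥ y) - (2 : F)⁻¹ * (a ⬝ᵥ (x₀ - y))) •
        (wOp ψ (Sum.elim a (x₀ - y)) *ᵥ f) =
        ((Fintype.card (Fin m → F) : ℂ) * f x₀) • (Pi.single y (1 : ℂ) : (Fin m → F) → ℂ) := by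
      funext x
      rw [Finset.sum_apply]
      have hterm : ∀ a : Fin m → F, (ψ (-(a ⬝ᵥ y) - (2 : F)⁻¹ * (a ⬝ᵥ (x₀ - y))) •
          (wOp ψ (Sum.elim a (x₀ - y)) *ᵥ f)) x = f (x + (x₀ - y)) * ψ ((x - y) ⬝ᵥ a) := by
        intro a
        rw [Pi.smul_apply, smul_eq_mul]
        simp only [Matrix.mulVec, dotProduct, wOp, Matrix.of_apply]
        rw [Finset.sum_eq_single (x + (x₀ - y))]
        · rw [show lo (Sum.elim a (x₀ - y)) = x₀ - y from rfl, show hi (Sum.elim a (x₀ - y)) = a from rfl,
            if_pos rfl, ← mul_assoc, ← AddChar.map_add_eq_mul, mul_comm (f _)]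
          congr 2
          change -(a ⬝ᵥ y) - _ + (a ⬝ᵥ x + _) = (x - y) ⬝ᵥ a
          rw [sub_dotProduct, dotProduct_comm x, dotProduct_comm y]
          abel
        · intro b _ hb
          rw [show lo (Sum.elim a (x₀ - y)) = x₀ - y from rfl, if_neg hb, zero_mul]
        · simp
      rw [Finset.sum_congr rfl fun a _ => hterm a, ← Finset.mul_sum, sum_psi_dot hψ, Pi.smul_apply,
        Pi.single_apply, smul_eq_mul]
      by_cases hxy : x = y
      · subst hxy; simp [mul_comm]
      · simp [hxy, sub_ne_zero.2 hxy]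
    have h1 := congrArg (T *ᵥ ·) e
    simp only [Matrix.mulVec_sum, Matrix.mulVec_smul, hTW, smul_zero, Finset.sum_const_zero] at h1
    exact (smul_eq_zero.1 h1.symm).resolve_left (mul_ne_zero (by simp) hx₀)
  refine hT (Matrix.ext fun x y => ?_)
  have h1 := congrFun (hcol y) x
  simpa using h1

/-- Every symplectic map has an intertwiner. -/
theorem exists_intertwiner (h2 : (2 : F) ≠ 0) (hψ : ψ.IsPrimitive)
    (σ : (Fin m ⊕ Fin m → F) →ₗ[F] (Fin m ⊕ Fin m → F)) (hσ : ∀ v w, brk (σ v) (σ w) = brk v w) :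
    ∃ T : Op F m, IsUnit T ∧ ∀ v, wOp ψ (σ v) * T = T * wOp ψ v := by
  classical
  let A : Op F m → Op F m := fun X => ∑ v, wOp ψ (σ v) * X * wOp ψ (-v)
  have hA : ∀ X u, wOp ψ (σ u) * A X = A X * wOp ψ u := by
    intro X u
    simp only [A, Finset.mul_sum, Finset.sum_mul]
    refine Fintype.sum_equiv (Equiv.addLeft u) _ _ fun v => ?_
    rw [Equiv.coe_addLeft, ← mul_assoc, ← mul_assoc, wOp_mul h2, ← map_add σ, hσ, mul_assoc _ _ (wOp ψ u),
      wOp_mul h2, show -(u + v) + u = -v by abel, Matrix.smul_mul, Matrix.smul_mul, Matrix.mul_smul]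
    congr 2
    simp only [brk, hi, lo, Pi.add_apply, Pi.neg_apply, dotProduct, mul_add, add_mul, neg_mul, mul_neg,
      Finset.sum_add_distrib, Finset.sum_neg_distrib]
    ring
  obtain ⟨X, hX⟩ : ∃ X, A X ≠ 0 := by
    by_contra hc
    push_neg at hc
    have key : ∀ x i : Fin m → F, ∑ v, wOp ψ (σ v) x i • wOp ψ (-v) = 0 := by
      intro x i
      ext j y
      have h1 := congrFun (congrFun (hc (Matrix.single i j 1)) x) y
      simp only [A, Matrix.sum_apply, Matrix.zero_apply] at h1
      rw [Matrix.sum_apply, Matrix.zero_apply]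
      refine Eq.trans (Finset.sum_congr rfl fun v _ => ?_) h1
      rw [Matrix.smul_apply, smul_eq_mul, Matrix.mul_apply, Finset.sum_eq_single j]
      · simp
      · intro b _ hb
        simp [Matrix.mul_single_apply_of_ne, Ne.symm hb, hb]
      · simp
    have h0 : (0 : Fin m → F) = 0 := rfl
    have h1 := key 0 0
    rw [← Equiv.sum_comp (Equiv.neg (Fin m ⊕ Fin m → F))] at h1
    simp only [Equiv.neg_apply, neg_neg, map_neg] at h1
    have h2' := wOp_indep hψ h1 0
    rw [map_zero, neg_zero, wOp_zero, Matrix.one_apply_eq] at h2'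
    exact one_ne_zero h2'
  exact ⟨A X, isUnit_intertwiner hψ hX (hA X), hA X⟩

theorem par_comm (h2 : (2 : F) ≠ 0) (hψ : ψ.IsPrimitive)
    {σ : (Fin m ⊕ Fin m → F) →ₗ[F] (Fin m ⊕ Fin m → F)} {T : Op F m} (hT : IsUnit T)
    (h : ∀ v, wOp ψ (σ v) * T = T * wOp ψ v) : T * par F m = par F m * T := by
  obtain ⟨u, rfl⟩ := hT
  have h' : ∀ v, wOp ψ (σ v) * (par F m * (u : Op F m) * par F m) =
      par F m * (u : Op F m) * par F m * wOp ψ v := by
    intro v
    rw [← mul_assoc, ← mul_assoc,
      show wOp ψ (σ v) * par F m = par F m * wOp ψ (σ (-v)) by rw [map_neg, par_wOp, neg_neg],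
      mul_assoc (par F m), h, ← mul_assoc, mul_assoc _ (wOp ψ (-v)),
      show wOp ψ (-v) * par F m = par F m * wOp ψ v from (par_wOp v).symm, ← mul_assoc]
  have hc : ∀ v, (↑u⁻¹ : Op F m) * (par F m * (u : Op F m) * par F m) * wOp ψ v =
      wOp ψ v * ((↑u⁻¹ : Op F m) * (par F m * (u : Op F m) * par F m)) := by
    intro v
    rw [mul_assoc, ← h', ← mul_assoc (↑u⁻¹ : Op F m),
      show (↑u⁻¹ : Op F m) * wOp ψ (σ v) = wOp ψ v * (↑u⁻¹ : Op F m) from by
        rw [← Units.mul_left_inj u, mul_assoc, h, mul_assoc, Units.inv_mul, mul_one, ← mul_assoc,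
          Units.inv_mul, one_mul], mul_assoc]
  obtain ⟨s, hs⟩ : ∃ s : ℂ, (↑u⁻¹ : Op F m) * (par F m * (u : Op F m) * par F m) = s • 1 :=
    ⟨_, scalar_of_commute_wOp hψ hc⟩
  have e1 : par F m * (u : Op F m) * par F m = s • (u : Op F m) := by
    rw [← Units.mul_right_inj u⁻¹, hs, Matrix.mul_smul, Units.inv_mul]
  have hss : s * s = 1 := by
    have e2 : (u : Op F m) = (s * s) • (u : Op F m) := by
      calc (u : Op F m) = par F m * (par F m * (u : Op F m) * par F m) * par F m := by
            rw [← mul_assoc, ← mul_assoc, par_sq, one_mul, mul_assoc, par_sq, mul_one]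
        _ = s • (par F m * (u : Op F m) * par F m) := by rw [e1, Matrix.mul_smul, Matrix.smul_mul, e1]
        _ = (s * s) • (u : Op F m) := by rw [e1, smul_smul]
    have e3 : ((s * s) - 1) • (u : Op F m) = 0 := by rw [sub_smul, one_smul, ← e2, sub_self]
    exact sub_eq_zero.1 ((smul_eq_zero.1 e3).resolve_right u.ne_zero)
  have e4 : (u : Op F m) * par F m = s • (par F m * (u : Op F m)) := by
    rw [← one_mul ((u : Op F m) * par F m), ← par_sq, mul_assoc, ← mul_assoc (par F m) (u : Op F m), e1,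
      Matrix.mul_smul]
  rcases mul_self_eq_one_iff.1 hss with e | e
  · rw [e4, e, one_smul]
  · exfalso
    rw [e, neg_one_smul] at e4
    have h1 : ((u : Op F m) * par F m * (↑u⁻¹ : Op F m)).trace = (par F m).trace :=
      Matrix.trace_units_conj u _
    rw [e4, neg_mul, mul_assoc, Units.mul_inv, mul_one, Matrix.trace_neg, trace_par h2] at h1
    norm_num at h1

/-! ### Normalisation -/

/-- Projection on even functions. -/
noncomputable def evenP (F : Type*) [Field F] [DecidableEq F] (m : ℕ) : Op F m :=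
  (2 : ℂ)⁻¹ • (1 + par F m)

/-- Projection on odd functions. -/
noncomputable def oddP (F : Type*) [Field F] [DecidableEq F] (m : ℕ) : Op F m :=
  (2 : ℂ)⁻¹ • (1 - par F m)

theorem evenP_add_oddP : evenP F m + oddP F m = 1 := by
  rw [evenP, oddP, ← smul_add, add_add_sub_cancel, ← two_smul ℂ (1 : Op F m), smul_smul]
  norm_num

theorem proj_rules : evenP F m * evenP F m = evenP F m ∧ oddP F m * oddP F m = oddP F m ∧
    evenP F m * oddP F m = 0 ∧ oddP F m * evenP F m = 0 := by
  refine ⟨?_, ?_, ?_, ?_⟩ <;>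
    simp only [evenP, oddP, Matrix.smul_mul, Matrix.mul_smul, smul_smul, add_mul, mul_add, sub_mul, mul_sub,
      one_mul, mul_one, par_sq] <;>
    module

/-- Determinant on even functions. -/
noncomputable def evenDet (T : Op F m) : ℂ := (T * evenP F m + oddP F m).det

/-- Determinant on odd functions. -/
noncomputable def oddDet (T : Op F m) : ℂ := (T * oddP F m + evenP F m).det

theorem evenDet_mul {T T' : Op F m} (h : T' * par F m = par F m * T') :
    evenDet (T * T') = evenDet T * evenDet T' := by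
  obtain ⟨h1, h2, h3, h4⟩ := proj_rules (F := F) (m := m)
  have c1 : evenP F m * T' = T' * evenP F m := by simp [evenP, mul_add, add_mul, h]
  have c2 : oddP F m * T' = T' * oddP F m := by simp [oddP, mul_sub, sub_mul, h]
  rw [evenDet, evenDet, evenDet, ← Matrix.det_mul]
  congr 1
  have a1 : T * evenP F m * (T' * evenP F m) = T * T' * evenP F m := by
    rw [mul_assoc, ← mul_assoc (evenP F m) T', c1, mul_assoc T', h1, ← mul_assoc]
  have a2 : oddP F m * (T' * evenP F m) = 0 := by rw [← mul_assoc, c2, mul_assoc, h4, mul_zero]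
  have a3 : T * evenP F m * oddP F m = 0 := by rw [mul_assoc, h3, mul_zero]
  rw [add_mul, mul_add, mul_add, a1, a2, a3, h2, add_zero, zero_add]

theorem oddDet_mul {T T' : Op F m} (h : T' * par F m = par F m * T') :
    oddDet (T * T') = oddDet T * oddDet T' := by
  obtain ⟨h1, h2, h3, h4⟩ := proj_rules (F := F) (m := m)
  have c1 : evenP F m * T' = T' * evenP F m := by simp [evenP, mul_add, add_mul, h]
  have c2 : oddP F m * T' = T' * oddP F m := by simp [oddP, mul_sub, sub_mul, h]
  rw [oddDet, oddDet, oddDet, ← Matrix.det_mul]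
  congr 1
  have a1 : T * oddP F m * (T' * oddP F m) = T * T' * oddP F m := by
    rw [mul_assoc, ← mul_assoc (oddP F m) T', c2, mul_assoc T', h2, ← mul_assoc]
  have a2 : evenP F m * (T' * oddP F m) = 0 := by rw [← mul_assoc, c1, mul_assoc, h3, mul_zero]
  have a3 : T * oddP F m * evenP F m = 0 := by rw [mul_assoc, h4, mul_zero]
  rw [add_mul, mul_add, mul_add, a1, a2, a3, h1, add_zero, zero_add]

/-- For even diagonal operators the two determinants differ by the value at zero. -/
theorem evenDet_diagonal (h2 : (2 : F) ≠ 0) {d : (Fin m → F) → ℂ} (hd : ∀ x, d (-x) = d x) :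
    evenDet (Matrix.diagonal d) = d 0 * oddDet (Matrix.diagonal d) ∧
      Matrix.diagonal d * par F m = par F m * Matrix.diagonal d := by
  classical
  refine ⟨?_, ?_⟩
  · let ord := Fintype.equivFin (Fin m → F)
    let ε : (Fin m → F) → ℂ := fun x => if x = 0 ∨ ord x < ord (-x) then 1 else -1
    have hεsq : ∀ x, ε x * ε x = 1 := fun x => by
      simp only [ε]; split_ifs <;> norm_num
    have hneg0 : ∀ x : Fin m → F, -x = x → x = 0 := fun x e => by
      funext i
      have h := congrFun e i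
      simp only [Pi.neg_apply] at h
      exact (mul_eq_zero.1 (show (2 : F) * x i = 0 by linear_combination -h)).resolve_left h2
    have hεneg : ∀ x, x ≠ 0 → ε (-x) = -ε x := fun x hx => by
      have hne : ord x ≠ ord (-x) := fun e => hx (hneg0 x (ord.injective e).symm)
      simp only [ε, neg_eq_zero, hx, false_or, neg_neg]
      rcases lt_or_gt_of_ne hne with h | h
      · rw [if_neg h.asymm, if_pos h]
      · rw [if_pos h, if_neg h.asymm, neg_neg]
    set K : Op F m := Matrix.diagonal ε with hK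
    set e00 : Op F m := Matrix.single 0 0 1 with he00
    have hKK : K * K = 1 := by
      rw [hK, Matrix.diagonal_mul_diagonal, ← Matrix.diagonal_one]
      exact congrArg _ (funext hεsq)
    have hKP : K * par F m * K = -par F m + (2 : ℂ) • e00 := by
      ext x y
      rw [hK, Matrix.mul_diagonal, Matrix.diagonal_mul]
      simp only [par, e00, Matrix.of_apply, Matrix.add_apply, Matrix.neg_apply, Matrix.smul_apply,
        Matrix.single_apply, smul_eq_mul]
      by_cases hy : y = -x
      · subst hy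
        by_cases hx : x = 0
        · subst hx; simp [ε]; norm_num
        · simp [hεneg x hx, hεsq, Ne.symm hx, hx]
      · by_cases hx : x = 0
        · subst hx
          have : y ≠ 0 := by simpa using hy
          simp [this, Ne.symm this]
        · simp [hy, Ne.symm hx]
    have hE : K * evenP F m * K = oddP F m + e00 ∧ K * oddP F m * K = evenP F m - e00 := by
      constructor <;>
        simp only [evenP, oddP, Matrix.mul_smul, Matrix.smul_mul, mul_add, add_mul, mul_sub, sub_mul, mul_one,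
          hKK, hKP] <;>
        module
    have hOe : oddP F m * e00 = 0 ∧ evenP F m * e00 = e00 := by
      have hPe : par F m * e00 = e00 := by
        ext x y
        rw [Matrix.mul_apply, Finset.sum_eq_single (-x)]
        · simp only [par, e00, Matrix.of_apply, if_pos, one_mul, Matrix.single_apply]
          congr 1
          simp [eq_comm]
        · intro b _ hb; simp [par, hb]
        · simp
      constructor <;> simp only [evenP, oddP, Matrix.smul_mul, sub_mul, add_mul, one_mul, hPe] <;> module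
    set D : Op F m := Matrix.diagonal d with hD
    have hDK : K * D = D * K := by
      rw [hK, hD, Matrix.diagonal_mul_diagonal, Matrix.diagonal_mul_diagonal]
      simp [mul_comm]
    have hDe : D * e00 = d 0 • e00 := by
      ext x y
      rw [hD, Matrix.diagonal_mul, Matrix.smul_apply, smul_eq_mul]
      simp only [e00, Matrix.single_apply]
      split_ifs with h
      · rw [h.1]
      · simp
    have key : K * (D * evenP F m + oddP F m) * K =
        (D * oddP F m + evenP F m) * Matrix.diagonal (fun x => if x = 0 then d 0 else 1) := by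
      have hdiag : Matrix.diagonal (fun x : Fin m → F => if x = 0 then d 0 else 1) = 1 + (d 0 - 1) • e00 := by
        ext x y
        rcases eq_or_ne x y with rfl | hxy
        · by_cases hx : x = 0
          · subst hx; simp [e00]
          · simp [e00, hx, Ne.symm hx]
        · simp only [Matrix.diagonal_apply_ne _ hxy, Matrix.add_apply, Matrix.one_apply_ne hxy, e00,
            Matrix.smul_apply, Matrix.single_apply]
          rw [if_neg (fun h => hxy (h.1.symm.trans h.2))]
          simp
      rw [mul_add, add_mul, ← mul_assoc K D, hDK, mul_assoc D K, mul_assoc D (K * evenP F m) K, hE.1, hE.2,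
        mul_add D, hDe, hdiag, mul_add, mul_one, add_mul, Matrix.mul_smul, mul_assoc, hOe.1, mul_zero,
        smul_zero, Matrix.mul_smul, hOe.2, sub_smul, one_smul]
      abel
    have h3 := congrArg Matrix.det key
    rw [Matrix.det_mul, Matrix.det_mul, Matrix.det_mul, mul_right_comm, ← Matrix.det_mul, hKK, Matrix.det_one,
      one_mul, Matrix.det_diagonal, Finset.prod_ite_eq', if_pos (Finset.mem_univ _)] at h3
    rw [evenDet, oddDet, h3, mul_comm]
  · ext x y
    rw [Matrix.diagonal_mul, Matrix.mul_diagonal]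
    simp only [par, Matrix.of_apply]
    split_ifs with h
    · rw [h, hd]; ring
    · ring

end CfsgLib.MinDeg
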